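import Mathlib

/-!
The configuration of the centraliser `X` of a `2A`-involution `t` in the subgroup of index three: an elementary abelian `A` of order `27`
and four quaternion groups, one for each pair `±h` of coordinate functionals without zero entry.
-/

set_option autoImplicit false

namespace Cfsg.Agent.Spor.OmegaEightThree.X

/-- The coordinate space. -/
abbrev Vec := Fin 3 → ZMod 3

/-- The number of nonzero coordinates. -/
def wt (v : Vec) : ℕ := (Finset.univ.filter fun i => v i ≠ 0).card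

/-- The signed permutation of coordinates. -/
def mono (π : Equiv.Perm (Fin 3)) (ε : Fin 3 → (ZMod 3)ˣ) (v : Vec) : Vec :=
  fun i => (ε i : ZMod 3) * v (π i)

/-- The pairing of a functional and a vector. -/
def dot (h v : Vec) : ZMod 3 := ∑ i, h i * v i

/-- The data of `X = C_G(t)`. -/
structure Conf (X : Type*) [Group X] where
  t : X
  e : Multiplicative Vec →* X
  R : Vec → Subgroup X
  t_central : ∀ g, g * t = t * g
  t_sq : t * t = 1
  t_ne : t ≠ 1
  e_inj : Function.Injective e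
  R_neg : ∀ h, wt h = 3 → R (-h) = R h
  card_R : ∀ h, wt h = 3 → Nat.card (R h) = 8
  t_mem : ∀ h, wt h = 3 → t ∈ R h
  R_sq : ∀ h, wt h = 3 → ∀ x ∈ R h, x ≠ 1 → x ≠ t → x * x = t
  R_norm : ∀ h v, wt h = 3 → ∀ x ∈ R h,
    e (Multiplicative.ofAdd v) * x * (e (Multiplicative.ofAdd v))⁻¹ ∈ R h
  R_fix : ∀ h v, wt h = 3 → dot h v = 0 → ∀ x ∈ R h,
    e (Multiplicative.ofAdd v) * x = x * e (Multiplicative.ofAdd v)
  R_move : ∀ h v, wt h = 3 → dot h v ≠ 0 → ∀ x ∈ R h,
    e (Multiplicative.ofAdd v) * x = x * e (Multiplicative.ofAdd v) → x = 1 ∨ x = t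
  R_comm : ∀ h k, wt h = 3 → wt k = 3 → h ≠ k → h ≠ -k → ∀ x ∈ R h, ∀ y ∈ R k, x * y = y * x
  /-- The centralisers of the elements of weight at least two. -/
  cent : ∀ v, 2 ≤ wt v → ∀ g, g * e (Multiplicative.ofAdd v) = e (Multiplicative.ofAdd v) * g →
    ∃ y k : X, g = y * k ∧ y ∈ (⨆ (h : Vec) (_ : wt h = 3), R h) ∧
      y * e (Multiplicative.ofAdd v) = e (Multiplicative.ofAdd v) * y ∧
      k ∈ Subgroup.normalizer (e.range : Set X)
  /-- The centraliser of `A`. -/
  centA : ∀ g, (∀ v, g * e (Multiplicative.ofAdd v) = e (Multiplicative.ofAdd v) * g) →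
    ∃ v, g = e (Multiplicative.ofAdd v) ∨ g = e (Multiplicative.ofAdd v) * t
  /-- The automiser of `A` consists of sign changes. -/
  auto : ∀ k ∈ Subgroup.normalizer (e.range : Set X), ∃ ε,
    (∀ v, k * e (Multiplicative.ofAdd v) * k⁻¹ = e (Multiplicative.ofAdd (mono 1 ε v))) ∧
    ∀ h, wt h = 3 → (R h).map (MulAut.conj k).toMonoidHom = R (mono 1 ε h)
  /-- All sign changes occur. -/
  sign : ∀ ε : Fin 3 → (ZMod 3)ˣ, ∃ k ∈ Subgroup.normalizer (e.range : Set X),
    ∀ v, k * e (Multiplicative.ofAdd v) * k⁻¹ = e (Multiplicative.ofAdd (mono 1 ε v))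

namespace Conf

variable {X : Type*} [Group X] (T : Conf X)

/-- The product of the four quaternion groups. -/
def Y : Subgroup X := ⨆ (h : Vec) (_ : wt h = 3), T.R h

/-- The subgroup `A`. -/
def A : Subgroup X := T.e.range

end Conf

end Cfsg.Agent.Spor.OmegaEightThree.X
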