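import Cfsg.Agent.Lib.Spor.OmegaEightThree.X.Conf

/-!
Sign changes of three coordinates and their action on the four pairs `±h` of functionals without zero
entry.
-/

set_option autoImplicit false

namespace Cfsg.Agent.Spor.OmegaEightThree.X

/-- The sign changes. -/
abbrev Sgn := Fin 3 → (ZMod 3)ˣ

/-- The four representatives. -/
def hh : Fin 4 → Vec := ![![1, 1, 1], ![1, 1, -1], ![1, -1, 1], ![-1, 1, 1]]

/-- The index of the pair `±w`. -/
def idx (w : Vec) : Fin 4 :=
  if w 0 * w 1 = 1 then (if w 0 * w 2 = 1 then 0 else 1) else (if w 0 * w 2 = 1 then 2 else 3)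

/-- The permutation of the pairs induced by a sign change. -/
def act (ε : Sgn) (i : Fin 4) : Fin 4 := idx (mono 1 ε (hh i))

/-- The sign change of the coordinate `i`. -/
def flipSgn (i : Fin 3) : Sgn := Pi.mulSingle i (-1)

theorem hh_wt : ∀ i, wt (hh i) = 3 := by decide +kernel

theorem idx_hh : ∀ i, idx (hh i) = i := by decide +kernel

theorem hh_idx : ∀ h : Vec, wt h = 3 → hh (idx h) = h ∨ hh (idx h) = -h := by decide +kernel

theorem act_one : ∀ i, act 1 i = i := by decide +kernel

theorem act_mul : ∀ (ε δ : Sgn) (i : Fin 4), act (ε * δ) i = act ε (act δ i) := by decide +kernel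

theorem act_act : ∀ (ε : Sgn) (i : Fin 4), act ε (act ε i) = i := by decide +kernel

theorem act_ne : ∀ ε : Sgn, ε ≠ 1 → ε ≠ -1 → ∀ i, act ε i ≠ i := by decide +kernel

theorem act_neg_one : ∀ i, act (-1) i = i := by decide +kernel

theorem act_fixed : ∀ (ε : Sgn) (i : Fin 4), act ε i = i → ε = 1 ∨ ε = -1 := by decide +kernel

theorem act_trans : ∀ i j : Fin 4, ∃ ε : Sgn, act ε i = j := by decide +kernel

theorem sgn_sq : ∀ ε : Sgn, ε * ε = 1 := by decide +kernel

theorem mono_one : ∀ v : Vec, mono 1 1 v = v := by decide +kernel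

theorem mono_mul : ∀ (ε δ : Sgn) (v : Vec), mono 1 ε (mono 1 δ v) = mono 1 (ε * δ) v := fun ε δ v => by
  funext i; simp [mono, mul_assoc]

theorem mono_add (ε : Sgn) (v w : Vec) : mono 1 ε (v + w) = mono 1 ε v + mono 1 ε w := by
  funext i; simp [mono, mul_add]

theorem mono_inj : ∀ ε δ : Sgn, mono 1 ε ![1, 1, 1] = mono 1 δ ![1, 1, 1] → ε = δ := by decide +kernel

theorem dot_act : ∀ (ε : Sgn) (i : Fin 4) (v : Vec),
    dot (hh (act ε i)) (mono 1 ε v) = 0 ↔ dot (hh i) v = 0 := by decide +kernel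

end Cfsg.Agent.Spor.OmegaEightThree.X
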