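import Cfsg.Agent.Lib.Spor.OmegaEightThree.X.FromConf
import Cfsg.Agent.Lib.Fusion.LocalConstrained
import Cfsg.Agent.Lib.Solv.Extraspecial

/-!
The shape of the centraliser of the involution: the extraspecial core and the quotient by it.
-/

set_option autoImplicit false
set_option linter.unusedSectionVars false
set_option linter.style.haveILetI false

namespace Cfsg.Agent.Spor.OmegaEightThree.X

open Subgroup (centralizer normalizer)

/-- The affine permutation `w ↦ v + s w`. -/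
def aff (v : ZMod 3) (s : (ZMod 3)ˣ) : Equiv.Perm (ZMod 3) :=
  Equiv.trans ⟨fun w => (s : ZMod 3) * w, fun w => (s⁻¹ : (ZMod 3)ˣ) * w,
    fun w => Units.inv_mul_cancel_left s w, fun w => Units.mul_inv_cancel_left s w⟩ (Equiv.addLeft v)

theorem aff_apply (v : ZMod 3) (s : (ZMod 3)ˣ) (w : ZMod 3) : aff v s w = v + s * w := rfl

theorem aff_mul (v v' : ZMod 3) (s s' : (ZMod 3)ˣ) : aff (v + s * v') (s * s') = aff v s * aff v' s' := by
  ext w
  simp only [aff_apply, Equiv.Perm.mul_apply, Units.val_mul]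
  ring

theorem aff_one : ∀ (v : ZMod 3) (s : (ZMod 3)ˣ), aff v s = 1 → v = 0 ∧ s = 1 := by decide +kernel

theorem aff_surj : ∀ σ : Equiv.Perm (ZMod 3), ∃ (v : ZMod 3) (s : (ZMod 3)ˣ), aff v s = σ := by decide +kernel

namespace Flat

variable {X : Type*} [Group X] [Finite X] (T : Flat X)

/-- Three affine permutations. -/
abbrev S3Cube : Type := Equiv.Perm (ZMod 3) × Equiv.Perm (ZMod 3) × Equiv.Perm (ZMod 3)

/-- The permutations of a monomial map with translation. -/
def triple (v : Vec) (ε : Sgn) : S3Cube := (aff (v 0) (ε 0), aff (v 1) (ε 1), aff (v 2) (ε 2))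

theorem triple_one : triple 0 1 = 1 := by decide +kernel

theorem dec (g : X) : ∃ y v ε, y ∈ T.V ∧ g = y * (T.a v * T.sg ε) := by
  obtain ⟨y, hy, v, ε, h⟩ := T.dec_M (g := g) (by rw [T.M_top]; exact Subgroup.mem_top _)
  exact ⟨y, v, ε, hy, h⟩

/-- The action on the three coordinates. -/
noncomputable def coord (g : X) : S3Cube :=
  triple (T.dec g).choose_spec.choose (T.dec g).choose_spec.choose_spec.choose

theorem coord_eq {g y : X} {v : Vec} {ε : Sgn} (hy : y ∈ T.V) (h : g = y * (T.a v * T.sg ε)) :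
    T.coord g = triple v ε := by
  obtain ⟨hy', h'⟩ := (T.dec g).choose_spec.choose_spec.choose_spec
  obtain ⟨-, e1, e2⟩ := T.dec_eq hy' hy (h'.symm.trans h)
  exact congrArg₂ triple e1 e2

/-- The action on the three coordinates, as a homomorphism. -/
noncomputable def coordHom : X →* S3Cube :=
  MonoidHom.mk' T.coord fun g g' => by
    obtain ⟨y, v, ε, hy, hg⟩ := T.dec g
    obtain ⟨y', v', ε', hy', hg'⟩ := T.dec g'
    rw [T.coord_eq hy hg, T.coord_eq hy' hg']
    haveI := T.V_normal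
    rw [T.coord_eq (y := y * ((T.a v * T.sg ε) * y' * (T.a v * T.sg ε)⁻¹)) (v := v + mono 1 ε v') (ε := ε * ε')
      (mul_mem hy (T.V_normal.conj_mem _ hy' _)) ?_]
    · show (_, _, _) = (_, _, _) * (_, _, _)
      simp only [Prod.mk_mul_mk, ← aff_mul, Pi.add_apply, Pi.mul_apply, mono, Equiv.Perm.coe_one, id_eq]
    · rw [hg, hg', T.a_add, map_mul T.sg, ← T.sg_conj ε v']
      group

theorem coordHom_apply (g : X) : T.coordHom g = T.coord g := rfl

theorem coordHom_ker : T.coordHom.ker = T.V := by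
  ext g
  obtain ⟨y, v, ε, hy, hg⟩ := T.dec g
  rw [MonoidHom.mem_ker, coordHom_apply, T.coord_eq hy hg]
  constructor
  · intro h
    simp only [triple, Prod.mk_eq_one] at h
    obtain ⟨h0, h1, h2⟩ := h
    obtain ⟨a0, b0⟩ := aff_one _ _ h0
    obtain ⟨a1, b1⟩ := aff_one _ _ h1
    obtain ⟨a2, b2⟩ := aff_one _ _ h2
    have hv : v = 0 := by funext i; fin_cases i <;> assumption
    have he : ε = 1 := by funext i; fin_cases i <;> assumption
    rw [hg, hv, he, T.a_zero, map_one, mul_one, mul_one]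
    exact hy
  · intro h
    obtain ⟨-, rfl, rfl⟩ := T.dec_eq hy h (v' := 0) (ε' := 1)
      (by rw [← hg, T.a_zero, map_one, mul_one, mul_one])
    exact triple_one

theorem coordHom_surj : Function.Surjective T.coordHom := by
  rintro ⟨p, q, r⟩
  obtain ⟨a0, b0, rfl⟩ := aff_surj p
  obtain ⟨a1, b1, rfl⟩ := aff_surj q
  obtain ⟨a2, b2, rfl⟩ := aff_surj r
  exact ⟨1 * (T.a ![a0, a1, a2] * T.sg ![b0, b1, b2]), T.coord_eq (one_mem _) rfl⟩

end Flat

namespace Conf

variable {X : Type*} [Group X] [Finite X] (T : Conf X)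
include T

theorem pCore_eq : Cfsg.pCore 2 X = T.Y := by
  haveI : Fact (Nat.Prime 2) := ⟨Nat.prime_two⟩
  haveI := T.normal_Y
  have hY : T.Y ≤ Cfsg.pCore 2 X := Fusion.le_pCore (IsPGroup.of_card (n := 9) T.card_Y)
  refine le_antisymm (fun p hp => ?_) hY
  obtain ⟨y, hy, k, hk, rfl⟩ : ∃ y ∈ T.Y, ∃ k ∈ normalizer (T.A : Set X), p = y * k := by
    have h1 : p ∈ T.Y ⊔ normalizer (T.A : Set X) := by rw [T.top]; exact Subgroup.mem_top _
    obtain ⟨y, hy, k, hk, h⟩ := Subgroup.mem_sup_of_normal_left.1 h1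
    exact ⟨y, hy, k, hk, h.symm⟩
  have hkP : k ∈ Cfsg.pCore 2 X := by
    have := mul_mem (inv_mem (hY hy)) hp
    rwa [inv_mul_cancel_left] at this
  refine mul_mem hy ?_
  have hone : ∀ x ∈ T.A, x ∈ Cfsg.pCore 2 X → x = 1 := by
    rintro _ ⟨v, rfl⟩ hx
    obtain ⟨n, hn⟩ := Fusion.isPGroup_pCore 2 X ⟨_, hx⟩
    refine orderOf_eq_one_iff.1 (Nat.eq_one_of_dvd_coprimes (a := 3) (b := 2 ^ n)
      (Nat.Coprime.pow_right n (by norm_num)) (orderOf_dvd_of_pow_eq_one ?_)
      (orderOf_dvd_of_pow_eq_one (congrArg Subtype.val hn)))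
    exact T.a_cube v.toAdd
  have hcomm : ∀ v, k * T.a v = T.a v * k := by
    intro v
    refine mul_inv_eq_one.1 ?_
    have hav : T.a v ∈ T.A := ⟨_, rfl⟩
    have h1 : k * T.a v * k⁻¹ * (T.a v)⁻¹ ∈ T.A :=
      mul_mem ((Subgroup.mem_normalizer_iff.1 hk _).1 hav) (inv_mem hav)
    have h2 : k * (T.a v * k⁻¹ * (T.a v)⁻¹) ∈ Cfsg.pCore 2 X :=
      mul_mem hkP ((inferInstance : (Cfsg.pCore 2 X).Normal).conj_mem _ (inv_mem hkP) _)
    rw [mul_inv_rev, ← hone _ h1 (by simpa only [mul_assoc] using h2)]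
    group
  obtain ⟨v, rfl | rfl⟩ := T.centA k hcomm
  · rw [hone _ ⟨_, rfl⟩ hkP]
    exact one_mem _
  · have ht : T.t ∈ T.Y := T.Z_le_Y (Subgroup.mem_zpowers _)
    have h3 : T.a v ∈ Cfsg.pCore 2 X := by
      have := mul_mem hkP (inv_mem (hY ht))
      rwa [mul_inv_cancel_right] at this
    show T.e (Multiplicative.ofAdd v) * T.t ∈ T.Y
    rw [hone _ ⟨_, rfl⟩ h3, one_mul]
    exact ht

theorem centralizer_pCore_le : centralizer ((Cfsg.pCore 2 X : Subgroup X) : Set X) ≤ Cfsg.pCore 2 X := by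
  rw [T.pCore_eq, T.cent_Y]
  exact T.Z_le_Y

theorem gfit_eq : Cfsg.generalizedFittingSubgroup X = T.Y := by
  haveI : Fact (Nat.Prime 2) := ⟨Nat.prime_two⟩
  rw [(Fusion.gfit_eq_pCore_iff (p := 2)).2 T.centralizer_pCore_le, T.pCore_eq]

theorem extraspecial_Y : Cfsg.IsExtraspecial 2 T.Y := by
  haveI : Fact (Nat.Prime 2) := ⟨Nat.prime_two⟩
  have hc : ∀ x : T.Y, x ∈ Subgroup.center T.Y ↔ (x : X) ∈ T.Z := fun x => by
    refine ⟨fun h => ?_, fun h => Subgroup.mem_center_iff.2 fun y => Subtype.ext (T.Z_central h y)⟩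
    have h1 : (x : X) ∈ centralizer (T.Y : Set X) := Subgroup.mem_centralizer_iff.2 fun y hy =>
      congrArg Subtype.val (Subgroup.mem_center_iff.1 h ⟨y, hy⟩)
    rwa [T.cent_Y] at h1
  have hcc : Nat.card (Subgroup.center T.Y) = 2 := by
    rw [show Subgroup.center T.Y = T.Z.subgroupOf T.Y from Subgroup.ext hc,
      Nat.card_congr (Subgroup.subgroupOfEquivOfLe T.Z_le_Y).toEquiv, T.card_Z]
  have hsq : ∀ x : T.Y, x ^ 2 ∈ Subgroup.center T.Y := fun x => (hc _).2 (T.q_one.1 (by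
    rw [SubgroupClass.coe_pow, map_pow, pow_two]
    exact T.flat.V_sq (by rw [T.flat_V]; exact Subgroup.mem_map_of_mem _ x.2)))
  refine Solv.isExtraspecial_of (IsPGroup.of_card (n := 9) T.card_Y) hcc ?_ hsq
  have hle : commutator T.Y ≤ Subgroup.center T.Y := by
    rw [commutator_def, Subgroup.commutator_le]
    intro a _ b _
    exact (hc _).2 (T.com_Y _ a.2 _ b.2)
  refine Subgroup.eq_of_le_of_card_ge hle ?_
  rw [hcc]
  by_contra hlt
  have h1 : commutator T.Y = ⊥ := Subgroup.eq_bot_of_card_le _ (by omega)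
  have h2 : Subgroup.center T.Y = ⊤ := eq_top_iff.2 fun x _ => Subgroup.mem_center_iff.2 fun y => by
    have h := Subgroup.commutator_mem_commutator (Subgroup.mem_top y) (Subgroup.mem_top x)
    rw [← commutator_def, h1, Subgroup.mem_bot] at h
    exact commutatorElement_eq_one_iff_mul_comm.1 h
  rw [h2, Subgroup.card_top, T.card_Y] at hcc
  norm_num at hcc

/-- The quotient by the core. -/
theorem quotient_pCore : Nonempty (X ⧸ Cfsg.pCore 2 X ≃*
    Equiv.Perm (Fin 3) × Equiv.Perm (Fin 3) × Equiv.Perm (Fin 3)) := by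
  have hker : (T.flat.coordHom.comp T.q).ker = Cfsg.pCore 2 X := by
    rw [← MonoidHom.comap_ker, T.flat.coordHom_ker, ← T.Y_comap, T.pCore_eq]
  have hsurj : Function.Surjective (T.flat.coordHom.comp T.q) :=
    T.flat.coordHom_surj.comp (QuotientGroup.mk'_surjective _)
  exact ⟨(QuotientGroup.quotientMulEquivOfEq hker.symm).trans (QuotientGroup.quotientKerEquivOfSurjective _ hsurj)⟩

theorem glue : Cfsg.IsExtraspecial 2 (Cfsg.generalizedFittingSubgroup X) ∧
    Nat.card (Cfsg.generalizedFittingSubgroup X) = 2 ^ 9 ∧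
    Nonempty (X ⧸ Cfsg.pCore 2 X ≃* Equiv.Perm (Fin 3) × Equiv.Perm (Fin 3) × Equiv.Perm (Fin 3)) ∧
    Cfsg.pCore 2 X = T.Y ∧ centralizer ((Cfsg.pCore 2 X : Subgroup X) : Set X) ≤ Cfsg.pCore 2 X := by
  rw [T.gfit_eq]
  exact ⟨T.extraspecial_Y, T.card_Y, T.quotient_pCore, T.pCore_eq, T.centralizer_pCore_le⟩

end Conf

end Cfsg.Agent.Spor.OmegaEightThree.X
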