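import Cfsg.Agent.Lib.Spor.OmegaEightThree.X.Flat

/-!
The normaliser of `A` is `A` extended by the eight sign changes; `A` is a Sylow `3`-subgroup, and fusion
inside it is given by sign changes.
-/

set_option autoImplicit false
set_option linter.unusedSectionVars false

namespace Cfsg.Agent.Spor.OmegaEightThree.X

open Subgroup (centralizer normalizer)
open scoped Pointwise

namespace Flat

variable {X : Type*} [Group X] [Finite X] (T : Flat X)

/-- The normaliser of `A`. -/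
abbrev N : Subgroup X := normalizer (T.A : Set X)

/-- The sign change induced by an element of `N(A)`. -/
noncomputable def th (k : T.N) : Sgn := (T.auto k k.2).choose

theorem th_conj (k : T.N) (v : Vec) : (k : X) * T.a v * (k : X)⁻¹ = T.a (mono 1 (T.th k) v) :=
  (T.auto k k.2).choose_spec.1 v

theorem th_R (k : T.N) (i : Fin 4) {x : X} (hx : x ∈ T.R i) :
    (k : X) * x * (k : X)⁻¹ ∈ T.R (act (T.th k) i) :=
  (T.auto k k.2).choose_spec.2 i x hx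

theorem th_unique (k : T.N) {ε : Sgn} (h : ∀ v, (k : X) * T.a v * (k : X)⁻¹ = T.a (mono 1 ε v)) :
    T.th k = ε :=
  mono_inj _ _ (T.a_inj ((T.th_conj k _).symm.trans (h _)))

/-- The action of `N(A)` as a homomorphism to the sign changes. -/
noncomputable def thHom : T.N →* Sgn :=
  MonoidHom.mk' T.th fun k k' => T.th_unique _ fun v => by
    rw [Subgroup.coe_mul, ← mono_mul, ← T.th_conj k, ← T.th_conj k']
    group

theorem thHom_surjective : Function.Surjective T.thHom := fun ε => by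
  obtain ⟨k, hk, h⟩ := T.sign ε
  exact ⟨⟨k, hk⟩, T.th_unique _ h⟩

theorem thHom_ker : T.thHom.ker = T.A.subgroupOf T.N := by
  ext k
  rw [MonoidHom.mem_ker, Subgroup.mem_subgroupOf]
  constructor
  · intro h
    refine T.centA _ fun v => ?_
    have e := T.th_conj k v
    rw [show T.th k = 1 from h, mono_one] at e
    exact mul_inv_eq_iff_eq_mul.1 e
  · intro h
    obtain ⟨w, hw⟩ := T.mem_A.1 h
    refine T.th_unique k fun v => ?_
    rw [mono_one, ← hw, T.a_comm w v, mul_inv_cancel_right]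

theorem card_N : Nat.card T.N = 216 := by
  rw [Subgroup.card_eq_card_quotient_mul_card_subgroup T.thHom.ker,
    Nat.card_congr (QuotientGroup.quotientKerEquivOfSurjective T.thHom T.thHom_surjective).toEquiv,
    T.thHom_ker, Nat.card_congr (Subgroup.subgroupOfEquivOfLe T.A_le_normalizer).toEquiv, T.card_A]
  rw [show Nat.card Sgn = 8 by rw [Nat.card_eq_fintype_card]; rfl]

theorem exists_sg : ∃ s : Sgn →* X, ∀ ε, s ε ∈ T.N ∧ ∀ h : s ε ∈ T.N, T.th ⟨s ε, h⟩ = ε := by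
  haveI : Fact (Nat.Prime 2) := ⟨Nat.prime_two⟩
  obtain ⟨H, hH⟩ := Sylow.exists_subgroup_card_pow_prime (G := T.N) 2 (n := 3) (by rw [T.card_N]; norm_num)
  have hinj : Function.Injective (T.thHom.comp H.subtype) := by
    rw [injective_iff_map_eq_one]
    intro x hx
    have hxA : (x : T.N) ∈ T.thHom.ker := hx
    rw [T.thHom_ker] at hxA
    refine Subtype.ext (orderOf_eq_one_iff.1 (Nat.eq_one_of_dvd_coprimes (a := 2 ^ 3) (b := 27) (by norm_num) ?_ ?_))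
    · rw [← hH]; exact Subgroup.orderOf_dvd_natCard _ x.2
    · rw [show (27 : ℕ) = Nat.card (T.A.subgroupOf T.N) by
        rw [Nat.card_congr (Subgroup.subgroupOfEquivOfLe T.A_le_normalizer).toEquiv, T.card_A]]
      exact Subgroup.orderOf_dvd_natCard _ hxA
  have hbij := (Nat.bijective_iff_injective_and_card (T.thHom.comp H.subtype)).2
    ⟨hinj, by rw [hH, Nat.card_eq_fintype_card]; rfl⟩
  refine ⟨(T.N.subtype.comp H.subtype).comp (MulEquiv.ofBijective _ hbij).symm.toMonoidHom,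
    fun ε => ⟨Subtype.coe_prop _, fun h => ?_⟩⟩
  exact (MulEquiv.ofBijective _ hbij).apply_symm_apply ε

/-- A complement to `A` in `N(A)`. -/
noncomputable def sg : Sgn →* X := T.exists_sg.choose

theorem sg_mem (ε : Sgn) : T.sg ε ∈ T.N := (T.exists_sg.choose_spec ε).1

theorem th_sg (ε : Sgn) : T.th ⟨T.sg ε, T.sg_mem ε⟩ = ε := (T.exists_sg.choose_spec ε).2 _

theorem sg_conj (ε : Sgn) (v : Vec) : T.sg ε * T.a v * (T.sg ε)⁻¹ = T.a (mono 1 ε v) := by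
  have h := T.th_conj ⟨_, T.sg_mem ε⟩ v
  rwa [T.th_sg] at h

theorem sg_R (ε : Sgn) (i : Fin 4) {x : X} (hx : x ∈ T.R i) : T.sg ε * x * (T.sg ε)⁻¹ ∈ T.R (act ε i) := by
  have h := T.th_R ⟨_, T.sg_mem ε⟩ i hx
  rwa [T.th_sg] at h

theorem sg_sq (ε : Sgn) : T.sg ε * T.sg ε = 1 := by rw [← map_mul, sgn_sq, map_one]

theorem sg_inv (ε : Sgn) : (T.sg ε)⁻¹ = T.sg ε := inv_eq_of_mul_eq_one_right (T.sg_sq ε)

theorem sg_le_M (ε : Sgn) : T.sg ε ∈ T.M := Subgroup.mem_sup_right (T.sg_mem ε)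

theorem dec_N {k : X} (hk : k ∈ T.N) : ∃ v ε, k = T.a v * T.sg ε := by
  obtain ⟨ε, hε⟩ : ∃ ε, ε = T.th ⟨k, hk⟩ := ⟨_, rfl⟩
  have h : (⟨k, hk⟩ : T.N) * ⟨T.sg ε, T.sg_mem ε⟩ ∈ T.thHom.ker := by
    rw [MonoidHom.mem_ker, map_mul]
    show T.th _ * T.th _ = 1
    rw [T.th_sg, ← hε, sgn_sq]
  rw [T.thHom_ker] at h
  obtain ⟨v, hv⟩ := T.mem_A.1 (Subgroup.mem_subgroupOf.1 h)
  exact ⟨v, ε, by rw [hv]; show k = k * T.sg ε * T.sg ε; rw [mul_assoc, T.sg_sq, mul_one]⟩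

theorem a_sg_mem (v : Vec) (ε : Sgn) : T.a v * T.sg ε ∈ T.N := mul_mem (T.A_le_normalizer (T.a_mem v)) (T.sg_mem ε)

theorem a_sg_conj (v w : Vec) (ε : Sgn) :
    T.a v * T.sg ε * T.a w * (T.a v * T.sg ε)⁻¹ = T.a (mono 1 ε w) :=
  calc T.a v * T.sg ε * T.a w * (T.a v * T.sg ε)⁻¹
      = T.a v * (T.sg ε * T.a w * (T.sg ε)⁻¹) * (T.a v)⁻¹ := by group
    _ = T.a (mono 1 ε w) := by rw [T.sg_conj, T.a_comm, mul_inv_cancel_right]

theorem dec_M {g : X} (hg : g ∈ T.M) : ∃ y ∈ T.V, ∃ v ε, g = y * (T.a v * T.sg ε) := by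
  obtain ⟨y, hy, k, hk, rfl⟩ := T.mem_M.1 hg
  obtain ⟨v, ε, rfl⟩ := T.dec_N hk
  exact ⟨y, hy, v, ε, rfl⟩

theorem dec_eq {y y' : X} {v v' : Vec} {ε ε' : Sgn} (hy : y ∈ T.V) (hy' : y' ∈ T.V)
    (h : y * (T.a v * T.sg ε) = y' * (T.a v' * T.sg ε')) : y = y' ∧ v = v' ∧ ε = ε' := by
  obtain ⟨h1, h2⟩ := T.dec_unique hy hy' (T.a_sg_mem v ε) (T.a_sg_mem v' ε') h
  have he : ε = ε' := by
    refine mono_inj _ _ (T.a_inj ?_)
    rw [← T.a_sg_conj v _ ε, h2, T.a_sg_conj]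
  subst he
  exact ⟨h1, T.a_inj (mul_right_cancel h2), rfl⟩

theorem N_sq {k : X} (hk : k ∈ T.N) : k * k ∈ T.A := by
  have h : (⟨k, hk⟩ : T.N) * ⟨k, hk⟩ ∈ T.thHom.ker := by
    rw [MonoidHom.mem_ker, map_mul, sgn_sq]
  rw [T.thHom_ker] at h
  exact h

theorem sylow_A : ∃ P : Sylow 3 X, (P : Subgroup X) = T.A := by
  haveI : Fact (Nat.Prime 3) := ⟨Nat.prime_three⟩
  obtain ⟨P, hAP⟩ := (IsPGroup.of_card (p := 3) (G := T.A) (n := 3) (by rw [T.card_A]; norm_num)).exists_le_sylow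
  refine ⟨P, ?_⟩
  by_contra hne
  haveI : Group.IsNilpotent P := P.2.isNilpotent
  have hlt : T.A.subgroupOf P < ⊤ := lt_top_iff_ne_top.2 fun h =>
    hne (le_antisymm (Subgroup.subgroupOf_eq_top.1 h) hAP)
  obtain ⟨g, hg, hgA⟩ := SetLike.exists_of_lt ((Group.normalizerCondition_of_isNilpotent (G := P)) _ hlt)
  have hgN : (g : X) ∈ T.N := by
    rw [N, Subgroup.mem_normalizer_iff]
    intro h
    rw [Subgroup.mem_normalizer_iff] at hg
    refine ⟨fun hh => (hg ⟨h, hAP hh⟩).1 hh, fun hh => ?_⟩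
    have hP' : h ∈ (P : Subgroup X) := by
      have := P.1.mul_mem (P.1.mul_mem (P.1.inv_mem g.2) (hAP hh)) g.2
      rwa [show (g : X)⁻¹ * ((g : X) * h * (g : X)⁻¹) * g = h by group] at this
    exact (hg ⟨h, hP'⟩).2 hh
  obtain ⟨k, hk⟩ := P.2 g
  obtain ⟨m, hm⟩ : Odd (3 ^ k) := Odd.pow (by decide)
  refine hgA ?_
  show (g : X) ∈ T.A
  have h1 : (g : X) ^ (2 * m + 1) = 1 := by rw [← hm]; exact congrArg Subtype.val hk
  rw [pow_succ, pow_mul, pow_two] at h1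
  rw [eq_inv_of_mul_eq_one_right h1]
  exact inv_mem (pow_mem (T.N_sq hgN) m)

/-- Fusion inside `A` is by sign changes. -/
theorem fusion {g : X} {v w : Vec} (h : g * T.a v * g⁻¹ = T.a w) : ∃ ε : Sgn, mono 1 ε v = w := by
  haveI : Fact (Nat.Prime 3) := ⟨Nat.prime_three⟩
  obtain ⟨P, hP⟩ := T.sylow_A
  have hm : ∀ {x : X}, x ∈ (P : Subgroup X) ↔ x ∈ T.A := fun {x} => by rw [hP]
  haveI : IsMulCommutative (P : Subgroup X) := ⟨⟨fun x y => Subtype.ext (by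
    obtain ⟨vx, hx⟩ := T.mem_A.1 (hm.1 x.2)
    obtain ⟨vy, hy⟩ := T.mem_A.1 (hm.1 y.2)
    show (x : X) * y = y * x
    rw [← hx, ← hy, T.a_comm])⟩⟩
  obtain ⟨n, hn, e⟩ := P.conj_eq_normalizer_conj_of_mem (T.a v) g⁻¹ (hm.2 (T.a_mem v))
    (show g⁻¹⁻¹ * T.a v * g⁻¹ ∈ (P : Subgroup X) by rw [inv_inv, h]; exact hm.2 (T.a_mem w))
  rw [inv_inv, h] at e
  have hn' : n⁻¹ ∈ T.N := inv_mem (by
    have hs : ((P : Subgroup X) : Set X) = (T.A : Set X) := by rw [hP]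
    show n ∈ normalizer (T.A : Set X)
    rwa [← hs])
  refine ⟨T.th ⟨n⁻¹, hn'⟩, T.a_inj ?_⟩
  rw [← T.th_conj ⟨n⁻¹, hn'⟩ v, e, inv_inv]

/-- An element centralising `v` of weight at least two and `u`. -/
theorem cent_two {g : X} {u w : Vec} (hw : 2 ≤ wt w) (hgw : g * T.a w = T.a w * g)
    (hgu : g * T.a u = T.a u * g) :
    ∃ y ∈ T.V, ∃ k ∈ T.N, g = y * k ∧ y * T.a w = T.a w * y ∧ y * T.a u = T.a u * y ∧
      k * T.a w = T.a w * k ∧ k * T.a u = T.a u * k := by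
  obtain ⟨y, k, rfl, hy, hyw, hk⟩ := T.cent w hw g hgw
  change k ∈ T.N at hk
  have e := T.th_conj ⟨k, hk⟩ u
  have hconj : y * T.a (mono 1 (T.th ⟨k, hk⟩) u) * y⁻¹ = T.a u := by
    rw [← e, show y * (k * T.a u * k⁻¹) * y⁻¹ = y * k * T.a u * (y * k)⁻¹ by group, hgu,
      mul_inv_cancel_right]
  obtain ⟨h1, h2⟩ := T.V_conj_A hy hconj
  rw [h1] at h2 e
  refine ⟨y, hy, k, hk, rfl, hyw, h2, ?_, mul_inv_eq_iff_eq_mul.1 e⟩
  have c1 : Commute (y * k) (T.a w) := hgw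
  have c2 : Commute y (T.a w) := hyw
  have := c2.inv_left.mul_left c1
  rwa [inv_mul_cancel_left] at this

end Flat

end Cfsg.Agent.Spor.OmegaEightThree.X
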