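import Cfsg.Agent.Lib.Spor.OmegaEightThree.X.Embedded

/-!
`C(V) = V`, and the centralisers in `N(V)` of the elements of a plane lie in `M`.
-/

set_option autoImplicit false
set_option linter.unusedSectionVars false
set_option maxHeartbeats 800000

namespace Cfsg.Agent.Spor.OmegaEightThree.X

open Subgroup (centralizer normalizer)

/-- The kernel of the functional `i`, in two coordinates. -/
def kemb (i : Fin 4) (w : Fin 2 → ZMod 3) : Vec :=
  ![-(hh i 0) * (hh i 1 * w 0 + hh i 2 * w 1), w 0, w 1]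

theorem kemb_add : ∀ (i : Fin 4) (v w : Fin 2 → ZMod 3), kemb i (v + w) = kemb i v + kemb i w := by decide +kernel

theorem kemb_dot : ∀ (i : Fin 4) (w : Fin 2 → ZMod 3), dot (hh i) (kemb i w) = 0 := by decide +kernel

theorem kemb_surj : ∀ (i : Fin 4) (v : Vec), dot (hh i) v = 0 → ∃ w, kemb i w = v := by decide +kernel

theorem kemb_zero : ∀ (i : Fin 4) (w : Fin 2 → ZMod 3), kemb i w = 0 ↔ w = 0 := by decide +kernel

theorem neg_fix : ∀ v : Vec, mono 1 (-1) v = v → v = 0 := by decide +kernel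

theorem mono_neg_one : ∀ v : Vec, mono 1 (-1) v = -v := by decide +kernel

theorem dot_all : ∀ v : Vec, (∀ i, dot (hh i) v = 0) → v = 0 := by decide +kernel

theorem exists_move : ∀ i : Fin 4, ∃ v : Vec, dot (hh i) v ≠ 0 := by decide +kernel

theorem dot_double : ∀ (i : Fin 4) (v : Vec), dot (hh i) (v + v) = 0 → dot (hh i) v = 0 := by decide +kernel

namespace Flat

variable {X : Type*} [Group X] [Finite X] (T : Flat X)

theorem R_disj {i j : Fin 4} (hij : i ≠ j) {x : X} (hi : x ∈ T.R i) (hj : x ∈ T.R j) : x = 1 :=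
  Subgroup.mem_bot.1 ((T.R_indep.pairwiseDisjoint hij).le_bot ⟨hi, hj⟩)

theorem exists_ne_one (i : Fin 4) : ∃ x ∈ T.R i, x ≠ 1 := by
  haveI : Nontrivial (T.R i) := Finite.one_lt_card_iff_nontrivial.1 (by rw [T.card_R]; norm_num)
  obtain ⟨x, hx⟩ := exists_ne (1 : T.R i)
  exact ⟨x, x.2, fun e => hx (Subtype.ext e)⟩

/-- An element of `N(A)` centralising a nontrivial element of a plane. -/
theorem k_fix {i : Fin 4} {u : X} (hu : u ∈ T.R i) (hu1 : u ≠ 1) {v : Vec} {ε : Sgn}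
    (h : T.a v * T.sg ε * u = u * (T.a v * T.sg ε)) :
    (ε = 1 ∧ dot (hh i) v = 0) ∨ ε = -1 := by
  have hm : T.a v * T.sg ε * u * (T.a v * T.sg ε)⁻¹ ∈ T.R (act ε i) := by
    rw [show T.a v * T.sg ε * u * (T.a v * T.sg ε)⁻¹ = T.a v * (T.sg ε * u * (T.sg ε)⁻¹) * (T.a v)⁻¹ by group]
    exact T.R_norm _ v _ (T.sg_R ε i hu)
  rw [h, mul_inv_cancel_right] at hm
  have hi : act ε i = i := by
    by_contra hne
    exact hu1 (T.R_disj hne hm hu)
  rcases act_fixed ε i hi with rfl | rfl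
  · refine Or.inl ⟨rfl, ?_⟩
    by_contra hd
    rw [map_one, mul_one] at h
    exact hu1 (T.R_move i v hd u hu h)
  · exact Or.inr rfl

/-- A `3`-element centralising `V` is trivial, and `C(V) ∩ M = V`. -/
theorem centV_M {g : X} (hg : g ∈ T.M) (hc : g ∈ centralizer (T.V : Set X)) : g ∈ T.V := by
  obtain ⟨y, hy, v, ε, rfl⟩ := T.dec_M hg
  have hk : ∀ x ∈ T.V, T.a v * T.sg ε * x = x * (T.a v * T.sg ε) := by
    intro x hx
    have h1 : Commute (y * (T.a v * T.sg ε)) x := ((Subgroup.mem_centralizer_iff.1 hc) x hx).symm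
    have h2 : Commute y x := T.V_comm hy hx
    have := h2.inv_left.mul_left h1
    rwa [inv_mul_cancel_left] at this
  have hcase : ∀ i, (ε = 1 ∧ dot (hh i) v = 0) ∨ ε = -1 := fun i => by
    obtain ⟨x, hx, hx1⟩ := T.exists_ne_one i
    exact T.k_fix hx hx1 (hk x (T.R_le_V i hx))
  have hε : ε = 1 := by
    by_contra hne
    have he : ε = -1 := (hcase 0).resolve_left fun h => hne h.1
    subst he
    obtain ⟨w, hw⟩ := exists_move 0
    obtain ⟨x, hx, hx1⟩ := T.exists_ne_one 0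
    refine hx1 (T.R_move 0 (w + w) (fun e => hw (dot_double 0 w e)) x hx ?_)
    have e1 := hk _ (T.R_le_V 0 (T.R_norm 0 w x hx))
    have e2 := hk x (T.R_le_V 0 hx)
    change T.a v * T.sg (-1) * (T.a w * x * (T.a w)⁻¹) = T.a w * x * (T.a w)⁻¹ * (T.a v * T.sg (-1)) at e1
    have e3 : T.a (-w) * x * (T.a (-w))⁻¹ = T.a w * x * (T.a w)⁻¹ := by
      rw [← mul_inv_eq_iff_eq_mul.2 e1, ← mono_neg_one, ← T.a_sg_conj v w (-1)]
      conv_lhs => arg 1; arg 2; rw [← mul_inv_eq_iff_eq_mul.2 e2]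
      group
    show T.a (w + w) * x = x * T.a (w + w)
    rw [T.a_neg, inv_inv] at e3
    calc T.a (w + w) * x = T.a w * (T.a w * x * (T.a w)⁻¹) * T.a w := by rw [T.a_add]; group
      _ = x * T.a (w + w) := by rw [← e3, T.a_add]; group
  subst hε
  have hv : v = 0 := dot_all v fun i => ((hcase i).resolve_right (by decide)).2
  rw [hv, T.a_zero, map_one, one_mul, mul_one]
  exact hy

theorem A_le_norm_centV : T.A ≤ normalizer ((centralizer (T.V : Set X) : Subgroup X) : Set X) := by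
  have key : ∀ x ∈ T.A, ∀ g ∈ centralizer (T.V : Set X), x * g * x⁻¹ ∈ centralizer (T.V : Set X) := by
    intro x hx g hg
    rw [Subgroup.mem_centralizer_iff] at hg ⊢
    intro y hy
    have := hg (x⁻¹ * y * x) (by
      have := (Subgroup.mem_normalizer_iff.1 (T.A_norm_V (inv_mem hx)) y).1 hy
      rwa [inv_inv] at this)
    calc y * (x * g * x⁻¹) = x * (x⁻¹ * y * x * g) * x⁻¹ := by group
      _ = x * g * x⁻¹ * y := by rw [this]; group
  intro x hx
  rw [Subgroup.mem_normalizer_iff]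
  refine fun g => ⟨key x hx g, fun h => ?_⟩
  have := key _ (inv_mem hx) _ h
  rwa [inv_inv, show x⁻¹ * (x * g * x⁻¹) * x = g by group] at this

/-- `C(V) = V`. -/
theorem centV : centralizer (T.V : Set X) = T.V := by
  haveI : Fact (Nat.Prime 3) := ⟨Nat.prime_three⟩
  refine le_antisymm ?_ fun y hy => Subgroup.mem_centralizer_iff.2 fun x hx => T.V_comm hx hy
  set C := centralizer (T.V : Set X) with hC
  have h3 : ¬ 3 ∣ Nat.card C := by
    intro hd
    obtain ⟨z, hz⟩ := exists_prime_orderOf_dvd_card' (G := C) 3 hd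
    let N₁ : Subgroup X := normalizer (C : Set X)
    obtain ⟨P, hP⟩ := T.sylow_A
    have hle : (P : Subgroup X) ≤ N₁ := hP.symm ▸ T.A_le_norm_centV
    have hS : IsPGroup 3 (Subgroup.zpowers (⟨z, Subgroup.le_normalizer z.2⟩ : N₁)) :=
      IsPGroup.of_card (n := 1) (by
        rw [Nat.card_zpowers, ← Subgroup.orderOf_coe, pow_one]
        exact (Subgroup.orderOf_coe z).trans hz)
    obtain ⟨Q, hQ⟩ := hS.exists_le_sylow
    obtain ⟨h, hh⟩ := MulAction.exists_smul_eq N₁ Q (P.subtype hle)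
    have hm : h * ⟨z, Subgroup.le_normalizer z.2⟩ * h⁻¹ ∈ ((P.subtype hle : Sylow 3 N₁) : Subgroup N₁) := by
      rw [← hh, Sylow.smul_def, Sylow.pointwise_smul_def]
      exact ⟨_, hQ (Subgroup.mem_zpowers _), rfl⟩
    rw [Sylow.coe_subtype, Subgroup.mem_subgroupOf] at hm
    have hA : (h : X) * z * (h : X)⁻¹ ∈ T.A := hP ▸ hm
    have hCm : (h : X) * z * (h : X)⁻¹ ∈ C := (Subgroup.mem_normalizer_iff.1 h.2 _).1 z.2
    have hV := T.V_inf_A (T.centV_M (T.A_le_M hA) hCm) hA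
    have : (z : X) = 1 := by
      rw [mul_inv_eq_one] at hV
      exact mul_eq_left.1 hV
    have z1 : z = 1 := Subtype.ext this
    rw [z1, orderOf_one] at hz
    norm_num at hz
  refine le_trans ?_ (le_refl T.V)
  have hCM : C ≤ T.M := le_of_fixed Nat.prime_three T.A C T.M
    (fun x hx y hy => by
      obtain ⟨v, rfl⟩ := T.mem_A.1 hx
      obtain ⟨w, rfl⟩ := T.mem_A.1 hy
      exact T.a_comm v w)
    (fun x hx => by obtain ⟨v, rfl⟩ := T.mem_A.1 hx; exact T.a_cube v)
    (by rw [T.card_A]; norm_num) T.A_le_norm_centV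
    (by
      rw [T.card_A, show (27 : ℕ) = 3 ^ 3 by norm_num]
      exact Nat.Coprime.pow_left _ (Nat.prime_three.coprime_iff_not_dvd.2 h3))
    (fun b hb hb1 => by
      obtain ⟨v, rfl⟩ := T.mem_A.1 hb
      exact inf_le_right.trans (T.cent_le_M fun e => hb1 (by rw [e, T.a_zero])))
  exact fun g hg => T.centV_M (hCM hg) hg

/-- The centraliser in `N(V)` of an element of a plane lies in `M`. -/
theorem centu_M {i : Fin 4} {u : X} (hu : u ∈ T.R i) (hu1 : u ≠ 1) :
    normalizer (T.V : Set X) ⊓ centralizer ({u} : Set X) ≤ T.M := by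
  classical
  set H := normalizer (T.V : Set X) ⊓ centralizer ({u} : Set X) with hH
  have hVH : T.V ≤ H := le_inf Subgroup.le_normalizer fun y hy =>
    Subgroup.mem_centralizer_singleton_iff.2 (T.V_comm hy (T.R_le_V i hu))
  let W : Subgroup H := T.V.subgroupOf H
  haveI : W.Normal := ⟨fun w hw c => by
    rw [Subgroup.mem_subgroupOf] at hw ⊢
    exact (Subgroup.mem_normalizer_iff.1 c.2.1 _).1 hw⟩
  let q := QuotientGroup.mk' W
  have hPH : ∀ w : Fin 2 → ZMod 3, T.a (kemb i w) ∈ H := fun w =>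
    ⟨T.A_norm_V (T.a_mem _), Subgroup.mem_centralizer_singleton_iff.2 (T.R_fix i _ (kemb_dot i w) u hu)⟩
  let f : Multiplicative (Fin 2 → ZMod 3) →* H ⧸ W :=
    MonoidHom.mk' (fun w => q ⟨T.a (kemb i w.toAdd), hPH _⟩) fun w w' => by
      rw [← map_mul]
      exact congrArg q (Subtype.ext (by
        show T.a (kemb i (w * w').toAdd) = T.a (kemb i w.toAdd) * T.a (kemb i w'.toAdd)
        rw [toAdd_mul, kemb_add, T.a_add]))
  have hf : Function.Injective f := by
    rw [injective_iff_map_eq_one]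
    intro w hw
    have hV : T.a (kemb i w.toAdd) ∈ T.V := Subgroup.mem_subgroupOf.1 ((QuotientGroup.eq_one_iff _).1 hw)
    exact Multiplicative.toAdd.injective ((kemb_zero i _).1 (T.a_eq_one (T.V_inf_A hV (T.a_mem _))))
  set E := f.range with hE
  have hcard : Nat.card E = 9 := by
    rw [hE, ← Nat.card_congr (MonoidHom.ofInjective hf).toEquiv, Nat.card_congr Multiplicative.toAdd,
      Nat.card_fun, Nat.card_fin, Nat.card_zmod]
    rfl
  have hM_of : ∀ c : H, ∀ w w', w ≠ 1 → q c * f w * (q c)⁻¹ = f w' →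
      (c : X) ∈ T.M ∧ (c : X) * T.a (kemb i w.toAdd) * (c : X)⁻¹ * (T.a (kemb i w'.toAdd))⁻¹ ∈ T.V := by
    intro c w w' hw hcw
    have h1 : q (c * ⟨T.a (kemb i w.toAdd), hPH _⟩ * c⁻¹ * ⟨T.a (kemb i w'.toAdd), hPH _⟩⁻¹) = 1 := by
      simp only [map_mul, map_inv]
      show q c * f w * (q c)⁻¹ * (f w')⁻¹ = 1
      rw [hcw, mul_inv_cancel]
    have hV : (c : X) * T.a (kemb i w.toAdd) * (c : X)⁻¹ * (T.a (kemb i w'.toAdd))⁻¹ ∈ T.V :=
      Subgroup.mem_subgroupOf.1 ((QuotientGroup.eq_one_iff _).1 h1)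
    refine ⟨T.strong (v := kemb i w.toAdd) (fun e => hw (Multiplicative.toAdd.injective ((kemb_zero i _).1 e))) ?_, hV⟩
    have := mul_mem (T.V_le_M hV) (T.A_le_M (T.a_mem (kemb i w'.toAdd)))
    rwa [inv_mul_cancel_right] at this
  -- the shape of the elements of `H ∩ M`
  have hshape : ∀ c : H, (c : X) ∈ T.M → ∃ y ∈ T.V, ∃ v ε, (c : X) = y * (T.a v * T.sg ε) ∧
      ((ε = 1 ∧ dot (hh i) v = 0) ∨ ε = -1) := by
    intro c hc
    obtain ⟨y, hy, v, ε, he⟩ := T.dec_M hc
    refine ⟨y, hy, v, ε, he, T.k_fix hu hu1 ?_⟩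
    have h1 : Commute (y * (T.a v * T.sg ε)) u := he ▸ Subgroup.mem_centralizer_singleton_iff.1 c.2.2
    have h2 : Commute y u := T.V_comm hy (T.R_le_V i hu)
    have := h2.inv_left.mul_left h1
    rwa [inv_mul_cancel_left] at this
  have hqA : ∀ c : H, ∀ y ∈ T.V, ∀ v, dot (hh i) v = 0 → (c : X) = y * T.a v → q c ∈ E := by
    intro c y hy v hv he
    obtain ⟨w, rfl⟩ := kemb_surj i v hv
    refine ⟨Multiplicative.ofAdd w, (QuotientGroup.eq).2 (Subgroup.mem_subgroupOf.2 ?_)⟩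
    show (T.a (kemb i w))⁻¹ * (c : X) ∈ T.V
    rw [he, ← mul_assoc]
    have := (Subgroup.mem_normalizer_iff.1 (T.A_norm_V (inv_mem (T.a_mem (kemb i w)))) y).1 hy
    rwa [inv_inv] at this
  have hpoint : ∀ c : H, ∀ w, w ≠ 1 → q c * f w = f w * q c → q c ∈ E := by
    intro c w hw hcw
    obtain ⟨hcM, hV⟩ := hM_of c w w hw (by rw [hcw, mul_inv_cancel_right])
    obtain ⟨y, hy, v, ε, he, h⟩ := hshape c hcM
    rcases h with ⟨rfl, hd⟩ | rfl
    · rw [map_one, mul_one] at he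
      exact hqA c y hy v hd he
    · exfalso
      set p := kemb i w.toAdd
      rw [he, show y * (T.a v * T.sg (-1)) * T.a p * (y * (T.a v * T.sg (-1)))⁻¹ =
        y * (T.a v * T.sg (-1) * T.a p * (T.a v * T.sg (-1))⁻¹) * y⁻¹ by group, T.a_sg_conj] at hV
      have hin : T.a (mono 1 (-1) p) * (T.a p)⁻¹ ∈ T.V := by
        have := mul_mem (inv_mem hy) (mul_mem hV ((Subgroup.mem_normalizer_iff.1 (T.A_norm_V (T.a_mem p)) y).1 hy))
        rwa [show y⁻¹ * (y * T.a (mono 1 (-1) p) * y⁻¹ * (T.a p)⁻¹ * (T.a p * y * (T.a p)⁻¹)) =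
          T.a (mono 1 (-1) p) * (T.a p)⁻¹ by group] at this
      have := T.a_inj (mul_inv_eq_one.1 (T.V_inf_A hin (mul_mem (T.a_mem _) (inv_mem (T.a_mem _)))))
      exact hw (Multiplicative.toAdd.injective ((kemb_zero i _).1 (neg_fix p this)))
  have hEcomm : IsMulCommutative E := ⟨⟨fun a b => Subtype.ext (by
    obtain ⟨x, hx⟩ := a.2
    obtain ⟨y, hy⟩ := b.2
    show (a : H ⧸ W) * b = b * a
    rw [← hx, ← hy, ← map_mul, ← map_mul, mul_comm])⟩⟩
  obtain ⟨w₀, hw₀⟩ := exists_ne (1 : Multiplicative (Fin 2 → ZMod 3))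
  have hcentE : centralizer (E : Set (H ⧸ W)) = E := by
    refine le_antisymm (fun g hg => ?_) (Subgroup.le_centralizer E)
    obtain ⟨c, rfl⟩ := QuotientGroup.mk'_surjective W g
    exact hpoint c w₀ hw₀ ((Subgroup.mem_centralizer_iff.1 hg _ ⟨_, rfl⟩).symm)
  have htop := SymNine.plane_normal E hcard hEcomm
    (by
      rintro e ⟨w, rfl⟩
      rw [← map_pow, show w ^ 3 = 1 from Multiplicative.toAdd.injective (by
        rw [toAdd_pow, toAdd_one]
        funext j
        have : ∀ x : ZMod 3, 3 • x = 0 := by decide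
        exact this _), map_one])
    hcentE
    (by
      rintro e ⟨w, rfl⟩ he g hg
      obtain ⟨c, rfl⟩ := QuotientGroup.mk'_surjective W g
      exact Subgroup.le_normalizer (hpoint c w (fun e => he (by rw [e, map_one])) (Subgroup.mem_centralizer_singleton_iff.1 hg)))
    (by
      intro g hg
      obtain ⟨c, rfl⟩ := QuotientGroup.mk'_surjective W g
      obtain ⟨w', hw'⟩ := (Subgroup.mem_normalizer_iff.1 hg (f w₀)).1 (show f w₀ ∈ E from MonoidHom.mem_range.2 ⟨w₀, rfl⟩)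
      obtain ⟨hcM, -⟩ := hM_of c w₀ w' hw₀ hw'.symm
      obtain ⟨y, hy, v, ε, he, -⟩ := hshape c hcM
      rw [← map_mul]
      have hk := T.a_sg_mem v ε
      obtain ⟨v', hv'⟩ := T.mem_A.1 (T.N_sq hk)
      have hky := (Subgroup.mem_normalizer_iff.1 (T.N_norm_V hk) y).1 hy
      refine hqA (c * c) _ (mul_mem hy hky) v' ?_ ?_
      · by_contra hd
        refine hu1 (T.R_move i v' hd u hu ?_)
        show T.a v' * u = u * T.a v'
        have h1 : Commute (c : X) u := Subgroup.mem_centralizer_singleton_iff.1 c.2.2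
        have h2 : Commute y u := T.V_comm hy (T.R_le_V i hu)
        have h3 : Commute (T.a v * T.sg ε) u := by
          have := h2.inv_left.mul_left (he ▸ h1)
          rwa [inv_mul_cancel_left] at this
        rw [hv']
        exact (h3.mul_left h3).eq
      · show (c : X) * c = _
        rw [he, hv']
        group)
  intro g hg
  obtain ⟨w', hw'⟩ := (Subgroup.mem_normalizer_iff.1
    (show q ⟨g, hg⟩ ∈ normalizer (E : Set (H ⧸ W)) by rw [htop]; exact Subgroup.mem_top _) (f w₀)).1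
    (show f w₀ ∈ E from MonoidHom.mem_range.2 ⟨w₀, rfl⟩)
  exact (hM_of ⟨g, hg⟩ w₀ w' hw₀ hw'.symm).1

end Flat

end Cfsg.Agent.Spor.OmegaEightThree.X
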