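import Cfsg.Agent.Lib.Spor.OmegaEightThree.X.FlipBound

/-!
Sign changes of one coordinate are not conjugate into `V`, nor to other sign changes different from `-1`.
-/

set_option autoImplicit false
set_option linter.unusedSectionVars false

namespace Cfsg.Agent.Spor.OmegaEightThree.X

open Subgroup (centralizer normalizer)

theorem fix_exists : ∀ ε : Sgn, ε ≠ -1 → ∃ u : Vec, u ≠ 0 ∧ mono 1 ε u = u := by decide +kernel

theorem fix_small : ∀ (i : Fin 3) (ε : Sgn), ε ≠ 1 → ε ≠ flipSgn i →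
    (Finset.univ.filter fun v : Vec => mono 1 ε v = v ∧ v i = 0).card < 9 := by decide +kernel

theorem mono_coord : ∀ (i : Fin 3) (ε : Sgn) (v : Vec), mono 1 ε v i = 0 ↔ v i = 0 := by decide +kernel

theorem sgn_cube : ∀ ε : Sgn, ε * ε * ε = 1 → ε = 1 := by decide +kernel

namespace Flat

variable {X : Type*} [Group X] [Finite X] (T : Flat X)

/-- Elements of order three in `M`. -/
theorem shape3 {x : X} (hx : x ∈ T.M) (h3 : x ^ 3 = 1) :
    ∃ y ∈ T.V, ∃ v, x = y * T.a v ∧ ∃ h : X, h * x * h⁻¹ = T.a v := by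
  obtain ⟨y, hy, v, ε, he⟩ := T.dec_M hx
  have hε : T.epsHom ⟨x, hx⟩ = ε := T.eps_eq hy he
  have hε1 : ε = 1 := by
    refine sgn_cube ε ?_
    rw [← hε, ← map_mul, ← map_mul,
      show (⟨x, hx⟩ : T.M) * ⟨x, hx⟩ * ⟨x, hx⟩ = 1 from Subtype.ext (by
        show x * x * x = 1
        rw [← h3, pow_succ, pow_two]), map_one]
  subst hε1
  rw [map_one, mul_one] at he
  refine ⟨y, hy, v, he, ?_⟩
  haveI : Fact (Nat.Prime 3) := ⟨Nat.prime_three⟩
  have hS : IsPGroup 3 (Subgroup.zpowers x) := by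
    rintro ⟨z, hz⟩
    obtain ⟨n, rfl⟩ := Subgroup.mem_zpowers_iff.1 hz
    refine ⟨1, Subtype.ext ?_⟩
    show (x ^ n) ^ (3 ^ 1) = 1
    rw [pow_one, ← zpow_natCast, zpow_comm, zpow_natCast, h3, one_zpow]
  obtain ⟨h, hh, hA⟩ := T.conj_into_A hS (Subgroup.zpowers_le.2 hx)
  obtain ⟨u, hu⟩ := T.mem_A.1 (hA _ (Subgroup.mem_zpowers x))
  obtain ⟨z, hz, p, δ, rfl⟩ := T.dec_M hh
  set k := T.a p * T.sg δ with hk
  have hkM : k ∈ T.M := T.N_le_M (T.a_sg_mem p δ)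
  have hkv : T.a (mono 1 δ v) = k * T.a v * k⁻¹ := (T.a_sg_conj p v δ).symm
  have hzc : T.a (mono 1 δ v) * z⁻¹ * (T.a (mono 1 δ v))⁻¹ ∈ T.V :=
    T.V_conj_mem (T.A_le_M (T.a_mem _)) (inv_mem hz)
  have hyk := T.V_conj_mem hkM hy
  have e : T.a u = z * (k * y * k⁻¹) * (T.a (mono 1 δ v) * z⁻¹ * (T.a (mono 1 δ v))⁻¹) *
      (T.a (mono 1 δ v) * T.sg 1) := by
    rw [hu, he, map_one, mul_one, hkv]
    group
  obtain ⟨-, huv, -⟩ := T.dec_eq (y := 1) (v := u) (ε := 1) (v' := mono 1 δ v) (ε' := 1) (one_mem _)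
    (mul_mem (mul_mem hz hyk) hzc) (by rw [← e, map_one, mul_one, one_mul])
  refine ⟨T.sg δ * (z * k), ?_⟩
  calc T.sg δ * (z * k) * x * (T.sg δ * (z * k))⁻¹ = T.sg δ * (z * k * x * (z * k)⁻¹) * (T.sg δ)⁻¹ := by group
    _ = T.sg δ * T.a u * (T.sg δ)⁻¹ := by rw [hu]
    _ = T.a v := by rw [T.sg_conj, huv, mono_mul, sgn_sq, mono_one]

/-- A `3`-group centralising a sign change and a point it fixes. -/
theorem three_fixed {ε : Sgn} {S : Subgroup X} (hS : IsPGroup 3 S)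
    (hSC : S ≤ centralizer ({T.sg ε} : Set X)) {u : Vec} (hu : u ≠ 0) (huS : T.a u ∈ S) :
    ∀ g ∈ S, g ^ 3 = 1 ∧ ∃ y ∈ T.V, ∃ v, mono 1 ε v = v ∧ g = y * T.a v ∧ ∃ h : X, h * g * h⁻¹ = T.a v := by
  have hSM := T.three_le_M hS hu huS
  obtain ⟨h, hh, hA⟩ := T.three_conj hS hu huS
  intro g hg
  have h3 : g ^ 3 = 1 := by
    obtain ⟨w, hw⟩ := T.mem_A.1 (hA g hg)
    have : g = h⁻¹ * T.a w * h⁻¹⁻¹ := by rw [hw]; group
    rw [this, conj_pow, T.a_cube, mul_one, mul_inv_cancel]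
  refine ⟨h3, ?_⟩
  obtain ⟨y, hy, v, he, hconj⟩ := T.shape3 (hSM hg) h3
  refine ⟨y, hy, v, ?_, he, hconj⟩
  have hc := Subgroup.mem_centralizer_singleton_iff.1 (hSC hg)
  have e : T.sg ε * y * T.sg ε * (T.a (mono 1 ε v) * T.sg 1) = y * (T.a v * T.sg 1) := by
    rw [map_one, mul_one, mul_one, ← he, ← T.sg_conj ε v, T.sg_inv]
    calc T.sg ε * y * T.sg ε * (T.sg ε * T.a v * T.sg ε) = T.sg ε * y * (T.sg ε * T.sg ε) * T.a v * T.sg ε := by group
      _ = T.sg ε * (y * T.a v) * T.sg ε := by rw [T.sg_sq]; group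
      _ = g := by rw [← he, ← hc, mul_assoc, T.sg_sq, mul_one]
  exact (T.dec_eq (T.sg_norm_V ε hy) hy e).2.1

/-- A sign change of one coordinate is conjugate to no other sign change except possibly `-1`. -/
theorem flip_not_conj {i : Fin 3} {ε : Sgn} (h1 : ε ≠ 1) (h2 : ε ≠ flipSgn i) (h3 : ε ≠ -1) (g : X) :
    g * T.sg (flipSgn i) * g⁻¹ ≠ T.sg ε := by
  classical
  intro hg
  haveI : Fact (Nat.Prime 3) := ⟨Nat.prime_three⟩
  obtain ⟨u, hu, hεu⟩ := fix_exists ε h3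
  set C := centralizer ({T.sg ε} : Set X) with hC
  have huC : T.a u ∈ C := Subgroup.mem_centralizer_singleton_iff.2 (by
    calc T.a u * T.sg ε = T.sg ε * T.a u * (T.sg ε)⁻¹ * T.sg ε := by rw [T.sg_conj, hεu]
      _ = T.sg ε * T.a u := inv_mul_cancel_right _ _)
  set S0 := (T.P2 i).map (MulAut.conj g).toMonoidHom with hS0
  have hS0C : S0 ≤ C := by
    rintro _ ⟨x, ⟨w, rfl⟩, rfl⟩
    refine Subgroup.mem_centralizer_singleton_iff.2 ?_
    show g * T.a (emb i w) * g⁻¹ * T.sg ε = T.sg ε * (g * T.a (emb i w) * g⁻¹)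
    rw [← hg]
    have hc := T.mem_Cs.1 (T.emb_Cs i w)
    calc _ = g * (T.a (emb i w) * T.sg (flipSgn i)) * g⁻¹ := by group
      _ = _ := by rw [hc]; group
  have hz : IsPGroup 3 (Subgroup.zpowers (⟨T.a u, huC⟩ : C)) := by
    rintro ⟨z, hz⟩
    obtain ⟨n, rfl⟩ := Subgroup.mem_zpowers_iff.1 hz
    refine ⟨1, Subtype.ext (Subtype.ext ?_)⟩
    show (T.a u ^ n) ^ (3 ^ 1) = 1
    rw [pow_one, ← zpow_natCast, zpow_comm, zpow_natCast, T.a_cube, one_zpow]
  obtain ⟨Q, hQ⟩ := hz.exists_le_sylow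
  obtain ⟨Q', hQ'⟩ := (((T.P2_three i).map (MulAut.conj g).toMonoidHom).comap_of_injective C.subtype
    C.subtype_injective).exists_le_sylow
  obtain ⟨h, hh⟩ := MulAction.exists_smul_eq C Q' Q
  set S := (Q : Subgroup C).map C.subtype with hS
  have hSp : IsPGroup 3 S := Q.2.map _
  have hSC : S ≤ C := by rintro _ ⟨x, -, rfl⟩; exact x.2
  have huS : T.a u ∈ S := ⟨_, hQ (Subgroup.mem_zpowers _), rfl⟩
  have hprop := T.three_fixed hSp hSC hu huS
  have hmem : ∀ w : Fin 2 → ZMod 3, (h : X) * (g * T.a (emb i w) * g⁻¹) * (h : X)⁻¹ ∈ S := by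
    intro w
    have hx : g * T.a (emb i w) * g⁻¹ ∈ S0 := ⟨_, ⟨w, rfl⟩, rfl⟩
    refine ⟨h * ⟨_, hS0C hx⟩ * h⁻¹, ?_, rfl⟩
    rw [← hh, Sylow.smul_def, Sylow.pointwise_smul_def]
    exact ⟨_, hQ' (show (⟨_, hS0C hx⟩ : C) ∈ S0.subgroupOf C from hx), rfl⟩
  have hdata : ∀ w, ∃ v, mono 1 ε v = v ∧ v i = 0 ∧ ∃ y ∈ T.V,
      (h : X) * (g * T.a (emb i w) * g⁻¹) * (h : X)⁻¹ = y * T.a v := by
    intro w
    obtain ⟨-, y, hy, v, hv, he, k, hk⟩ := hprop _ (hmem w)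
    refine ⟨v, hv, ?_, y, hy, he⟩
    obtain ⟨δ, hδ⟩ := T.fusion (g := k * ((h : X) * g)) (v := emb i w) (w := v) (by rw [← hk]; group)
    rw [← hδ, mono_coord, emb_coord]
  choose F hF1 hF2 y hy he using hdata
  have hinj : Function.Injective F := by
    intro w w' e
    set x := (h : X) * (g * T.a (emb i w) * g⁻¹) * (h : X)⁻¹
    set x' := (h : X) * (g * T.a (emb i w') * g⁻¹) * (h : X)⁻¹
    have hm : x * x'⁻¹ ∈ T.V := by
      rw [show x = y w * T.a (F w) from he w, show x' = y w' * T.a (F w') from he w', e, show y w * T.a (F w') * (y w' * T.a (F w'))⁻¹ = y w * (y w')⁻¹ by group]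
      exact mul_mem (hy w) (inv_mem (hy w'))
    have hSm : x * x'⁻¹ ∈ S := mul_mem (hmem w) (inv_mem (hmem w'))
    have h31 := (hprop _ hSm).1
    rw [pow_succ, pow_two, T.V_sq hm, one_mul] at h31
    have hxx : x = x' := mul_inv_eq_one.1 h31
    have h5 := T.a_inj (mul_left_cancel (mul_right_cancel (mul_left_cancel (mul_right_cancel hxx))))
    have h2 : emb i (w + -w') = 0 := by rw [emb_add, emb_neg, h5, add_neg_cancel]
    exact eq_of_sub_eq_zero (by rw [sub_eq_add_neg]; exact (emb_zero i _).1 h2)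
  have hlt := fix_small i ε h1 h2
  have hle : (Finset.univ : Finset (Fin 2 → ZMod 3)).card ≤
      (Finset.univ.filter fun v : Vec => mono 1 ε v = v ∧ v i = 0).card :=
    Finset.card_le_card_of_injOn F (fun w _ => Finset.mem_filter.2 ⟨Finset.mem_univ _, hF1 w, hF2 w⟩)
      hinj.injOn
  have h9 : (Finset.univ : Finset (Fin 2 → ZMod 3)).card = 9 := by decide
  omega

/-- A sign change of one coordinate is not conjugate into `V`. -/
theorem flip_not_V {i : Fin 3} (g : X) : g * T.sg (flipSgn i) * g⁻¹ ∉ T.V := by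
  intro hV
  have hVp : IsPGroup 2 T.V := fun y => ⟨1, Subtype.ext (by rw [pow_one, pow_two]; exact T.V_sq y.2)⟩
  have hle : T.V.map (MulAut.conj g⁻¹).toMonoidHom ≤ T.Cs i := by
    rintro _ ⟨y, hy, rfl⟩
    refine T.mem_Cs.2 ?_
    show g⁻¹ * y * g⁻¹⁻¹ * T.sg (flipSgn i) = T.sg (flipSgn i) * (g⁻¹ * y * g⁻¹⁻¹)
    have hc := T.V_comm hy hV
    calc _ = g⁻¹ * (y * (g * T.sg (flipSgn i) * g⁻¹)) * g := by group
      _ = _ := by rw [hc]; group
  have := T.two_bound i (hVp.map _) hle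
  rw [Subgroup.card_map_of_injective (MulEquiv.injective _), T.card_V] at this
  omega

end Flat

end Cfsg.Agent.Spor.OmegaEightThree.X
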