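import Mathlib

/-!
A normal `p`-complement of a subgroup whose Sylow subgroup is centralised by its normaliser.
-/

set_option autoImplicit false
set_option linter.unusedSectionVars false
set_option maxHeartbeats 400000

namespace Cfsg.Agent.Spor.OmegaEightThree.X

theorem exists_compl {G : Type*} [Group G] [Finite G] {p : ℕ} [hp : Fact p.Prime] (K B : Subgroup G)
    (hBK : B ≤ K) (hB : IsPGroup p B) (hmax : ∀ S : Subgroup G, IsPGroup p S → B ≤ S → S ≤ K → S ≤ B)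
    (hcent : ∀ g ∈ K, (∀ b ∈ B, g * b * g⁻¹ ∈ B) → ∀ b ∈ B, g * b = b * g) :
    ∃ D : Subgroup G, D ≤ K ∧ (∀ g ∈ K, ∀ d ∈ D, g * d * g⁻¹ ∈ D) ∧ ¬ p ∣ Nat.card D ∧
      (∀ g ∈ K, ∃ d ∈ D, ∃ b ∈ B, g = d * b) ∧
      (∀ g ∈ K, ∀ n : ℕ, g ^ n = 1 → n.Coprime p → g ∈ D) := by
  classical
  have hBp : IsPGroup p (B.subgroupOf K) := hB.comap_of_injective K.subtype K.subtype_injective
  obtain ⟨P, hP⟩ := hBp.exists_le_sylow
  have hPB : (P : Subgroup K) = B.subgroupOf K := by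
    refine le_antisymm ?_ hP
    intro x hx
    have hle : B ≤ (P : Subgroup K).map K.subtype := fun b hb => ⟨⟨b, hBK hb⟩, hP hb, rfl⟩
    exact hmax ((P : Subgroup K).map K.subtype) (P.2.map _) hle (by rintro _ ⟨y, -, rfl⟩; exact y.2)
      ⟨x, hx, rfl⟩
  have hmem : ∀ {x : K}, x ∈ (P : Subgroup K) ↔ (x : G) ∈ B := fun {x} => by
    rw [hPB, Subgroup.mem_subgroupOf]
  have hN : Subgroup.normalizer ((P : Subgroup K) : Set K) ≤
      Subgroup.centralizer ((P : Subgroup K) : Set K) := by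
    intro g hg
    refine Subgroup.mem_centralizer_iff.2 fun x hx => Subtype.ext ?_
    refine (hcent g g.2 (fun b hb => ?_) x (hmem.1 hx)).symm
    exact hmem.1 ((Subgroup.mem_normalizer_iff.1 hg ⟨b, hBK hb⟩).1 (hmem.2 hb))
  obtain ⟨N, hNn, hc, hker⟩ : ∃ N : Subgroup K, N.Normal ∧ Subgroup.IsComplement' N (P : Subgroup K) ∧
      ∀ x : K, ∀ n : ℕ, x ^ n = 1 → n.Coprime p → x ∈ N := by
    have hc := MonoidHom.ker_transferSylow_isComplement' P hN
    refine ⟨_, MonoidHom.normal_ker _, hc, fun x n hx hcop => ?_⟩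
    generalize MonoidHom.transferSylow P hN = f
    rw [MonoidHom.mem_ker]
    obtain ⟨k, hk⟩ := P.2 (f x)
    have h1 : (f x) ^ n = 1 := by rw [← map_pow, hx, map_one]
    exact orderOf_eq_one_iff.1 (Nat.eq_one_of_dvd_coprimes (Nat.Coprime.pow_right k hcop)
      (orderOf_dvd_of_pow_eq_one h1) (orderOf_dvd_of_pow_eq_one hk))
  refine ⟨N.map K.subtype, ?_, ?_, ?_, ?_, ?_⟩
  · rintro x ⟨y, -, rfl⟩
    exact y.2
  · intro g hg x hx
    obtain ⟨d, hd, rfl⟩ := Subgroup.mem_map.1 hx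
    exact Subgroup.mem_map.2 ⟨⟨g, hg⟩ * d * ⟨g, hg⟩⁻¹, hNn.conj_mem d hd _, rfl⟩
  · rw [Subgroup.card_map_of_injective K.subtype_injective]
    have h1 := hc.card_mul
    have h2 := (P : Subgroup K).card_mul_index
    rw [← h1, mul_comm] at h2
    rw [← Nat.eq_of_mul_eq_mul_right Nat.card_pos h2]
    exact P.not_dvd_index
  · intro g hg
    obtain ⟨⟨⟨d, hd⟩, ⟨b, hb⟩⟩, he⟩ := hc.2 ⟨g, hg⟩
    exact ⟨d, Subgroup.mem_map.2 ⟨d, hd, rfl⟩, b, hmem.1 hb, (congrArg Subtype.val he).symm⟩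
  · intro g hg n hn hcop
    exact Subgroup.mem_map.2 ⟨⟨g, hg⟩, hker _ n (Subtype.ext hn) hcop, rfl⟩

/-- Two involutions with product of odd order are conjugate in the subgroup they generate. -/
theorem odd_conj {G : Type*} [Group G] {u d : G} (hu : u * u = 1) (hd : d * d = 1) {k : ℕ}
    (h : (u * d) ^ (2 * k + 1) = 1) : (u * d) ^ k * u * ((u * d) ^ k)⁻¹ = d := by
  have hrec : ∀ m : ℕ, u * ((u * d) ^ m)⁻¹ = (u * d) ^ m * u := by
    intro m
    induction m with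
    | zero => simp
    | succ m ih =>
      have hdi : d⁻¹ = d := inv_eq_of_mul_eq_one_right hd
      have hui : u⁻¹ = u := inv_eq_of_mul_eq_one_right hu
      rw [pow_succ', mul_inv_rev, ← mul_assoc, ih, mul_inv_rev, hdi, hui]
      calc (u * d) ^ m * u * (d * u) = (u * d) ^ m * (u * d) * u := by group
        _ = u * d * (u * d) ^ m * u := by rw [← pow_succ, pow_succ']
  have e : (u * d) ^ (2 * k + 1) = (u * d) ^ k * (u * d) ^ k * (u * d) := by
    rw [pow_succ, two_mul, pow_add]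
  rw [e] at h
  rw [mul_assoc, hrec, ← mul_assoc, eq_inv_of_mul_eq_one_left h, mul_inv_rev, inv_mul_cancel_right]
  exact inv_eq_of_mul_eq_one_right hd

end Cfsg.Agent.Spor.OmegaEightThree.X
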