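import Cfsg.Agent.Lib.Spor.OmegaEightThree.X.Single
import Cfsg.Agent.Lib.Solv.FittingTower

/-!
`M = V N(A)` contains the centralisers of all nontrivial elements of `A`, so it is strongly
`3`-embedded.
-/

set_option autoImplicit false
set_option linter.unusedSectionVars false

namespace Cfsg.Agent.Spor.OmegaEightThree.X

open Subgroup (centralizer normalizer)

/-- A group acted upon coprimely by a noncyclic elementary abelian group is generated by fixed points. -/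
theorem le_of_fixed {G : Type*} [Group G] [Finite G] {p : ℕ} (hp : p.Prime) (B K L : Subgroup G)
    (hB : ∀ x ∈ B, ∀ y ∈ B, x * y = y * x) (hexp : ∀ x ∈ B, x ^ p = 1) (hcard : p < Nat.card B)
    (hBK : B ≤ normalizer (K : Set G)) (hco : (Nat.card B).Coprime (Nat.card K))
    (h : ∀ b ∈ B, b ≠ 1 → K ⊓ centralizer ({b} : Set G) ≤ L) : K ≤ L := by
  have hA : IsMulCommutative B := ⟨⟨fun x y => Subtype.ext (hB _ x.2 _ y.2)⟩⟩
  rw [← Solv.gen_eq B K hA hBK hco]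
  refine iSup₂_le fun W hW => ?_
  have hle := Solv.FitTower.card_le_of_cycQuot hp hA hexp hW
  obtain ⟨b, hbW, hb1⟩ : ∃ b ∈ W, b ≠ 1 := by
    by_contra! hall
    have e : W = ⊥ := (Subgroup.eq_bot_iff_forall W).2 hall
    rw [e, Subgroup.card_bot, one_mul] at hle
    omega
  refine le_trans ?_ (h b (hW.1 hbW) hb1)
  exact inf_le_inf_left _ (Subgroup.centralizer_le (Set.singleton_subset_iff.2 hbW))

namespace Flat

variable {X : Type*} [Group X] [Finite X] (T : Flat X)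

theorem N_le_M : T.N ≤ T.M := le_sup_right

/-- The centralisers of the nontrivial elements of `A` lie in `M`. -/
theorem cent_le_M {v : Vec} (hv : v ≠ 0) : centralizer ({T.a v} : Set X) ≤ T.M := by
  intro g hg
  have hg' := Subgroup.mem_centralizer_singleton_iff.1 hg
  rcases wt_cases v hv with h | ⟨i, rfl | rfl⟩
  · obtain ⟨y, k, rfl, hy, -, hk⟩ := T.cent v h g hg'
    exact mul_mem (T.V_le_M hy) (T.N_le_M hk)
  · exact T.N_le_M (T.cent_single i hg)
  · refine T.N_le_M (T.cent_single i (Subgroup.mem_centralizer_singleton_iff.2 ?_))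
    rw [T.a_neg] at hg'
    have := (show Commute g (T.a (ev i))⁻¹ from hg').inv_right
    rw [inv_inv] at this
    exact this

/-- A `3`-subgroup of `M` is conjugate into `A` inside `M`. -/
theorem conj_into_A {S : Subgroup X} (hS : IsPGroup 3 S) (hSM : S ≤ T.M) :
    ∃ h ∈ T.M, ∀ x ∈ S, h * x * h⁻¹ ∈ T.A := by
  haveI : Fact (Nat.Prime 3) := ⟨Nat.prime_three⟩
  obtain ⟨P, hP⟩ := T.sylow_A
  have hle : (P : Subgroup X) ≤ T.M := hP.symm ▸ T.A_le_M
  obtain ⟨Q, hQ⟩ := (hS.comap_of_injective T.M.subtype T.M.subtype_injective).exists_le_sylow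
  obtain ⟨h, hh⟩ := MulAction.exists_smul_eq T.M Q (P.subtype hle)
  refine ⟨h, h.2, fun x hx => ?_⟩
  have hxQ : (⟨x, hSM hx⟩ : T.M) ∈ (Q : Subgroup T.M) := hQ hx
  have hm : h * ⟨x, hSM hx⟩ * h⁻¹ ∈ ((P.subtype hle : Sylow 3 T.M) : Subgroup T.M) := by
    rw [← hh, Sylow.smul_def, Sylow.pointwise_smul_def]
    exact ⟨_, hxQ, rfl⟩
  rw [Sylow.coe_subtype, Subgroup.mem_subgroupOf] at hm
  rw [← hP]
  exact hm

/-- `M` is strongly `3`-embedded. -/
theorem strong {g : X} {v : Vec} (hv : v ≠ 0) (h : g * T.a v * g⁻¹ ∈ T.M) : g ∈ T.M := by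
  haveI : Fact (Nat.Prime 3) := ⟨Nat.prime_three⟩
  have hord : (g * T.a v * g⁻¹) ^ 3 = 1 := by rw [conj_pow, T.a_cube, mul_one, mul_inv_cancel]
  have hS : IsPGroup 3 (Subgroup.zpowers (g * T.a v * g⁻¹)) := by
    rintro ⟨x, hx⟩
    obtain ⟨n, rfl⟩ := Subgroup.mem_zpowers_iff.1 hx
    refine ⟨1, Subtype.ext ?_⟩
    show ((g * T.a v * g⁻¹) ^ n) ^ (3 ^ 1) = 1
    rw [pow_one, ← zpow_natCast, zpow_comm, zpow_natCast, hord, one_zpow]
  obtain ⟨m, hm, hmA⟩ := T.conj_into_A hS (Subgroup.zpowers_le.2 h)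
  obtain ⟨w, hw⟩ := T.mem_A.1 (hmA _ (Subgroup.mem_zpowers _))
  obtain ⟨ε, hε⟩ := T.fusion (g := m * g) (v := v) (w := w) (by rw [hw]; group)
  have hc : (T.sg ε)⁻¹ * (m * g) ∈ centralizer ({T.a v} : Set X) := by
    refine Subgroup.mem_centralizer_singleton_iff.2 (mul_inv_eq_iff_eq_mul.1 ?_)
    calc (T.sg ε)⁻¹ * (m * g) * T.a v * ((T.sg ε)⁻¹ * (m * g))⁻¹
        = (T.sg ε)⁻¹ * (m * (g * T.a v * g⁻¹) * m⁻¹) * T.sg ε := by group
      _ = (T.sg ε)⁻¹ * (T.sg ε * T.a v * (T.sg ε)⁻¹) * T.sg ε := by rw [← hw, T.sg_conj, hε]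
      _ = T.a v := by group
  have := mul_mem (T.sg_le_M ε) (T.cent_le_M hv hc)
  rw [mul_inv_cancel_left] at this
  simpa using mul_mem (inv_mem hm) this

/-- A `3`-group meeting `A` nontrivially lies in `M`. -/
theorem three_le_M {S : Subgroup X} (hS : IsPGroup 3 S) {v : Vec} (hv : v ≠ 0) (hvS : T.a v ∈ S) :
    S ≤ T.M := by
  haveI : Fact (Nat.Prime 3) := ⟨Nat.prime_three⟩
  haveI : Nontrivial S := ⟨⟨⟨T.a v, hvS⟩, 1, fun e => hv (T.a_eq_one (congrArg Subtype.val e))⟩⟩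
  haveI := hS.center_nontrivial
  obtain ⟨z, hz⟩ := exists_ne (1 : Subgroup.center S)
  have hzc : ∀ g ∈ S, g * ((z : S) : X) = ((z : S) : X) * g := fun g hg =>
    congrArg Subtype.val (Subgroup.mem_center_iff.1 z.2 ⟨g, hg⟩)
  have hzM : ((z : S) : X) ∈ T.M :=
    T.cent_le_M hv (Subgroup.mem_centralizer_singleton_iff.2 (hzc _ hvS).symm)
  obtain ⟨h, hh, hA⟩ := T.conj_into_A (hS.to_le (Subgroup.zpowers_le.2 (z : S).2)) (Subgroup.zpowers_le.2 hzM)
  obtain ⟨w, hw⟩ := T.mem_A.1 (hA _ (Subgroup.mem_zpowers _))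
  have hw0 : w ≠ 0 := by
    rintro rfl
    rw [T.a_zero, eq_comm, mul_inv_eq_one] at hw
    exact hz (Subtype.ext (Subtype.ext (mul_eq_left.1 hw)))
  intro g hg
  have e : g * h⁻¹ * T.a w * (g * h⁻¹)⁻¹ = ((z : S) : X) := by
    calc g * h⁻¹ * T.a w * (g * h⁻¹)⁻¹ = g * ((z : S) : X) * g⁻¹ := by rw [hw]; group
      _ = _ := by rw [hzc g hg, mul_inv_cancel_right]
  have := T.strong hw0 (e ▸ hzM)
  simpa using mul_mem this hh

/-- A `3`-group meeting `A` nontrivially is conjugate into `A`. -/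
theorem three_conj {S : Subgroup X} (hS : IsPGroup 3 S) {v : Vec} (hv : v ≠ 0) (hvS : T.a v ∈ S) :
    ∃ h ∈ T.M, ∀ x ∈ S, h * x * h⁻¹ ∈ T.A :=
  T.conj_into_A hS (T.three_le_M hS hv hvS)

end Flat

end Cfsg.Agent.Spor.OmegaEightThree.X
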