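import Cfsg.Agent.Lib.Spor.OmegaEightThree.X.NormV

/-!
Fixed points of the sign changes on `V`, and the sign of an element of `M`.
-/

set_option autoImplicit false
set_option linter.unusedSectionVars false
set_option maxHeartbeats 800000

namespace Cfsg.Agent.Spor.OmegaEightThree.X

open Subgroup (centralizer normalizer)

theorem cov_one : ∀ ε : Sgn, ε ≠ 1 → ε ≠ -1 →
    ∃ j : Fin 4, ∀ i, i = 0 ∨ i = j ∨ act ε 0 = i ∨ act ε j = i := by decide +kernel

theorem flip_ne : ∀ i : Fin 3, flipSgn i ≠ 1 ∧ flipSgn i ≠ -1 := by decide +kernel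

theorem cov_two : ∀ (i : Fin 3) (ε : Sgn), ε ≠ 1 → ε ≠ flipSgn i → ε ≠ -1 → flipSgn i * ε ≠ -1 →
    ∀ j : Fin 4, 0 = j ∨ act (flipSgn i) 0 = j ∨ act ε 0 = j ∨ act (flipSgn i * ε) 0 = j := by decide +kernel

theorem cov_all : ∀ j : Fin 4, ∃ ε : Sgn, act ε 0 = j := fun j => act_trans 0 j

namespace Flat

variable {X : Type*} [Group X] [Finite X] (T : Flat X)

/-- The fixed points of a sign change on `V`. -/
noncomputable def CV (ε : Sgn) : Subgroup X := T.V ⊓ centralizer ({T.sg ε} : Set X)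

theorem mem_CV {ε : Sgn} {y : X} : y ∈ T.CV ε ↔ y ∈ T.V ∧ y * T.sg ε = T.sg ε * y := by
  rw [CV, Subgroup.mem_inf, Subgroup.mem_centralizer_singleton_iff]

/-- The fixed points of `-1` on a plane. -/
noncomputable def CR (i : Fin 4) : Subgroup X := T.R i ⊓ centralizer ({T.sg (-1)} : Set X)

theorem card_CR (i : Fin 4) : Nat.card (T.CR i) ≤ 2 := by
  have hle : T.CR i ≤ T.R i := inf_le_left
  have hd : Nat.card (T.CR i) ∣ 4 := T.card_R i ▸ Subgroup.card_dvd_of_le hle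
  have hne : Nat.card (T.CR i) ≠ 4 := by
    intro h4
    have heq : T.CR i = T.R i := Subgroup.eq_of_le_of_card_ge hle (by rw [T.card_R, h4])
    have hk : ∀ x ∈ T.R i, T.sg (-1) * x = x * T.sg (-1) := fun x hx => by
      rw [← heq] at hx
      exact (Subgroup.mem_centralizer_singleton_iff.1 hx.2).symm
    obtain ⟨w, hw⟩ := exists_move i
    obtain ⟨x, hx, hx1⟩ := T.exists_ne_one i
    refine hx1 (T.R_move i (w + w) (fun e => hw (dot_double i w e)) x hx ?_)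
    have e1 := hk _ (T.R_norm i w x hx)
    have e2 := hk x hx
    change T.sg (-1) * (T.a w * x * (T.a w)⁻¹) = T.a w * x * (T.a w)⁻¹ * T.sg (-1) at e1
    have e3 : T.a (-w) * x * (T.a (-w))⁻¹ = T.a w * x * (T.a w)⁻¹ := by
      rw [← mul_inv_eq_iff_eq_mul.2 e1, ← mono_neg_one, ← T.sg_conj (-1) w]
      conv_lhs => arg 1; arg 2; rw [← mul_inv_eq_iff_eq_mul.2 e2]
      group
    show T.a (w + w) * x = x * T.a (w + w)
    rw [T.a_neg, inv_inv] at e3
    calc T.a (w + w) * x = T.a w * (T.a w * x * (T.a w)⁻¹) * T.a w := by rw [T.a_add]; group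
      _ = x * T.a (w + w) := by rw [← e3, T.a_add]; group
  have hpos : 0 < Nat.card (T.CR i) := Nat.card_pos
  have hle4 := Nat.le_of_dvd (by norm_num) hd
  interval_cases (Nat.card (T.CR i)) <;> simp_all

theorem fix_comp {ε : Sgn} {f : ∀ i, T.R i} (h : T.pr f * T.sg ε = T.sg ε * T.pr f) (i : Fin 4) :
    (f (act ε i) : X) = T.sg ε * f i * (T.sg ε)⁻¹ := by
  obtain ⟨f', hf', hfi⟩ := T.conj_pr (act_act ε) (fun i x hx => T.sg_R ε i hx) f
  rw [← h, mul_inv_cancel_right] at hf'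
  have e := hfi (act ε i)
  rw [T.pr_inj hf', act_act] at e
  exact e

theorem CR_comp {f : ∀ i, T.R i} (h : T.pr f * T.sg (-1) = T.sg (-1) * T.pr f) (i : Fin 4) :
    (f i : X) ∈ T.CR i := by
  refine Subgroup.mem_inf.2 ⟨(f i).2, Subgroup.mem_centralizer_singleton_iff.2 ?_⟩
  have e := T.fix_comp h i
  rw [act_neg_one] at e
  calc (f i : X) * T.sg (-1) = T.sg (-1) * f i * (T.sg (-1))⁻¹ * T.sg (-1) := by rw [← e]
    _ = T.sg (-1) * f i := inv_mul_cancel_right _ _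

/-- Components on representatives of the orbits determine a fixed element. -/
theorem card_fixed {n : ℕ} (E : Set Sgn) (J : Fin n → Fin 4)
    (hcov : ∀ i, ∃ j, J j = i ∨ ∃ e ∈ E, act e (J j) = i) (W : Subgroup X) (hW : W ≤ T.V)
    (hfix : ∀ e ∈ E, ∀ y ∈ W, y * T.sg e = T.sg e * y) (S : Fin n → Subgroup X)
    (hS : ∀ f, T.pr f ∈ W → ∀ j, (f (J j) : X) ∈ S j) : Nat.card W ≤ ∏ j, Nat.card (S j) := by
  classical
  rw [← Nat.card_pi]
  have hex : ∀ y : W, ∃ f, T.pr f = y := fun y => T.mem_V.1 (hW y.2)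
  choose F hF using hex
  refine Nat.card_le_card_of_injective (fun y j => (⟨_, hS (F y) ((hF y).symm ▸ y.2) j⟩ : S j)) ?_
  intro y y' hyy
  have hJ : ∀ j, (F y (J j) : X) = F y' (J j) := fun j =>
    congrArg (fun p : S j => (p : X)) (congrFun hyy j)
  have hFF : F y = F y' := by
    funext i
    obtain ⟨j, hj | ⟨e, he, hj⟩⟩ := hcov i
    · exact Subtype.ext (hj ▸ hJ j)
    · subst hj
      refine Subtype.ext ?_
      rw [T.fix_comp (by rw [hF]; exact hfix e he _ y.2), T.fix_comp (by rw [hF]; exact hfix e he _ y'.2),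
        hJ]
  exact Subtype.ext (by rw [← hF y, ← hF y', hFF])

theorem card_CV_le {ε : Sgn} (hε : ε ≠ 1) : Nat.card (T.CV ε) ≤ 16 := by
  by_cases h : ε = -1
  · subst h
    refine (T.card_fixed ∅ id (fun i => ⟨i, Or.inl rfl⟩) _ inf_le_left (by simp) T.CR
      (fun f hf j => T.CR_comp (T.mem_CV.1 hf).2 j)).trans ?_
    refine (Finset.prod_le_prod' fun j _ => T.card_CR j).trans ?_
    simp
  · obtain ⟨j, hj⟩ := cov_one ε hε h
    refine (T.card_fixed {ε} ![0, j] ?_ _ inf_le_left ?_ (fun k => T.R (![0, j] k)) (fun f _ k => (f _).2)).trans ?_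
    · intro i
      rcases hj i with e | e | e | e
      · exact ⟨0, Or.inl e.symm⟩
      · exact ⟨1, Or.inl e.symm⟩
      · exact ⟨0, Or.inr ⟨ε, rfl, e⟩⟩
      · exact ⟨1, Or.inr ⟨ε, rfl, e⟩⟩
    · rintro e rfl y hy
      exact (T.mem_CV.1 hy).2
    · simp [T.card_R]

theorem card_CV_two {i : Fin 3} {ε : Sgn} (h1 : ε ≠ 1) (h2 : ε ≠ flipSgn i) (W : Subgroup X)
    (hW : W ≤ T.CV (flipSgn i) ⊓ T.CV ε) : Nat.card W ≤ 4 := by
  obtain ⟨hf1, hf2⟩ := flip_ne i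
  have hWV : W ≤ T.V := hW.trans (inf_le_left.trans inf_le_left)
  have hs : ∀ y ∈ W, y * T.sg (flipSgn i) = T.sg (flipSgn i) * y := fun y hy => (T.mem_CV.1 (hW hy).1).2
  have he : ∀ y ∈ W, y * T.sg ε = T.sg ε * y := fun y hy => (T.mem_CV.1 (hW hy).2).2
  have hse : ∀ y ∈ W, y * T.sg (flipSgn i * ε) = T.sg (flipSgn i * ε) * y := fun y hy => by
    rw [map_mul]
    exact (Commute.mul_right (hs y hy) (he y hy)).eq
  by_cases hneg : ε = -1 ∨ flipSgn i * ε = -1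
  · obtain ⟨j, hj⟩ := cov_one _ hf1 hf2
    have hn : ∀ y ∈ W, y * T.sg (-1) = T.sg (-1) * y := by
      rcases hneg with h | h
      · exact h ▸ he
      · exact h ▸ hse
    refine (T.card_fixed {flipSgn i} ![0, j] ?_ W hWV ?_ (fun k => T.CR (![0, j] k))
      (fun f hf k => T.CR_comp (hn _ hf) _)).trans ?_
    · intro i
      rcases hj i with e | e | e | e
      · exact ⟨0, Or.inl e.symm⟩
      · exact ⟨1, Or.inl e.symm⟩
      · exact ⟨0, Or.inr ⟨_, rfl, e⟩⟩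
      · exact ⟨1, Or.inr ⟨_, rfl, e⟩⟩
    · rintro e rfl y hy
      exact hs y hy
    · rw [Fin.prod_univ_two]
      exact Nat.mul_le_mul (T.card_CR _) (T.card_CR _)
  · push Not at hneg
    have hc := cov_two i ε h1 h2 hneg.1 hneg.2
    refine (T.card_fixed {flipSgn i, ε, flipSgn i * ε} ![0] ?_ W hWV ?_ (fun k => T.R (![0] k))
      (fun f _ k => (f _).2)).trans ?_
    · intro j
      rcases hc j with e | e | e | e
      · exact ⟨0, Or.inl e⟩
      · exact ⟨0, Or.inr ⟨_, Or.inl rfl, e⟩⟩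
      · exact ⟨0, Or.inr ⟨_, Or.inr (Or.inl rfl), e⟩⟩
      · exact ⟨0, Or.inr ⟨_, Or.inr (Or.inr rfl), e⟩⟩
    · rintro e (rfl | rfl | rfl) y hy
      · exact hs y hy
      · exact he y hy
      · exact hse y hy
    · simp [T.card_R]

theorem card_CV_all (W : Subgroup X) (hW : ∀ ε, W ≤ T.CV ε) : Nat.card W ≤ 2 := by
  refine (T.card_fixed Set.univ ![0] ?_ W ((hW 1).trans inf_le_left) (fun e _ y hy => (T.mem_CV.1 (hW e hy)).2)
    (fun k => T.CR (![0] k)) (fun f hf k => T.CR_comp (T.mem_CV.1 (hW _ hf)).2 _)).trans ?_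
  · intro j
    obtain ⟨ε, hε⟩ := cov_all j
    exact ⟨0, Or.inr ⟨ε, trivial, hε⟩⟩
  · rw [Fin.prod_univ_one]
    exact T.card_CR _

theorem V_conj_mem {g y : X} (hg : g ∈ T.M) (hy : y ∈ T.V) : g * y * g⁻¹ ∈ T.V :=
  (Subgroup.mem_normalizer_iff.1 (T.M_norm_V hg) y).1 hy

/-- `y ↦ y y^k`. -/
noncomputable def psi (ε : Sgn) : T.V →* X :=
  MonoidHom.mk' (fun y => (y : X) * (T.sg ε * y * (T.sg ε)⁻¹)) fun y y' => by
    have hc := T.V_comm y'.2 (T.V_conj_mem (T.sg_le_M ε) y.2)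
    show (y : X) * y' * (T.sg ε * ((y : X) * y') * (T.sg ε)⁻¹) =
      (y : X) * (T.sg ε * y * (T.sg ε)⁻¹) * ((y' : X) * (T.sg ε * y' * (T.sg ε)⁻¹))
    calc _ = (y : X) * ((y' : X) * (T.sg ε * y * (T.sg ε)⁻¹)) * (T.sg ε * y' * (T.sg ε)⁻¹) := by group
      _ = _ := by rw [hc]; group

/-- For `ε ≠ ±1` the fixed points are the `w w^k`; there are sixteen of them. -/
theorem CV_eq {ε : Sgn} (h1 : ε ≠ 1) : Nat.card (T.CV ε) = 16 ∧
    ∀ y ∈ T.CV ε, ∃ w ∈ T.V, y = w * (T.sg ε * w * (T.sg ε)⁻¹) := by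
  have hrange : (T.psi ε).range ≤ T.CV ε := by
    rintro _ ⟨y, rfl⟩
    have hmem := T.V_conj_mem (T.sg_le_M ε) y.2
    refine T.mem_CV.2 ⟨mul_mem y.2 hmem, mul_inv_eq_iff_eq_mul.1 ?_ |>.symm⟩
    show T.sg ε * ((y : X) * (T.sg ε * y * (T.sg ε)⁻¹)) * (T.sg ε)⁻¹ = y * (T.sg ε * y * (T.sg ε)⁻¹)
    rw [T.V_comm y.2 hmem, show T.sg ε * (T.sg ε * (y : X) * (T.sg ε)⁻¹ * y) * (T.sg ε)⁻¹ =
      T.sg ε * T.sg ε * y * (T.sg ε * T.sg ε)⁻¹ * (T.sg ε * y * (T.sg ε)⁻¹) by group, T.sg_sq, one_mul,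
      inv_one, mul_one]
    exact T.V_comm y.2 hmem
  have hker : Nat.card (T.psi ε).ker ≤ Nat.card (T.CV ε) := by
    refine Nat.card_le_card_of_injective (fun y => ⟨(y : T.V), T.mem_CV.2 ⟨(y : T.V).2, ?_⟩⟩) ?_
    · have h : ((y : T.V) : X) * (T.sg ε * (y : T.V) * (T.sg ε)⁻¹) = 1 := y.2
      have h' : ((y : T.V) : X) * (y : T.V) = 1 := T.V_sq (y : T.V).2
      have := mul_left_cancel (h.trans h'.symm)
      exact (mul_inv_eq_iff_eq_mul.1 this).symm
    · intro y y' e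
      exact Subtype.ext (Subtype.ext (congrArg Subtype.val e :))
  have hVc : Nat.card (T.psi ε).range * Nat.card (T.psi ε).ker = 256 := by
    rw [← T.card_V, Subgroup.card_eq_card_quotient_mul_card_subgroup (T.psi ε).ker,
      Nat.card_congr (QuotientGroup.quotientKerEquivRange (T.psi ε)).toEquiv]
  have hr := Subgroup.card_le_of_le hrange
  have h16 := T.card_CV_le h1
  have hge : 16 ≤ Nat.card (T.psi ε).range := by nlinarith
  refine ⟨le_antisymm h16 (hge.trans hr), fun y hy => ?_⟩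
  rw [← Subgroup.eq_of_le_of_card_ge hrange (h16.trans hge)] at hy
  obtain ⟨w, hw⟩ := hy
  exact ⟨w, w.2, hw.symm⟩

/-- The sign of an element of `M`. -/
noncomputable def eps (g : T.M) : Sgn := (T.dec_M g.2).choose_spec.2.choose_spec.choose

theorem eps_spec (g : T.M) : ∃ y ∈ T.V, ∃ v, (g : X) = y * (T.a v * T.sg (T.eps g)) :=
  ⟨_, (T.dec_M g.2).choose_spec.1, _, (T.dec_M g.2).choose_spec.2.choose_spec.choose_spec⟩

theorem eps_eq {g : T.M} {y : X} {v : Vec} {ε : Sgn} (hy : y ∈ T.V) (h : (g : X) = y * (T.a v * T.sg ε)) :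
    T.eps g = ε := by
  obtain ⟨y', hy', v', h'⟩ := T.eps_spec g
  exact (T.dec_eq hy' hy (h'.symm.trans h)).2.2

/-- The sign as a homomorphism. -/
noncomputable def epsHom : T.M →* Sgn :=
  MonoidHom.mk' T.eps fun g g' => by
    obtain ⟨y, hy, v, h⟩ := T.eps_spec g
    obtain ⟨y', hy', v', h'⟩ := T.eps_spec g'
    set ε := T.eps g
    set ε' := T.eps g'
    have hk := T.N_le_M (T.a_sg_mem v ε)
    refine T.eps_eq (mul_mem hy (T.V_conj_mem hk hy')) (v := v + mono 1 ε v') ?_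
    have hsa : T.a (mono 1 ε v') = T.sg ε * T.a v' * (T.sg ε)⁻¹ := (T.sg_conj ε v').symm
    rw [Subgroup.coe_mul, h, h', T.a_add, hsa, map_mul]
    group

theorem epsHom_apply (g : T.M) : T.epsHom g = T.eps g := rfl

theorem epsHom_V {y : X} (hy : y ∈ T.V) : T.epsHom ⟨y, T.V_le_M hy⟩ = 1 :=
  T.eps_eq hy (v := 0) (by rw [T.a_zero, map_one, one_mul, mul_one])

theorem epsHom_A (v : Vec) : T.epsHom ⟨T.a v, T.A_le_M (T.a_mem v)⟩ = 1 :=
  T.eps_eq (one_mem _) (v := v) (by rw [map_one, mul_one, one_mul])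

theorem epsHom_sg (ε : Sgn) : T.epsHom ⟨T.sg ε, T.sg_le_M ε⟩ = ε :=
  T.eps_eq (one_mem _) (v := 0) (by rw [T.a_zero, one_mul, one_mul])

end Flat

end Cfsg.Agent.Spor.OmegaEightThree.X
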