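import Cfsg.Agent.Lib.Spor.OmegaEightThree.X.Signs
import Cfsg.Agent.Lib.Solv.Generation

/-!
The centraliser of the involution modulo the involution: `A` and four commuting planes.
-/

set_option autoImplicit false
set_option linter.unusedSectionVars false

namespace Cfsg.Agent.Spor.OmegaEightThree.X

open Subgroup (centralizer normalizer)
open scoped Pointwise

/-- The data of `X/⟨t⟩`. -/
structure Flat (X : Type*) [Group X] where
  e : Multiplicative Vec →* X
  R : Fin 4 → Subgroup X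
  e_inj : Function.Injective e
  card_R : ∀ i, Nat.card (R i) = 4
  R_sq : ∀ i, ∀ x ∈ R i, x * x = 1
  R_comm : ∀ i j, ∀ x ∈ R i, ∀ y ∈ R j, x * y = y * x
  R_indep : iSupIndep R
  R_norm : ∀ i v, ∀ x ∈ R i,
    e (Multiplicative.ofAdd v) * x * (e (Multiplicative.ofAdd v))⁻¹ ∈ R i
  R_fix : ∀ i v, dot (hh i) v = 0 → ∀ x ∈ R i,
    e (Multiplicative.ofAdd v) * x = x * e (Multiplicative.ofAdd v)
  R_move : ∀ i v, dot (hh i) v ≠ 0 → ∀ x ∈ R i,
    e (Multiplicative.ofAdd v) * x = x * e (Multiplicative.ofAdd v) → x = 1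
  cent : ∀ v, 2 ≤ wt v → ∀ g, g * e (Multiplicative.ofAdd v) = e (Multiplicative.ofAdd v) * g →
    ∃ y k : X, g = y * k ∧ y ∈ (⨆ i, R i) ∧
      y * e (Multiplicative.ofAdd v) = e (Multiplicative.ofAdd v) * y ∧
      k ∈ normalizer (e.range : Set X)
  centA : ∀ g, (∀ v, g * e (Multiplicative.ofAdd v) = e (Multiplicative.ofAdd v) * g) → g ∈ e.range
  auto : ∀ k ∈ normalizer (e.range : Set X), ∃ ε : Sgn,
    (∀ v, k * e (Multiplicative.ofAdd v) * k⁻¹ = e (Multiplicative.ofAdd (mono 1 ε v))) ∧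
    ∀ i, ∀ x ∈ R i, k * x * k⁻¹ ∈ R (act ε i)
  sign : ∀ ε : Sgn, ∃ k ∈ normalizer (e.range : Set X),
    ∀ v, k * e (Multiplicative.ofAdd v) * k⁻¹ = e (Multiplicative.ofAdd (mono 1 ε v))

namespace Flat

variable {X : Type*} [Group X] (T : Flat X)

/-- The element with coordinates `v`. -/
def a (v : Vec) : X := T.e (Multiplicative.ofAdd v)

/-- The plane `A`. -/
def A : Subgroup X := T.e.range

/-- The product of the four planes. -/
def V : Subgroup X := ⨆ i, T.R i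

/-- `M = V N(A)`. -/
def M : Subgroup X := T.V ⊔ normalizer (T.A : Set X)

theorem a_add (v w : Vec) : T.a (v + w) = T.a v * T.a w := map_mul T.e _ _

theorem a_zero : T.a 0 = 1 := map_one T.e

theorem a_neg (v : Vec) : T.a (-v) = (T.a v)⁻¹ := map_inv T.e _

theorem a_inj {v w : Vec} (h : T.a v = T.a w) : v = w := Multiplicative.ofAdd.injective (T.e_inj h)

theorem a_eq_one {v : Vec} (h : T.a v = 1) : v = 0 := T.a_inj (h.trans T.a_zero.symm)

theorem a_mem (v : Vec) : T.a v ∈ T.A := ⟨_, rfl⟩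

theorem mem_A {x : X} : x ∈ T.A ↔ ∃ v, T.a v = x :=
  ⟨fun ⟨w, hw⟩ => ⟨w.toAdd, hw⟩, fun ⟨v, hv⟩ => hv ▸ T.a_mem v⟩

theorem a_comm (v w : Vec) : T.a v * T.a w = T.a w * T.a v := by rw [← T.a_add, ← T.a_add, add_comm]

theorem a_cube (v : Vec) : T.a v ^ 3 = 1 := by
  rw [pow_succ, pow_two, ← T.a_add, ← T.a_add, ← T.a_zero]
  refine congrArg T.a (funext fun i => ?_)
  show v i + v i + v i = 0
  have : ∀ a : ZMod 3, a + a + a = 0 := by decide
  exact this _

theorem card_A : Nat.card T.A = 27 := by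
  rw [show T.A = T.e.range from rfl, ← Nat.card_congr (MonoidHom.ofInjective T.e_inj).toEquiv,
    Nat.card_congr Multiplicative.toAdd, Nat.card_fun, Nat.card_fin, Nat.card_zmod]
  rfl

theorem A_le_normalizer : T.A ≤ normalizer (T.A : Set X) := Subgroup.le_normalizer

theorem R_le_V (i : Fin 4) : T.R i ≤ T.V := le_iSup T.R i

theorem A_le_M : T.A ≤ T.M := T.A_le_normalizer.trans le_sup_right

theorem V_le_M : T.V ≤ T.M := le_sup_left

theorem commute_R : Pairwise fun i j => ∀ x y : X, x ∈ T.R i → y ∈ T.R j → Commute x y :=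
  fun i j _ x y hx hy => T.R_comm i j x hx y hy

/-- The product map on the four planes. -/
def pr : (∀ i, T.R i) →* X := Subgroup.noncommPiCoprod T.commute_R

theorem pr_single (i : Fin 4) (x : T.R i) : T.pr (Pi.mulSingle i x) = x :=
  Subgroup.noncommPiCoprod_mulSingle i x

theorem pr_range : T.pr.range = T.V := Subgroup.noncommPiCoprod_range

theorem pr_inj : Function.Injective T.pr := Subgroup.injective_noncommPiCoprod_of_iSupIndep T.R_indep

theorem pr_mem (f : ∀ i, T.R i) : T.pr f ∈ T.V := T.pr_range ▸ ⟨f, rfl⟩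

theorem mem_V {y : X} : y ∈ T.V ↔ ∃ f, T.pr f = y := by rw [← T.pr_range]; rfl

theorem card_V : Nat.card T.V = 256 := by
  rw [← T.pr_range, ← Nat.card_congr (MonoidHom.ofInjective T.pr_inj).toEquiv, Nat.card_pi]
  simp [T.card_R]

instance finite_R (i : Fin 4) : Finite (T.R i) := Nat.finite_of_card_ne_zero (by rw [T.card_R]; norm_num)

theorem V_comm {x y : X} (hx : x ∈ T.V) (hy : y ∈ T.V) : x * y = y * x := by
  obtain ⟨f, rfl⟩ := T.mem_V.1 hx
  obtain ⟨g, rfl⟩ := T.mem_V.1 hy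
  rw [← map_mul, ← map_mul]
  refine congrArg T.pr (funext fun i => Subtype.ext ?_)
  exact T.R_comm i i _ (f i).2 _ (g i).2

theorem V_sq {x : X} (hx : x ∈ T.V) : x * x = 1 := by
  obtain ⟨f, rfl⟩ := T.mem_V.1 hx
  rw [← map_mul, ← map_one T.pr]
  exact congrArg T.pr (funext fun i => Subtype.ext (T.R_sq i _ (f i).2))

/-- Conjugation by an element permuting the planes acts componentwise. -/
theorem conj_pr {k : X} {σ : Fin 4 → Fin 4} (hσ : ∀ i, σ (σ i) = i)
    (h : ∀ i, ∀ x ∈ T.R i, k * x * k⁻¹ ∈ T.R (σ i)) (f : ∀ i, T.R i) :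
    ∃ f' : ∀ i, T.R i, T.pr f' = k * T.pr f * k⁻¹ ∧ ∀ i, (f' i : X) = k * f (σ i) * k⁻¹ := by
  classical
  have hmem : ∀ (g : ∀ i, T.R i) i, k * (g (σ i) : X) * k⁻¹ ∈ T.R i := fun g i => by
    have := h (σ i) _ (g (σ i)).2
    rwa [hσ] at this
  let F : (∀ i, T.R i) →* (∀ i, T.R i) :=
    { toFun := fun g i => ⟨k * (g (σ i) : X) * k⁻¹, hmem g i⟩
      map_one' := funext fun i => Subtype.ext (by simp)
      map_mul' := fun g g' => funext fun i => Subtype.ext (by simp [mul_assoc]) }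
  refine ⟨F f, ?_, fun i => rfl⟩
  suffices T.pr.comp F = ((MulAut.conj k).toMonoidHom.comp T.pr) from DFunLike.congr_fun this f
  refine MonoidHom.ext fun g => ?_
  show g ∈ MonoidHom.eqLocus (T.pr.comp F) ((MulAut.conj k).toMonoidHom.comp T.pr)
  refine Subgroup.pi_mem_of_mulSingle_mem g fun i => ?_
  generalize g i = x
  show T.pr.comp F (Pi.mulSingle i x) = (MulAut.conj k).toMonoidHom.comp T.pr (Pi.mulSingle i x)
  have hF : F (Pi.mulSingle i x) = Pi.mulSingle (σ i) ⟨k * (x : X) * k⁻¹, h i _ x.2⟩ := by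
    funext j
    apply Subtype.ext
    show k * ((Pi.mulSingle i x : ∀ i, T.R i) (σ j) : X) * k⁻¹ = _
    by_cases hj : j = σ i
    · subst hj
      have e : ∀ j, j = i → ((Pi.mulSingle i x : ∀ i, T.R i) j : X) = x := by
        rintro j rfl; rw [Pi.mulSingle_eq_same]
      rw [e _ (hσ i), Pi.mulSingle_eq_same]
    · rw [Pi.mulSingle_eq_of_ne (fun e : σ j = i => hj (by rw [← e, hσ])), Pi.mulSingle_eq_of_ne hj]
      simp
  rw [MonoidHom.comp_apply, MonoidHom.comp_apply, hF, pr_single, pr_single]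
  rfl

theorem conj_a (v : Vec) (f : ∀ i, T.R i) :
    ∃ f' : ∀ i, T.R i, T.pr f' = T.a v * T.pr f * (T.a v)⁻¹ ∧
      ∀ i, (f' i : X) = T.a v * f i * (T.a v)⁻¹ :=
  T.conj_pr (σ := id) (fun _ => rfl) (fun i => T.R_norm i v) f

/-- The centraliser in `V` of an element of `A`. -/
theorem fix_iff (v : Vec) (f : ∀ i, T.R i) :
    T.a v * T.pr f = T.pr f * T.a v ↔ ∀ i, dot (hh i) v ≠ 0 → f i = 1 := by
  obtain ⟨f', hf', hfi⟩ := T.conj_a v f
  constructor
  · intro h i hd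
    have : f' = f := T.pr_inj (by rw [hf', h, mul_inv_cancel_right])
    refine Subtype.ext (T.R_move i v hd _ (f i).2 ?_)
    have e := hfi i
    rw [this] at e
    show T.a v * (f i : X) = f i * T.a v
    conv_rhs => rw [e]
    group
  · intro h
    have : f' = f := funext fun i => Subtype.ext (by
      rw [hfi]
      rcases eq_or_ne (dot (hh i) v) 0 with hd | hd
      · rw [show T.a v * (f i : X) = f i * T.a v from T.R_fix i v hd _ (f i).2, mul_inv_cancel_right]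
      · rw [h i hd]; simp)
    rw [this] at hf'
    conv_rhs => rw [hf']
    group

theorem A_norm_V : T.A ≤ normalizer (T.V : Set X) := by
  intro x hx
  obtain ⟨v, rfl⟩ := T.mem_A.1 hx
  rw [Subgroup.mem_normalizer_iff]
  have key : ∀ w y, y ∈ T.V → T.a w * y * (T.a w)⁻¹ ∈ T.V := fun w y hy => by
    obtain ⟨f, rfl⟩ := T.mem_V.1 hy
    obtain ⟨f', hf', -⟩ := T.conj_a w f
    exact hf' ▸ T.pr_mem f'
  refine fun y => ⟨key v y, fun hy => ?_⟩
  have := key (-v) _ hy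
  rw [T.a_neg, inv_inv] at this
  rwa [show (T.a v)⁻¹ * (T.a v * y * (T.a v)⁻¹) * T.a v = y by group] at this

theorem N_norm_V : normalizer (T.A : Set X) ≤ normalizer (T.V : Set X) := by
  have key : ∀ k ∈ normalizer (T.A : Set X), ∀ y ∈ T.V, k * y * k⁻¹ ∈ T.V := fun k hk y hy => by
    obtain ⟨ε, -, hR⟩ := T.auto k hk
    obtain ⟨f, rfl⟩ := T.mem_V.1 hy
    obtain ⟨f', hf', -⟩ := T.conj_pr (act_act ε) hR f
    exact hf' ▸ T.pr_mem f'
  intro k hk
  rw [Subgroup.mem_normalizer_iff]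
  refine fun y => ⟨key k hk y, fun hy => ?_⟩
  have := key _ (inv_mem hk) _ hy
  rwa [inv_inv, show k⁻¹ * (k * y * k⁻¹) * k = y by group] at this

theorem mem_M {g : X} : g ∈ T.M ↔ ∃ y ∈ T.V, ∃ k ∈ normalizer (T.A : Set X), g = y * k := by
  have hset : (T.M : Set X) = (T.V : Set X) * (normalizer (T.A : Set X) : Set X) :=
    Subgroup.coe_mul_of_right_le_normalizer_left _ _ T.N_norm_V
  rw [← SetLike.mem_coe, hset, Set.mem_mul]
  exact ⟨fun ⟨y, hy, k, hk, e⟩ => ⟨y, hy, k, hk, e.symm⟩, fun ⟨y, hy, k, hk, e⟩ => ⟨y, hy, k, hk, e.symm⟩⟩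

theorem M_norm_V : T.M ≤ normalizer (T.V : Set X) := sup_le Subgroup.le_normalizer T.N_norm_V

/-- `V ∩ A = 1`. -/
theorem V_inf_A {x : X} (hx : x ∈ T.V) (hA : x ∈ T.A) : x = 1 := by
  obtain ⟨v, rfl⟩ := T.mem_A.1 hA
  have h2 : T.a (v + v) = 1 := by rw [T.a_add]; exact T.V_sq hx
  have hv : ∀ b : ZMod 3, b + b = 0 → b = 0 := by decide
  rw [show v = 0 from funext fun i => hv _ (congrFun (T.a_eq_one h2) i), T.a_zero]

/-- An element of `V` mapping an element of `A` into `A` fixes it. -/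
theorem V_conj_A {y : X} (hy : y ∈ T.V) {v w : Vec} (h : y * T.a v * y⁻¹ = T.a w) :
    v = w ∧ y * T.a v = T.a v * y := by
  have hm : T.a w * (T.a v)⁻¹ ∈ T.V := by
    rw [← h, show y * T.a v * y⁻¹ * (T.a v)⁻¹ = y * (T.a v * y⁻¹ * (T.a v)⁻¹) by group]
    exact mul_mem hy ((Subgroup.mem_normalizer_iff.1 (T.A_norm_V (T.a_mem v)) _).1 (inv_mem hy))
  have e : T.a v = T.a w := (mul_inv_eq_one.1 (T.V_inf_A hm (mul_mem (T.a_mem w) (inv_mem (T.a_mem v))))).symm
  refine ⟨T.a_inj e, ?_⟩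
  calc y * T.a v = (y * T.a v * y⁻¹) * y := by group
    _ = T.a v * y := by rw [h, e]

theorem V_norm_A {y : X} (hy : y ∈ T.V) (hA : y ∈ normalizer (T.A : Set X)) : y = 1 := by
  refine T.V_inf_A hy (T.centA y fun v => ?_)
  obtain ⟨w, hw⟩ := T.mem_A.1 ((Subgroup.mem_normalizer_iff.1 hA (T.a v)).1 (T.a_mem v))
  exact (T.V_conj_A hy hw.symm).2

/-- The decomposition in `M` is unique. -/
theorem dec_unique {y y' k k' : X} (hy : y ∈ T.V) (hy' : y' ∈ T.V) (hk : k ∈ normalizer (T.A : Set X))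
    (hk' : k' ∈ normalizer (T.A : Set X)) (h : y * k = y' * k') : y = y' ∧ k = k' := by
  have e : y'⁻¹ * y = k' * k⁻¹ := by
    rw [eq_mul_inv_iff_mul_eq, mul_assoc, h, inv_mul_cancel_left]
  have h1 := T.V_norm_A (mul_mem (inv_mem hy') hy) (e ▸ mul_mem hk' (inv_mem hk))
  have hyy : y = y' := (inv_mul_eq_one.1 h1).symm
  exact ⟨hyy, mul_left_cancel (hyy ▸ h)⟩

end Flat

end Cfsg.Agent.Spor.OmegaEightThree.X
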