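import Cfsg.Agent.Lib.Spor.OmegaEightThree.X.FlipNorm

/-!
The `2`-subgroups of the centraliser of a sign change of one coordinate have order at most `128`.
-/

set_option autoImplicit false
set_option linter.unusedSectionVars false

namespace Cfsg.Agent.Spor.OmegaEightThree.X

open Subgroup (centralizer normalizer)

namespace Flat

variable {X : Type*} [Group X] [Finite X] (T : Flat X)

/-- The part of `T2` in `C(s)`. -/
noncomputable def T7 (i : Fin 3) : Subgroup X := T.T2 ⊓ T.Cs i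

theorem T7_le_T2 (i : Fin 3) : T.T7 i ≤ T.T2 := inf_le_left

theorem T7_two (i : Fin 3) : IsPGroup 2 (T.T7 i) := T.T2_two.to_le (T.T7_le_T2 i)

theorem A5_le_T7 (i : Fin 3) : T.A5 i ≤ T.T7 i := fun g hg => by
  refine Subgroup.mem_inf.2 ⟨?_, T.A5_le_Cs i hg⟩
  obtain ⟨y, hy, δ, -, rfl⟩ := T.A5_cases hg
  exact mul_mem (T.V_le_T2 hy.1) (T.sg_mem_T2 δ)

theorem T7_ker (i : Fin 3) {U : Subgroup X} (hU : U ≤ T.T7 i) :
    (T.epsOn (hU.trans (T.T7_le_T2 i))).ker.map U.subtype ≤ T.CV (flipSgn i) := by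
  intro g hg
  obtain ⟨hgU, hgV⟩ := T.ker_epsOn _ hg
  exact T.mem_CV.2 ⟨hgV, T.mem_Cs.1 (hU hgU).2⟩

theorem card_T7 (i : Fin 3) : Nat.card (T.T7 i) ≤ 128 := by
  rw [T.card_epsOn (T.T7_le_T2 i)]
  have h1 := (Subgroup.card_le_of_le (T.T7_ker i le_rfl)).trans (T.card_CV_le (flip_ne i).1)
  have h2 : Nat.card (T.epsOn (T.T7_le_T2 i)).range ≤ 8 := card_Sgn ▸ Subgroup.card_le_card_group _
  exact Nat.mul_le_mul h2 h1

/-- `A5` is the only abelian subgroup of its order in `T7`. -/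
theorem A5_uniq (i : Fin 3) {U : Subgroup X} (hU : U ≤ T.T7 i) (hab : ∀ x ∈ U, ∀ y ∈ U, x * y = y * x)
    (hc : Nat.card U = Nat.card (T.A5 i)) : U = T.A5 i := by
  set hU2 := hU.trans (T.T7_le_T2 i)
  by_cases hall : ∀ u : U, T.epsOn hU2 u = 1 ∨ T.epsOn hU2 u = flipSgn i
  · refine Subgroup.eq_of_le_of_card_ge (fun g hg => ?_) (by rw [hc])
    obtain ⟨y, hy, e⟩ := T.eps_T2 (hU2 hg)
    change g = y * T.sg (T.epsOn hU2 ⟨g, hg⟩) at e
    rw [e]
    refine T.A5_mem (T.mem_CV.2 ⟨hy, T.mem_Cs.1 ?_⟩) (hall _)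
    have hy' : y = g * (T.sg (T.epsOn hU2 ⟨g, hg⟩))⁻¹ := eq_mul_inv_of_mul_eq e.symm
    rw [hy']
    exact mul_mem (hU hg).2 (inv_mem (T.sg_Cs i _))
  · exfalso
    push Not at hall
    obtain ⟨u, hu1, hu2⟩ := hall
    set r := (T.epsOn hU2).range with hr
    set k := (T.epsOn hU2).ker.map U.subtype with hk
    have hcard := T.card_epsOn hU2
    have hbig := T.A5_big i
    have hk4 : Nat.card k ≤ 4 := T.card_CV_two hu1 hu2 k (le_inf (T.T7_ker i hU) (T.ker_fixed hU2 hab ⟨u, rfl⟩))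
    by_cases htop : r = ⊤
    · have hk2 : Nat.card k ≤ 2 := T.card_CV_all k fun ε => T.ker_fixed hU2 hab (show ε ∈ r by rw [htop]; exact Subgroup.mem_top ε)
      have hr8 : Nat.card r ≤ 8 := card_Sgn ▸ Subgroup.card_le_card_group _
      have := Nat.mul_le_mul hr8 hk2
      rw [← hcard, hc] at this
      omega
    · have hd : Nat.card r ∣ 8 := card_Sgn ▸ Subgroup.card_subgroup_dvd_card _
      have h8 : Nat.card r ≠ 8 := fun e => htop (Subgroup.eq_top_of_card_eq r (e.trans card_Sgn.symm))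
      have hr4 : Nat.card r ≤ 4 := by
        have := Nat.le_of_dvd (by norm_num) hd
        by_contra hlt
        have h5 : Nat.card r = 5 ∨ Nat.card r = 6 ∨ Nat.card r = 7 := by omega
        rcases h5 with e | e | e <;> rw [e] at hd <;> norm_num at hd
      have := Nat.mul_le_mul hr4 hk4
      rw [← hcard, hc] at this
      omega

/-- A `2`-subgroup of `C(s)` has order at most `128`. -/
theorem two_bound (i : Fin 3) {U : Subgroup X} (hU : IsPGroup 2 U) (hUC : U ≤ T.Cs i) : Nat.card U ≤ 128 := by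
  classical
  haveI : Fact (Nat.Prime 2) := ⟨Nat.prime_two⟩
  set C := T.Cs i with hCdef
  have hle : T.T7 i ≤ C := inf_le_right
  obtain ⟨P, hP⟩ := ((T.T7_two i).comap_of_injective C.subtype C.subtype_injective).exists_le_sylow
  have hPT : (P : Subgroup C) = (T.T7 i).subgroupOf C := by
    by_contra hne
    haveI : Group.IsNilpotent P := P.2.isNilpotent
    have hlt : ((T.T7 i).subgroupOf C).subgroupOf P < ⊤ := lt_top_iff_ne_top.2 fun h =>
      hne (le_antisymm (Subgroup.subgroupOf_eq_top.1 h) hP)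
    obtain ⟨g, hg, hgT⟩ := SetLike.exists_of_lt ((Group.normalizerCondition_of_isNilpotent (G := P)) _ hlt)
    rw [Subgroup.mem_normalizer_iff] at hg
    set gx : X := ((g : C) : X) with hgx
    have hmemP : ∀ x ∈ T.T7 i, ∃ p : P, ((p : C) : X) = x := fun x hx =>
      ⟨⟨⟨x, hle hx⟩, hP (show (⟨x, hle hx⟩ : C) ∈ (T.T7 i).subgroupOf C from hx)⟩, rfl⟩
    have hconj : ∀ x ∈ T.T7 i, gx * x * gx⁻¹ ∈ T.T7 i ∧ gx⁻¹ * x * gx ∈ T.T7 i := by
      intro x hx
      obtain ⟨p, hp⟩ := hmemP x hx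
      refine ⟨?_, ?_⟩
      · have := (hg p).1 (show ((p : C) : X) ∈ T.T7 i by rw [hp]; exact hx)
        change ((((g * p * g⁻¹ : P)) : C) : X) ∈ T.T7 i at this
        push_cast at this
        rwa [hp] at this
      · have := (hg (g⁻¹ * p * g)).2 (by
          show ((((g * (g⁻¹ * p * g) * g⁻¹ : P)) : C) : X) ∈ T.T7 i
          rw [show g * (g⁻¹ * p * g) * g⁻¹ = p by group, hp]; exact hx)
        change ((((g⁻¹ * p * g : P)) : C) : X) ∈ T.T7 i at this
        push_cast at this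
        rwa [hp] at this
    have hA : ∀ k : X, (∀ x ∈ T.T7 i, k * x * k⁻¹ ∈ T.T7 i) → ∀ x ∈ T.A5 i, k * x * k⁻¹ ∈ T.A5 i := by
      intro k hk x hx
      have h := T.A5_uniq i (U := (T.A5 i).map (MulAut.conj k).toMonoidHom)
        (by rintro _ ⟨z, hz, rfl⟩; exact hk z (T.A5_le_T7 i hz))
        (by
          rintro _ ⟨z, hz, rfl⟩ _ ⟨w, hw, rfl⟩
          rw [← map_mul, ← map_mul, T.A5_comm hz hw])
        (by rw [Subgroup.card_map_of_injective (MulEquiv.injective _)])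
      rw [← h]
      exact ⟨x, hx, rfl⟩
    have hgN : gx ∈ T.N5 i := by
      refine Subgroup.mem_inf.2 ⟨?_, (g : C).2⟩
      rw [Subgroup.mem_normalizer_iff]
      refine fun x => ⟨hA gx (fun y hy => (hconj y hy).1) x, fun hx => ?_⟩
      have := hA gx⁻¹ (fun y hy => by rw [inv_inv]; exact (hconj y hy).2) _ hx
      rwa [inv_inv, show gx⁻¹ * (gx * x * gx⁻¹) * gx = x by group] at this
    obtain ⟨y, hy, w, ε, he⟩ := T.Cs_M (g : C).2 (T.N5_le_M i hgN)
    refine hgT ?_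
    show gx ∈ T.T7 i
    have hyT : y ∈ T.T7 i := T.A5_le_T7 i (Or.inl hy)
    have hεT : T.sg ε ∈ T.T7 i := Subgroup.mem_inf.2 ⟨T.sg_mem_T2 ε, T.sg_Cs i ε⟩
    have hPmap : IsPGroup 2 ((P : Subgroup C).map C.subtype) := P.2.map _
    have hTP : ∀ x ∈ T.T7 i, x ∈ (P : Subgroup C).map C.subtype := fun x hx =>
      ⟨⟨x, hle hx⟩, hP (show (⟨x, hle hx⟩ : C) ∈ (T.T7 i).subgroupOf C from hx), rfl⟩
    have ha : T.a (emb i w) ∈ (P : Subgroup C).map C.subtype := by
      have := mul_mem (mul_mem (inv_mem (hTP _ hyT)) (show gx ∈ (P : Subgroup C).map C.subtype from ⟨g, g.2, rfl⟩))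
        (inv_mem (hTP _ hεT))
      rwa [hgx, he, show y⁻¹ * (y * (T.a (emb i w) * T.sg ε)) * (T.sg ε)⁻¹ = T.a (emb i w) by group] at this
    rw [hgx, he, two_three hPmap ha (T.a_cube _), one_mul]
    exact mul_mem hyT hεT
  obtain ⟨Q, hQ⟩ := (hU.comap_of_injective C.subtype C.subtype_injective).exists_le_sylow
  obtain ⟨h, hh⟩ := MulAction.exists_smul_eq C Q P
  calc Nat.card U = Nat.card (U.subgroupOf C) := (Nat.card_congr (Subgroup.subgroupOfEquivOfLe hUC).toEquiv).symm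
    _ ≤ Nat.card (Q : Subgroup C) := Subgroup.card_le_of_le hQ
    _ = Nat.card (P : Subgroup C) := by rw [Sylow.card_eq_multiplicity, Sylow.card_eq_multiplicity]
    _ = Nat.card (T.T7 i) := by rw [hPT]; exact Nat.card_congr (Subgroup.subgroupOfEquivOfLe hle).toEquiv
    _ ≤ 128 := T.card_T7 i

end Flat

end Cfsg.Agent.Spor.OmegaEightThree.X
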