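import Cfsg.Agent.Lib.Spor.OmegaEightThree.X.SylowTwo

/-!
The abelian subgroup of order `32` in the centraliser of a sign change of one coordinate and the plane
acting on it.
-/

set_option autoImplicit false
set_option linter.unusedSectionVars false

namespace Cfsg.Agent.Spor.OmegaEightThree.X

open Subgroup (centralizer normalizer)

theorem flip_ev : ∀ i : Fin 3, mono 1 (flipSgn i) (ev i) = -ev i := by decide +kernel

theorem flip_emb : ∀ (i : Fin 3) (w : Fin 2 → ZMod 3), mono 1 (flipSgn i) (emb i w) = emb i w := by decide +kernel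

theorem flip_fix : ∀ (i : Fin 3) (v : Vec), mono 1 (flipSgn i) v = v → ∃ w, v = emb i w := by decide +kernel

theorem emb_coord : ∀ (i : Fin 3) (w : Fin 2 → ZMod 3), emb i w i = 0 := by decide +kernel

theorem emb_dot : ∀ (i : Fin 3) (w : Fin 2 → ZMod 3), (∀ j, dot (hh j) (emb i w) = 0) → w = 0 := by decide +kernel

theorem emb_zero : ∀ (i : Fin 3) (w : Fin 2 → ZMod 3), emb i w = 0 ↔ w = 0 := by decide +kernel

theorem emb_stab : ∀ (i : Fin 3) (ε : Sgn), (∀ w : Fin 2 → ZMod 3, mono 1 ε (emb i w) = emb i w) →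
    ε = 1 ∨ ε = flipSgn i := by decide +kernel

theorem double_eq : ∀ v : Vec, v + v = 0 → v = 0 := by decide +kernel

theorem flip_mul : ∀ i : Fin 3, flipSgn i * flipSgn i = 1 := fun i => sgn_sq _

theorem common_fixed : ∀ (i : Fin 3) (j : Fin 4), ∃ w : Fin 2 → ZMod 3, dot (hh j) (emb i w) ≠ 0 := by decide +kernel

theorem emb_wt : ∀ (i : Fin 3), ∃ w : Fin 2 → ZMod 3, 2 ≤ wt (emb i w) := by decide +kernel

namespace Flat

variable {X : Type*} [Group X] [Finite X] (T : Flat X)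

/-- The centraliser of the sign change of the coordinate `i`. -/
noncomputable def Cs (i : Fin 3) : Subgroup X := centralizer ({T.sg (flipSgn i)} : Set X)

theorem mem_Cs {i : Fin 3} {g : X} : g ∈ T.Cs i ↔ g * T.sg (flipSgn i) = T.sg (flipSgn i) * g :=
  Subgroup.mem_centralizer_singleton_iff

theorem sg_Cs (i : Fin 3) (ε : Sgn) : T.sg ε ∈ T.Cs i :=
  T.mem_Cs.2 (by rw [← map_mul, ← map_mul, mul_comm])

theorem emb_Cs (i : Fin 3) (w : Fin 2 → ZMod 3) : T.a (emb i w) ∈ T.Cs i := by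
  refine T.mem_Cs.2 ?_
  calc T.a (emb i w) * T.sg (flipSgn i)
      = T.sg (flipSgn i) * T.a (emb i w) * (T.sg (flipSgn i))⁻¹ * T.sg (flipSgn i) := by
        rw [T.sg_conj, flip_emb]
    _ = T.sg (flipSgn i) * T.a (emb i w) := inv_mul_cancel_right _ _

theorem CV_Cs {i : Fin 3} {y : X} (hy : y ∈ T.CV (flipSgn i)) : y ∈ T.Cs i := T.mem_Cs.2 (T.mem_CV.1 hy).2

/-- The shape of an element of `M` centralising the sign change. -/
theorem Cs_M {i : Fin 3} {g : X} (hg : g ∈ T.Cs i) (hgM : g ∈ T.M) :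
    ∃ y ∈ T.CV (flipSgn i), ∃ w ε, g = y * (T.a (emb i w) * T.sg ε) := by
  obtain ⟨y, hy, v, ε, rfl⟩ := T.dec_M hgM
  set s := flipSgn i
  have e : (T.sg s * y * T.sg s) * (T.a (mono 1 s v) * T.sg ε) = y * (T.a v * T.sg ε) := by
    rw [← T.sg_conj s v, T.sg_inv]
    have hc : T.sg s * T.sg ε * T.sg s = T.sg ε := by
      rw [← map_mul, ← map_mul, mul_comm s ε, mul_assoc, sgn_sq, mul_one]
    calc _ = T.sg s * y * (T.sg s * T.sg s) * T.a v * (T.sg s * T.sg ε) := by group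
      _ = T.sg s * (y * (T.a v * T.sg ε)) * T.sg s * (T.sg s * T.sg ε)⁻¹ * (T.sg s * T.sg ε) := by
          rw [T.sg_sq]
          conv_rhs => arg 1; rw [show T.sg s * (y * (T.a v * T.sg ε)) * T.sg s * (T.sg s * T.sg ε)⁻¹ =
            T.sg s * y * T.a v * (T.sg ε * T.sg s * (T.sg ε)⁻¹) * (T.sg s)⁻¹ by group]
          rw [show T.sg ε * T.sg s * (T.sg ε)⁻¹ = T.sg s by
            rw [← map_mul, mul_comm, map_mul, mul_inv_cancel_right]]
          group
      _ = T.sg s * (y * (T.a v * T.sg ε)) * T.sg s := inv_mul_cancel_right _ _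
      _ = y * (T.a v * T.sg ε) := by
          rw [← T.mem_Cs.1 hg, mul_assoc, T.sg_sq, mul_one]
  obtain ⟨h1, h2, -⟩ := T.dec_eq (T.sg_norm_V s hy) hy e
  obtain ⟨w, rfl⟩ := flip_fix i v h2
  refine ⟨y, T.mem_CV.2 ⟨hy, ?_⟩, w, ε, rfl⟩
  conv_lhs => rw [← h1]
  rw [mul_assoc, T.sg_sq, mul_one]

/-- The elements of the plane `v i = 0` act faithfully on the fixed points. -/
theorem CV_faith {i : Fin 3} {w : Fin 2 → ZMod 3}
    (h : ∀ d ∈ T.CV (flipSgn i), T.a (emb i w) * d = d * T.a (emb i w)) : w = 0 := by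
  classical
  refine emb_dot i w fun j => ?_
  by_contra hd
  obtain ⟨x, hx, hx1⟩ := T.exists_ne_one j
  set s := flipSgn i
  obtain ⟨hs1, hs2⟩ := flip_ne i
  have hj : act s j ≠ j := act_ne s hs1 hs2 j
  let xj : T.R j := ⟨x, hx⟩
  let x' : T.R (act s j) := ⟨T.sg s * x * (T.sg s)⁻¹, T.sg_R s j hx⟩
  have hxs : (x' : X) ∈ T.V := T.R_le_V _ x'.2
  have hd' : T.pr (Pi.mulSingle j xj * Pi.mulSingle (act s j) x') ∈ T.CV s := by
    rw [map_mul, T.pr_single, T.pr_single]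
    refine T.mem_CV.2 ⟨mul_mem (T.R_le_V j hx) hxs, ?_⟩
    show x * (T.sg s * x * (T.sg s)⁻¹) * T.sg s = T.sg s * (x * (T.sg s * x * (T.sg s)⁻¹))
    have hc := T.V_comm (T.R_le_V j hx) hxs
    change x * (T.sg s * x * (T.sg s)⁻¹) = T.sg s * x * (T.sg s)⁻¹ * x at hc
    conv_rhs => rw [T.sg_inv]
    conv_lhs => rw [hc]
    have : T.sg s * (x * (T.sg s * x * T.sg s)) = T.sg s * x * T.sg s * x * T.sg s := by group
    rw [this, T.sg_inv]
  have e := ((T.fix_iff (emb i w) _).1 (h _ hd')) j hd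
  rw [Pi.mul_apply, Pi.mulSingle_eq_same, Pi.mulSingle_eq_of_ne hj.symm, mul_one] at e
  exact hx1 (congrArg Subtype.val e)

/-- The subgroup `⟨s⟩ × C_V(s)`. -/
noncomputable def A5 (i : Fin 3) : Subgroup X where
  carrier := {g | g ∈ T.CV (flipSgn i) ∨ g * T.sg (flipSgn i) ∈ T.CV (flipSgn i)}
  one_mem' := Or.inl (one_mem _)
  mul_mem' := by
    intro a b ha hb
    have hb' : b * T.sg (flipSgn i) = T.sg (flipSgn i) * b := by
      rcases hb with hb | hb
      · exact (T.mem_CV.1 hb).2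
      · exact mul_left_cancel (a := T.sg (flipSgn i)) (by
          have h := (T.mem_CV.1 hb).2
          calc T.sg (flipSgn i) * (b * T.sg (flipSgn i)) = b * T.sg (flipSgn i) * T.sg (flipSgn i) := h.symm
            _ = T.sg (flipSgn i) * (T.sg (flipSgn i) * b) := by
              rw [mul_assoc, T.sg_sq, ← mul_assoc, T.sg_sq, mul_one, one_mul])
    rcases ha with ha | ha <;> rcases hb with hb | hb
    · exact Or.inl (mul_mem ha hb)
    · exact Or.inr (by rw [mul_assoc]; exact mul_mem ha hb)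
    · exact Or.inr (by rw [mul_assoc, hb', ← mul_assoc]; exact mul_mem ha hb)
    · refine Or.inl ?_
      have := mul_mem ha hb
      rwa [hb', show a * T.sg (flipSgn i) * (T.sg (flipSgn i) * b) =
        a * (T.sg (flipSgn i) * T.sg (flipSgn i)) * b by group, T.sg_sq, mul_one] at this
  inv_mem' := by
    intro a ha
    rcases ha with ha | ha
    · exact Or.inl (inv_mem ha)
    · refine Or.inr ?_
      have h := (T.mem_CV.1 ha).2
      have := inv_mem ha
      rw [mul_inv_rev, T.sg_inv] at this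
      have hc : a * T.sg (flipSgn i) = T.sg (flipSgn i) * a := mul_left_cancel (a := T.sg (flipSgn i)) (by
        calc T.sg (flipSgn i) * (a * T.sg (flipSgn i)) = a * T.sg (flipSgn i) * T.sg (flipSgn i) := h.symm
          _ = T.sg (flipSgn i) * (T.sg (flipSgn i) * a) := by
            rw [mul_assoc, T.sg_sq, ← mul_assoc, T.sg_sq, mul_one, one_mul])
      have hc' : a⁻¹ * T.sg (flipSgn i) = T.sg (flipSgn i) * a⁻¹ := (show Commute a _ from hc).inv_left.eq
      rwa [hc']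

theorem mem_A5 {i : Fin 3} {g : X} :
    g ∈ T.A5 i ↔ g ∈ T.CV (flipSgn i) ∨ g * T.sg (flipSgn i) ∈ T.CV (flipSgn i) := Iff.rfl

theorem A5_cases {i : Fin 3} {g : X} (hg : g ∈ T.A5 i) :
    ∃ y ∈ T.CV (flipSgn i), ∃ δ, (δ = 1 ∨ δ = flipSgn i) ∧ g = y * T.sg δ := by
  rcases hg with hg | hg
  · exact ⟨g, hg, 1, Or.inl rfl, by rw [map_one, mul_one]⟩
  · exact ⟨_, hg, flipSgn i, Or.inr rfl, by rw [mul_assoc, T.sg_sq, mul_one]⟩

theorem A5_mem {i : Fin 3} {y : X} (hy : y ∈ T.CV (flipSgn i)) {δ : Sgn} (hδ : δ = 1 ∨ δ = flipSgn i) :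
    y * T.sg δ ∈ T.A5 i := by
  rcases hδ with rfl | rfl
  · exact Or.inl (by rw [map_one, mul_one]; exact hy)
  · exact Or.inr (by rw [mul_assoc, T.sg_sq, mul_one]; exact hy)

theorem A5_comm {i : Fin 3} {a b : X} (ha : a ∈ T.A5 i) (hb : b ∈ T.A5 i) : a * b = b * a := by
  obtain ⟨y, hy, δ, hδ, rfl⟩ := T.A5_cases ha
  obtain ⟨z, hz, γ, hγ, rfl⟩ := T.A5_cases hb
  have c1 : ∀ {y : X} {δ : Sgn}, y ∈ T.CV (flipSgn i) → (δ = 1 ∨ δ = flipSgn i) → Commute y (T.sg δ) := by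
    intro y δ hy hδ
    rcases hδ with rfl | rfl
    · rw [map_one]; exact Commute.one_right y
    · exact (T.mem_CV.1 hy).2
  have c2 : Commute y z := T.V_comm hy.1 hz.1
  have c3 : Commute (T.sg δ) (T.sg γ) := (Commute.all δ γ).map T.sg
  exact ((c2.mul_right (c1 hy hγ)).mul_left ((c1 hz hδ).symm.mul_right c3)).eq

theorem A5_le_Cs (i : Fin 3) : T.A5 i ≤ T.Cs i := fun g hg => by
  obtain ⟨y, hy, δ, hδ, rfl⟩ := T.A5_cases hg
  exact mul_mem (T.CV_Cs hy) (T.sg_Cs i δ)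

theorem A5_le_M (i : Fin 3) : T.A5 i ≤ T.M := fun g hg => by
  obtain ⟨y, hy, δ, hδ, rfl⟩ := T.A5_cases hg
  exact mul_mem (T.V_le_M hy.1) (T.sg_le_M δ)

theorem A5_two (i : Fin 3) : IsPGroup 2 (T.A5 i) := by
  rintro ⟨g, hg⟩
  refine ⟨1, Subtype.ext ?_⟩
  obtain ⟨y, hy, δ, hδ, rfl⟩ := T.A5_cases hg
  show (y * T.sg δ) ^ (2 ^ 1) = 1
  have hc : y * T.sg δ = T.sg δ * y := by
    rcases hδ with rfl | rfl
    · rw [map_one, mul_one, one_mul]
    · exact (T.mem_CV.1 hy).2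
  rw [pow_one, pow_two]
  nth_rewrite 2 [hc]
  rw [show y * T.sg δ * (T.sg δ * y) = y * (T.sg δ * T.sg δ) * y by group, T.sg_sq, mul_one, T.V_sq hy.1]

theorem A5_big (i : Fin 3) : 16 < Nat.card (T.A5 i) := by
  obtain ⟨hs1, hs2⟩ := flip_ne i
  rw [← (T.CV_eq hs1).1]
  have hle : T.CV (flipSgn i) ≤ T.A5 i := fun g hg => Or.inl hg
  refine lt_of_le_of_ne (Subgroup.card_le_of_le hle) fun e => ?_
  have heq := Subgroup.eq_of_le_of_card_ge hle e.ge
  have hm : T.sg (flipSgn i) ∈ T.A5 i := Or.inr (by rw [T.sg_sq]; exact one_mem _)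
  rw [← heq] at hm
  have h := T.epsHom_V (T.mem_CV.1 hm).1
  rw [T.epsHom_sg] at h
  exact hs1 h

theorem emb_norm_A5 {i : Fin 3} (w : Fin 2 → ZMod 3) : T.a (emb i w) ∈ normalizer ((T.A5 i : Subgroup X) : Set X) := by
  have key : ∀ w : Fin 2 → ZMod 3, ∀ g ∈ T.A5 i, T.a (emb i w) * g * (T.a (emb i w))⁻¹ ∈ T.A5 i := by
    intro w g hg
    have hcv : ∀ y ∈ T.CV (flipSgn i), T.a (emb i w) * y * (T.a (emb i w))⁻¹ ∈ T.CV (flipSgn i) := by
      intro y hy
      exact ⟨T.V_conj_mem (T.A_le_M (T.a_mem _)) hy.1,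
        (T.Cs i).mul_mem ((T.Cs i).mul_mem (T.emb_Cs i w) (T.CV_Cs hy)) ((T.Cs i).inv_mem (T.emb_Cs i w))⟩
    rcases hg with hg | hg
    · exact Or.inl (hcv g hg)
    · refine Or.inr ?_
      have h := hcv _ hg
      have e := T.mem_Cs.1 (inv_mem (T.emb_Cs i w))
      rwa [mul_assoc, e, ← mul_assoc, mul_assoc (T.a (emb i w)) g]
  rw [Subgroup.mem_normalizer_iff]
  intro g
  refine ⟨key w g, fun hg => ?_⟩
  have hneg : emb i (-w) = -emb i w := by
    have h := emb_add i w (-w)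
    rw [add_neg_cancel, (emb_zero i 0).2 rfl] at h
    exact (neg_eq_of_add_eq_zero_right h.symm).symm
  have := key (-w) _ hg
  rw [hneg, T.a_neg, inv_inv] at this
  rwa [show (T.a (emb i w))⁻¹ * (T.a (emb i w) * g * (T.a (emb i w))⁻¹) * T.a (emb i w) = g by group] at this

end Flat

end Cfsg.Agent.Spor.OmegaEightThree.X
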