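import Cfsg.Agent.Lib.Spor.OmegaEightThree.X.FlipLocal

/-!
The normaliser in `C(s)` of `⟨s⟩ × C_V(s)` lies in `M`, so the centraliser of `s` has Sylow
`2`-subgroups of order at most `128`.
-/

set_option autoImplicit false
set_option linter.unusedSectionVars false
set_option maxHeartbeats 800000

namespace Cfsg.Agent.Spor.OmegaEightThree.X

open Subgroup (centralizer normalizer)

theorem emb_neg (i : Fin 3) (w : Fin 2 → ZMod 3) : emb i (-w) = -emb i w := by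
  have h := emb_add i w (-w)
  rw [add_neg_cancel, (emb_zero i 0).2 rfl] at h
  exact (neg_eq_of_add_eq_zero_right h.symm).symm

theorem emb_pair : ∀ (i : Fin 3) (j : Fin 4), ∃ w : Fin 2 → ZMod 3, dot (hh j) (emb i w) ≠ 0 := common_fixed

namespace Flat

variable {X : Type*} [Group X] [Finite X] (T : Flat X)

/-- The plane `v i = 0`. -/
noncomputable def P2 (i : Fin 3) : Subgroup X where
  carrier := {g | ∃ w, T.a (emb i w) = g}
  one_mem' := ⟨0, by rw [(emb_zero i 0).2 rfl, T.a_zero]⟩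
  mul_mem' := by
    rintro _ _ ⟨w, rfl⟩ ⟨w', rfl⟩
    exact ⟨w + w', by rw [emb_add, T.a_add]⟩
  inv_mem' := by
    rintro _ ⟨w, rfl⟩
    exact ⟨-w, by rw [emb_neg, T.a_neg]⟩

theorem mem_P2 {i : Fin 3} {g : X} : g ∈ T.P2 i ↔ ∃ w, T.a (emb i w) = g := Iff.rfl

theorem card_P2 (i : Fin 3) : Nat.card (T.P2 i) = 9 := by
  have hbij : Function.Bijective (fun w : Fin 2 → ZMod 3 => (⟨T.a (emb i w), w, rfl⟩ : T.P2 i)) := by
    constructor
    · intro w w' e
      have h := T.a_inj (congrArg Subtype.val e :)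
      have h2 : emb i (w + -w') = 0 := by rw [emb_add, emb_neg, h, add_neg_cancel]
      exact eq_of_sub_eq_zero (by rw [sub_eq_add_neg]; exact (emb_zero i _).1 h2)
    · rintro ⟨g, w, rfl⟩
      exact ⟨w, rfl⟩
  rw [← Nat.card_congr (Equiv.ofBijective _ hbij), Nat.card_fun, Nat.card_fin, Nat.card_zmod]
  rfl

theorem P2_three (i : Fin 3) : IsPGroup 3 (T.P2 i) := by
  rintro ⟨g, w, rfl⟩
  exact ⟨1, Subtype.ext (by rw [pow_one]; exact T.a_cube _)⟩

/-- `P2` is a Sylow `3`-subgroup of `C(s)`. -/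
theorem P2_max {i : Fin 3} {S : Subgroup X} (hS : IsPGroup 3 S) (hP : T.P2 i ≤ S) (hSC : S ≤ T.Cs i) :
    S ≤ T.P2 i := by
  obtain ⟨w₀, hw₀⟩ := emb_wt i
  have hw0 : emb i w₀ ≠ 0 := by
    intro e
    rw [e] at hw₀
    revert hw₀
    decide
  obtain ⟨h, hh, hA⟩ := T.three_conj hS hw0 (hP ⟨w₀, rfl⟩)
  have hab : ∀ x ∈ S, ∀ y ∈ S, x * y = y * x := by
    intro x hx y hy
    obtain ⟨u, hu⟩ := T.mem_A.1 (hA x hx)
    obtain ⟨v, hv⟩ := T.mem_A.1 (hA y hy)
    have e := T.a_comm u v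
    rw [hu, hv] at e
    calc x * y = h⁻¹ * (h * x * h⁻¹ * (h * y * h⁻¹)) * h := by group
      _ = y * x := by rw [e]; group
  intro g hg
  have hcw : ∀ w, g * T.a (emb i w) = T.a (emb i w) * g := fun w => hab g hg _ (hP ⟨w, rfl⟩)
  obtain ⟨y, hy, k, hk, he, hy0, -, -, -⟩ := T.cent_two hw₀ (hcw w₀) (hcw w₀)
  have hy1 : y = 1 := by
    obtain ⟨f, rfl⟩ := T.mem_V.1 hy
    have : f = 1 := by
      funext j
      obtain ⟨w, hw⟩ := emb_pair i j
      obtain ⟨y', hy', k', hk', he', -, hyu, -, -⟩ := T.cent_two hw₀ (hcw w₀) (hcw w)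
      have hyy := (T.dec_unique (T.pr_mem f) hy' hk hk' (he ▸ he')).1
      exact (T.fix_iff _ f).1 (by rw [hyy]; exact hyu.symm) j hw
    rw [this, map_one]
  rw [hy1, one_mul] at he
  obtain ⟨m, hm⟩ := hS ⟨g, hg⟩
  obtain ⟨n, hn⟩ : Odd (3 ^ m) := Odd.pow (by decide)
  have h1 : g ^ (2 * n + 1) = 1 := by rw [← hn]; exact congrArg Subtype.val hm
  rw [pow_succ, pow_mul, pow_two] at h1
  have hgA : g ∈ T.A := by
    rw [eq_inv_of_mul_eq_one_right h1]
    exact inv_mem (pow_mem (he.symm ▸ T.N_sq hk) n)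
  obtain ⟨v, rfl⟩ := T.mem_A.1 hgA
  have hs := T.mem_Cs.1 (hSC hg)
  have e : T.a (mono 1 (flipSgn i) v) = T.a v := by
    rw [← T.sg_conj, ← hs, mul_inv_cancel_right]
  obtain ⟨w, rfl⟩ := flip_fix i v (T.a_inj e)
  exact ⟨w, rfl⟩

/-- `C(A5) ∩ M = A5`. -/
theorem C5_M {i : Fin 3} {g : X} (hg : g ∈ T.M) (hc : g ∈ centralizer ((T.A5 i : Subgroup X) : Set X)) :
    g ∈ T.A5 i := by
  set s := flipSgn i with hs
  have hsA : T.sg s ∈ T.A5 i := Or.inr (by rw [T.sg_sq]; exact one_mem _)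
  obtain ⟨y, hy, w, ε, rfl⟩ := T.Cs_M (T.mem_Cs.2 ((Subgroup.mem_centralizer_iff.1 hc) _ hsA).symm) hg
  set K := centralizer ((T.CV s : Subgroup X) : Set X) with hK
  have hk : T.a (emb i w) * T.sg ε ∈ K := by
    refine Subgroup.mem_centralizer_iff.2 fun d hd => ?_
    have h1 : Commute (y * (T.a (emb i w) * T.sg ε)) d :=
      ((Subgroup.mem_centralizer_iff.1 hc) d (Or.inl hd)).symm
    have h2 : Commute y d := T.V_comm hy.1 hd.1
    have := h2.inv_left.mul_left h1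
    rw [inv_mul_cancel_left] at this
    exact this.symm.eq
  have hKA : ∀ u, T.a (emb i u) ∈ K → u = 0 := fun u hu =>
    T.CV_faith fun d hd => ((Subgroup.mem_centralizer_iff.1 hu) d hd).symm
  obtain ⟨w', hw'⟩ := emb_mono i w ε
  have hsq : T.a (emb i w) * T.sg ε * (T.a (emb i w) * T.sg ε) = T.a (emb i (w + w')) := by
    rw [emb_add, T.a_add, ← hw', ← T.sg_conj ε, T.sg_inv]
    group
  have hw0 := hKA _ (hsq ▸ mul_mem hk hk)
  have hww : w' = -w := (neg_eq_of_add_eq_zero_right hw0).symm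
  have hεw : mono 1 ε (emb i w) = -emb i w := by rw [hw', hww, emb_neg]
  have hsg : T.a (emb i w) * T.sg ε = T.a (-emb i w) * T.sg ε * (T.a (-emb i w))⁻¹ := by
    have e1 : T.sg ε * (T.a (-emb i w))⁻¹ = T.a (-emb i w) * T.sg ε := by
      rw [T.a_neg, inv_inv, ← T.a_neg, ← hεw, ← T.sg_conj, inv_mul_cancel_right]
    rw [mul_assoc, e1, ← mul_assoc, ← T.a_add]
    congr 2
    have : ∀ v : Vec, v = -v + -v := by decide +kernel
    exact this _
  have hεK : T.sg ε ∈ K := by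
    refine Subgroup.mem_centralizer_iff.2 fun d hd => ?_
    set b := T.a (-emb i w) with hb
    have hbm : b * d * b⁻¹ ∈ T.CV s := by
      have hbC : b ∈ T.Cs i := by rw [hb, ← emb_neg]; exact T.emb_Cs i _
      exact ⟨T.V_conj_mem (T.A_le_M (T.a_mem _)) hd.1,
        (T.Cs i).mul_mem ((T.Cs i).mul_mem hbC (T.CV_Cs hd)) ((T.Cs i).inv_mem hbC)⟩
    have h := Subgroup.mem_centralizer_iff.1 hk _ hbm
    rw [hsg] at h
    calc d * T.sg ε = b⁻¹ * (b * d * b⁻¹ * (b * T.sg ε * b⁻¹)) * b := by group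
      _ = T.sg ε * d := by rw [h]; group
  have hcases : ε = 1 ∨ ε = s := by
    by_contra hne
    push Not at hne
    have := T.card_CV_two hne.1 hne.2 (T.CV s) (le_inf le_rfl fun d hd =>
      T.mem_CV.2 ⟨hd.1, (Subgroup.mem_centralizer_iff.1 hεK) d hd⟩)
    rw [(T.CV_eq (flip_ne i).1).1] at this
    omega
  have hfix : mono 1 ε (emb i w) = emb i w := by
    rcases hcases with rfl | rfl
    · exact mono_one _
    · exact flip_emb i w
  rw [hfix] at hεw
  have hz : emb i w = 0 := double_eq _ (add_eq_zero_iff_eq_neg.2 hεw)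
  rw [hz, T.a_zero, one_mul]
  exact T.A5_mem hy hcases

/-- The normaliser of `A5` in `C(s)`. -/
noncomputable def N5 (i : Fin 3) : Subgroup X := normalizer ((T.A5 i : Subgroup X) : Set X) ⊓ T.Cs i

theorem emb_N5 (i : Fin 3) (w : Fin 2 → ZMod 3) : T.a (emb i w) ∈ T.N5 i :=
  Subgroup.mem_inf.2 ⟨T.emb_norm_A5 w, T.emb_Cs i w⟩

theorem C5_eq (i : Fin 3) : centralizer ((T.A5 i : Subgroup X) : Set X) ≤ T.A5 i := by
  haveI : Fact (Nat.Prime 3) := ⟨Nat.prime_three⟩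
  set C := centralizer ((T.A5 i : Subgroup X) : Set X) with hC
  have hsA : T.sg (flipSgn i) ∈ T.A5 i := Or.inr (by rw [T.sg_sq]; exact one_mem _)
  have hconj : ∀ n ∈ normalizer ((T.A5 i : Subgroup X) : Set X), ∀ z ∈ C, n * z * n⁻¹ ∈ C := by
    intro n hn z hz
    refine Subgroup.mem_centralizer_iff.2 fun a ha => ?_
    have := (Subgroup.mem_centralizer_iff.1 hz) (n⁻¹ * a * n) (by
      have := (Subgroup.mem_normalizer_iff.1 (inv_mem hn) a).1 ha
      rwa [inv_inv] at this)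
    calc a * (n * z * n⁻¹) = n * (n⁻¹ * a * n * z) * n⁻¹ := by group
      _ = n * z * n⁻¹ * a := by rw [this]; group
  have hPC : T.P2 i ≤ normalizer (C : Set X) := by
    rintro _ ⟨w, rfl⟩
    rw [Subgroup.mem_normalizer_iff]
    refine fun z => ⟨hconj _ (T.emb_norm_A5 w) z, fun h => ?_⟩
    have := hconj _ (inv_mem (T.emb_norm_A5 w)) _ h
    rwa [inv_inv, show (T.a (emb i w))⁻¹ * (T.a (emb i w) * z * (T.a (emb i w))⁻¹) * T.a (emb i w) = z by group]
      at this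
  have h3 : ¬ 3 ∣ Nat.card C := by
    intro hd
    obtain ⟨z, hz⟩ := exists_prime_orderOf_dvd_card' (G := C) 3 hd
    have hzN : (z : X) ∈ T.N5 i :=
      Subgroup.mem_inf.2 ⟨Subgroup.centralizer_le_normalizer _ z.2,
        T.mem_Cs.2 ((Subgroup.mem_centralizer_iff.1 z.2) _ hsA).symm⟩
    have hP : T.P2 i ≤ T.N5 i := by rintro _ ⟨w, rfl⟩; exact T.emb_N5 i w
    obtain ⟨P, hPle⟩ := ((T.P2_three i).comap_of_injective (T.N5 i).subtype
      (T.N5 i).subtype_injective).exists_le_sylow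
    have hPmap : (P : Subgroup (T.N5 i)).map (T.N5 i).subtype ≤ T.P2 i := by
      refine T.P2_max (P.2.map _) (fun g hg => ⟨⟨g, hP hg⟩, hPle hg, rfl⟩) ?_
      rintro _ ⟨g, -, rfl⟩
      exact g.2.2
    have hS : IsPGroup 3 (Subgroup.zpowers (⟨z, hzN⟩ : T.N5 i)) :=
      IsPGroup.of_card (n := 1) (by
        rw [Nat.card_zpowers, ← Subgroup.orderOf_coe, pow_one]
        exact (Subgroup.orderOf_coe z).trans hz)
    obtain ⟨Q, hQ⟩ := hS.exists_le_sylow
    obtain ⟨h, hh⟩ := MulAction.exists_smul_eq (T.N5 i) Q P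
    have hm : h * ⟨z, hzN⟩ * h⁻¹ ∈ (P : Subgroup (T.N5 i)) := by
      rw [← hh, Sylow.smul_def, Sylow.pointwise_smul_def]
      exact ⟨_, hQ (Subgroup.mem_zpowers _), rfl⟩
    obtain ⟨u, hu⟩ := hPmap ⟨_, hm, rfl⟩
    have hu' : T.a (emb i u) = (h : X) * z * (h : X)⁻¹ := hu
    have hCu : T.a (emb i u) ∈ C := hu' ▸ hconj _ h.2.1 _ z.2
    have h1 := two_three (T.A5_two i) (T.C5_M (T.A_le_M (T.a_mem _)) hCu) (T.a_cube _)
    rw [hu', mul_inv_eq_one] at h1
    have z1 : z = 1 := Subtype.ext (mul_eq_left.1 h1)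
    rw [z1, orderOf_one] at hz
    norm_num at hz
  have hCM : C ≤ T.M := le_of_fixed Nat.prime_three (T.P2 i) C T.M
    (fun x hx y hy => by
      obtain ⟨v, rfl⟩ := hx
      obtain ⟨w, rfl⟩ := hy
      exact T.a_comm _ _)
    (fun x hx => by obtain ⟨v, rfl⟩ := hx; exact T.a_cube _)
    (by rw [T.card_P2]; norm_num) hPC
    (by
      rw [T.card_P2, show (9 : ℕ) = 3 ^ 2 by norm_num]
      exact Nat.Coprime.pow_left _ (Nat.prime_three.coprime_iff_not_dvd.2 h3))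
    (fun b hb hb1 => by
      obtain ⟨v, rfl⟩ := hb
      exact inf_le_right.trans (T.cent_le_M fun e => hb1 (by rw [e, T.a_zero])))
  exact fun g hg => T.C5_M (hCM hg) hg

/-- `N5 ≤ M`. -/
theorem N5_le_M (i : Fin 3) : T.N5 i ≤ T.M := by
  classical
  let W : Subgroup (T.N5 i) := (T.A5 i).subgroupOf (T.N5 i)
  haveI : W.Normal := ⟨fun w hw c => by
    rw [Subgroup.mem_subgroupOf] at hw ⊢
    exact (Subgroup.mem_normalizer_iff.1 c.2.1 _).1 hw⟩
  let q := QuotientGroup.mk' W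
  let f : Multiplicative (Fin 2 → ZMod 3) →* T.N5 i ⧸ W :=
    MonoidHom.mk' (fun w => q ⟨T.a (emb i w.toAdd), T.emb_N5 i _⟩) fun w w' => by
      rw [← map_mul]
      exact congrArg q (Subtype.ext (by
        show T.a (emb i (w * w').toAdd) = T.a (emb i w.toAdd) * T.a (emb i w'.toAdd)
        rw [toAdd_mul, emb_add, T.a_add]))
  have hf : Function.Injective f := by
    rw [injective_iff_map_eq_one]
    intro w hw
    have hA : T.a (emb i w.toAdd) ∈ T.A5 i := Subgroup.mem_subgroupOf.1 ((QuotientGroup.eq_one_iff _).1 hw)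
    exact Multiplicative.toAdd.injective ((emb_zero i _).1 (T.a_eq_one (two_three (T.A5_two i) hA (T.a_cube _))))
  set E := f.range with hE
  have hcard : Nat.card E = 9 := by
    rw [hE, ← Nat.card_congr (MonoidHom.ofInjective hf).toEquiv, Nat.card_congr Multiplicative.toAdd,
      Nat.card_fun, Nat.card_fin, Nat.card_zmod]
    rfl
  have hM_of : ∀ c : T.N5 i, ∀ w w', w ≠ 1 → q c * f w * (q c)⁻¹ = f w' →
      (c : X) ∈ T.M ∧ (c : X) * T.a (emb i w.toAdd) * (c : X)⁻¹ * (T.a (emb i w'.toAdd))⁻¹ ∈ T.A5 i := by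
    intro c w w' hw hcw
    have h1 : q (c * ⟨T.a (emb i w.toAdd), T.emb_N5 i _⟩ * c⁻¹ * ⟨T.a (emb i w'.toAdd), T.emb_N5 i _⟩⁻¹) = 1 := by
      simp only [map_mul, map_inv]
      show q c * f w * (q c)⁻¹ * (f w')⁻¹ = 1
      rw [hcw, mul_inv_cancel]
    have hV : (c : X) * T.a (emb i w.toAdd) * (c : X)⁻¹ * (T.a (emb i w'.toAdd))⁻¹ ∈ T.A5 i :=
      Subgroup.mem_subgroupOf.1 ((QuotientGroup.eq_one_iff _).1 h1)
    refine ⟨T.strong (v := emb i w.toAdd) (fun e => hw (Multiplicative.toAdd.injective ((emb_zero i _).1 e))) ?_, hV⟩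
    have := mul_mem (T.A5_le_M i hV) (T.A_le_M (T.a_mem (emb i w'.toAdd)))
    rwa [inv_mul_cancel_right] at this
  -- images of the shape
  have himg : ∀ c : T.N5 i, ∀ y ∈ T.CV (flipSgn i), ∀ u ε, (c : X) = y * (T.a (emb i u) * T.sg ε) →
      ∀ w : Multiplicative (Fin 2 → ZMod 3), ∀ u', mono 1 ε (emb i w.toAdd) = emb i u' →
        q c * f w * (q c)⁻¹ = f (Multiplicative.ofAdd u') := by
    intro c y hy u ε he w u' hu'
    have hyN : y ∈ T.N5 i := Subgroup.mem_inf.2 ⟨Subgroup.le_normalizer (Or.inl hy), T.CV_Cs hy⟩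
    have hqy : q ⟨y, hyN⟩ = 1 := (QuotientGroup.eq_one_iff _).2 (Subgroup.mem_subgroupOf.2 (Or.inl hy))
    show q c * q ⟨T.a (emb i w.toAdd), T.emb_N5 i _⟩ * (q c)⁻¹ = q ⟨T.a (emb i u'), T.emb_N5 i _⟩
    rw [← map_mul, ← map_inv, ← map_mul, show c * ⟨T.a (emb i w.toAdd), T.emb_N5 i _⟩ * c⁻¹ =
      ⟨y, hyN⟩ * ⟨T.a (emb i u'), T.emb_N5 i _⟩ * ⟨y, hyN⟩⁻¹ from Subtype.ext (by
        show (c : X) * T.a (emb i w.toAdd) * (c : X)⁻¹ = y * T.a (emb i u') * y⁻¹
        rw [he, ← hu', ← T.a_sg_conj (emb i u) (emb i w.toAdd) ε]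
        group), map_mul, map_mul, map_inv, hqy, one_mul, inv_one, mul_one]
  have hEnorm : ∀ c : T.N5 i, (c : X) ∈ T.M → q c ∈ normalizer (E : Set (T.N5 i ⧸ W)) := by
    have key : ∀ c : T.N5 i, (c : X) ∈ T.M → ∀ e ∈ E, q c * e * (q c)⁻¹ ∈ E := by
      rintro c hc e ⟨w, rfl⟩
      obtain ⟨y, hy, u, ε, he⟩ := T.Cs_M c.2.2 hc
      obtain ⟨u', hu'⟩ := emb_mono i w.toAdd ε
      exact ⟨_, (himg c y hy u ε he w u' hu').symm⟩
    intro c hc
    rw [Subgroup.mem_normalizer_iff]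
    refine fun e => ⟨key c hc e, fun h => ?_⟩
    have := key c⁻¹ (inv_mem hc) _ h
    rwa [map_inv, inv_inv, show (q c)⁻¹ * (q c * e * (q c)⁻¹) * q c = e by group] at this
  have hqE : ∀ c : T.N5 i, ∀ y ∈ T.CV (flipSgn i), ∀ u δ, (δ = 1 ∨ δ = flipSgn i) →
      (c : X) = y * (T.a (emb i u) * T.sg δ) → q c ∈ E := by
    intro c y hy u δ hδ he
    refine ⟨Multiplicative.ofAdd u, (QuotientGroup.eq).2 (Subgroup.mem_subgroupOf.2 ?_)⟩
    show (T.a (emb i u))⁻¹ * (c : X) ∈ T.A5 i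
    rw [he, show (T.a (emb i u))⁻¹ * (y * (T.a (emb i u) * T.sg δ)) =
      (T.a (emb i u))⁻¹ * y * T.a (emb i u) * T.sg δ by group]
    have h1 : T.a (-emb i u) * y * (T.a (-emb i u))⁻¹ ∈ T.CV (flipSgn i) := by
      have hbC : T.a (-emb i u) ∈ T.Cs i := by rw [← emb_neg]; exact T.emb_Cs i _
      exact ⟨T.V_conj_mem (T.A_le_M (T.a_mem _)) hy.1,
        (T.Cs i).mul_mem ((T.Cs i).mul_mem hbC (T.CV_Cs hy)) ((T.Cs i).inv_mem hbC)⟩
    rw [T.a_neg, inv_inv] at h1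
    exact T.A5_mem h1 hδ
  obtain ⟨w₀, hw₀⟩ := exists_ne (1 : Multiplicative (Fin 2 → ZMod 3))
  have hEcomm : IsMulCommutative E := ⟨⟨fun a b => Subtype.ext (by
    obtain ⟨x, hx⟩ := a.2
    obtain ⟨y, hy⟩ := b.2
    show (a : T.N5 i ⧸ W) * b = b * a
    rw [← hx, ← hy, ← map_mul, ← map_mul, mul_comm])⟩⟩
  have hcentE : centralizer (E : Set (T.N5 i ⧸ W)) = E := by
    refine le_antisymm (fun g hg => ?_) (Subgroup.le_centralizer E)
    obtain ⟨c, rfl⟩ := QuotientGroup.mk'_surjective W g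
    have hc : ∀ w, q c * f w = f w * q c := fun w => ((Subgroup.mem_centralizer_iff.1 hg) _ ⟨w, rfl⟩).symm
    have hcM := (hM_of c w₀ w₀ hw₀ (by rw [hc, mul_inv_cancel_right])).1
    obtain ⟨y, hy, u, ε, he⟩ := T.Cs_M c.2.2 hcM
    refine hqE c y hy u ε (emb_stab i ε fun w => ?_) he
    obtain ⟨u', hu'⟩ := emb_mono i w ε
    have h := himg c y hy u ε he (Multiplicative.ofAdd w) u' hu'
    rw [hc, mul_inv_cancel_right] at h
    have e : u' = w := (congrArg Multiplicative.toAdd (hf h)).symm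
    rw [hu', e]
  have htop := SymNine.plane_normal E hcard hEcomm
    (by
      rintro e ⟨w, rfl⟩
      rw [← map_pow, show w ^ 3 = 1 from Multiplicative.toAdd.injective (by
        rw [toAdd_pow, toAdd_one]
        funext j
        have : ∀ x : ZMod 3, 3 • x = 0 := by decide
        exact this _), map_one])
    hcentE
    (by
      rintro e ⟨w, rfl⟩ he g hg
      obtain ⟨c, rfl⟩ := QuotientGroup.mk'_surjective W g
      exact hEnorm c (hM_of c w w (fun e => he (by rw [e, map_one]))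
        (by rw [Subgroup.mem_centralizer_singleton_iff.1 hg, mul_inv_cancel_right])).1)
    (by
      intro g hg
      obtain ⟨c, rfl⟩ := QuotientGroup.mk'_surjective W g
      obtain ⟨w', hw'⟩ := (Subgroup.mem_normalizer_iff.1 hg (f w₀)).1
        (show f w₀ ∈ E from MonoidHom.mem_range.2 ⟨w₀, rfl⟩)
      obtain ⟨hcM, -⟩ := hM_of c w₀ w' hw₀ hw'.symm
      obtain ⟨y, hy, u, ε, he⟩ := T.Cs_M c.2.2 hcM
      obtain ⟨u', hu'⟩ := emb_mono i u ε
      rw [← map_mul]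
      refine hqE (c * c) (y * (T.a (emb i u) * T.sg ε * y * (T.a (emb i u) * T.sg ε)⁻¹)) (mul_mem hy ?_) (u + u') 1
        (Or.inl rfl) ?_
      · have hbC : T.a (emb i u) * T.sg ε ∈ T.Cs i := mul_mem (T.emb_Cs i u) (T.sg_Cs i ε)
        exact ⟨T.V_conj_mem (T.N_le_M (T.a_sg_mem _ _)) hy.1,
          (T.Cs i).mul_mem ((T.Cs i).mul_mem hbC (T.CV_Cs hy)) ((T.Cs i).inv_mem hbC)⟩
      · rw [map_one, mul_one, emb_add, T.a_add, ← hu', ← T.sg_conj ε]
        show (c : X) * c = _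
        rw [he]
        have hss := T.sg_inv ε
        rw [hss]
        calc y * (T.a (emb i u) * T.sg ε) * (y * (T.a (emb i u) * T.sg ε))
            = y * (T.a (emb i u) * T.sg ε * y * (T.a (emb i u) * T.sg ε)⁻¹) *
                (T.a (emb i u) * T.sg ε * (T.a (emb i u) * T.sg ε)) := by group
          _ = _ := by group)
  intro g hg
  obtain ⟨w', hw'⟩ := (Subgroup.mem_normalizer_iff.1
    (show q ⟨g, hg⟩ ∈ normalizer (E : Set (T.N5 i ⧸ W)) by rw [htop]; exact Subgroup.mem_top _) (f w₀)).1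
    (show f w₀ ∈ E from MonoidHom.mem_range.2 ⟨w₀, rfl⟩)
  exact (hM_of ⟨g, hg⟩ w₀ w' hw₀ hw'.symm).1

end Flat

end Cfsg.Agent.Spor.OmegaEightThree.X
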