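import Cfsg.Agent.Lib.Spor.OmegaEightThree.X.Normal

/-!
The results for the centraliser of the involution, from its image modulo the involution.
-/

set_option autoImplicit false
set_option linter.unusedSectionVars false

namespace Cfsg.Agent.Spor.OmegaEightThree.X

open Subgroup (centralizer normalizer)

theorem hh_apart : ∀ i j : Fin 4, i ≠ j → hh i ≠ hh j ∧ hh i ≠ -hh j := by decide +kernel

theorem mono_wt : ∀ (ε : Sgn) (i : Fin 4), wt (mono 1 ε (hh i)) = 3 := by decide +kernel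

namespace Conf

variable {X : Type*} [Group X] [Finite X] (T : Conf X)

/-- `⟨t⟩`. -/
def Z : Subgroup X := Subgroup.zpowers T.t

theorem mem_Z {g : X} : g ∈ T.Z ↔ g = 1 ∨ g = T.t := by
  rw [Z, Subgroup.mem_zpowers_iff]
  constructor
  · rintro ⟨n, rfl⟩
    rcases Int.even_or_odd n with ⟨k, rfl⟩ | ⟨k, rfl⟩
    · refine Or.inl ?_
      rw [← two_mul, zpow_mul, zpow_two, T.t_sq, one_zpow]
    · refine Or.inr ?_
      rw [zpow_add, zpow_mul, zpow_two, T.t_sq, one_zpow, one_mul, zpow_one]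
  · rintro (rfl | rfl)
    · exact ⟨0, zpow_zero _⟩
    · exact ⟨1, zpow_one _⟩

theorem Z_central {z : X} (hz : z ∈ T.Z) (g : X) : g * z = z * g := by
  rcases T.mem_Z.1 hz with rfl | rfl
  · rw [mul_one, one_mul]
  · exact T.t_central g

instance Z_normal : T.Z.Normal :=
  ⟨fun z hz g => by rw [T.Z_central hz g, mul_inv_cancel_right]; exact hz⟩

theorem card_Z : Nat.card T.Z = 2 := by
  rw [Z, Nat.card_zpowers]
  exact orderOf_eq_prime (by rw [pow_two, T.t_sq]) T.t_ne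

/-- The image modulo `t`. -/
def q : X →* X ⧸ T.Z := QuotientGroup.mk' T.Z

theorem q_eq {g g' : X} : T.q g = T.q g' ↔ g⁻¹ * g' ∈ T.Z := QuotientGroup.eq

theorem q_one {g : X} : T.q g = 1 ↔ g ∈ T.Z := QuotientGroup.eq_one_iff _

/-- The element with coordinates `v`. -/
def a (v : Vec) : X := T.e (Multiplicative.ofAdd v)

theorem a_cube (v : Vec) : T.a v ^ 3 = 1 := by
  rw [a, ← map_pow, show (Multiplicative.ofAdd v) ^ 3 = 1 from Multiplicative.toAdd.injective (by
    rw [toAdd_pow, toAdd_one, toAdd_ofAdd]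
    funext i
    have : ∀ x : ZMod 3, 3 • x = 0 := by decide
    exact this _), map_one]

/-- Two `3`-elements congruent modulo `t` and commuting are equal. -/
theorem lift_eq {x y : X} (hx : x ^ 3 = 1) (hy : y ^ 3 = 1) (h : x⁻¹ * y ∈ T.Z) : x = y := by
  obtain ⟨z, hz, e⟩ : ∃ z ∈ T.Z, y = x * z := ⟨_, h, by group⟩
  have hc : Commute x z := T.Z_central hz x
  have h3 : z ^ 3 = 1 := by rw [e, hc.mul_pow, hx, one_mul] at hy; exact hy
  rcases T.mem_Z.1 hz with rfl | rfl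
  · rw [e, mul_one]
  · exfalso
    rw [pow_succ, pow_two, T.t_sq, one_mul] at h3
    exact T.t_ne h3

theorem conj_lift {g : X} {v w : Vec} (h : T.q g * T.q (T.a v) * (T.q g)⁻¹ = T.q (T.a w)) :
    g * T.a v * g⁻¹ = T.a w := by
  rw [← map_inv, ← map_mul, ← map_mul, T.q_eq] at h
  exact T.lift_eq (by rw [conj_pow, T.a_cube, mul_one, mul_inv_cancel]) (T.a_cube w) h

theorem comm_lift {g : X} {v : Vec} (h : T.q g * T.q (T.a v) = T.q (T.a v) * T.q g) :
    g * T.a v = T.a v * g :=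
  mul_inv_eq_iff_eq_mul.1 (T.conj_lift (by rw [h, mul_inv_cancel_right]))

theorem R_sq_Z {h : Vec} (hh3 : wt h = 3) {x : X} (hx : x ∈ T.R h) : x * x ∈ T.Z := by
  by_cases h1 : x = 1
  · rw [h1, one_mul]; exact one_mem _
  by_cases ht : x = T.t
  · rw [ht, T.t_sq]; exact one_mem _
  · exact T.mem_Z.2 (Or.inr (T.R_sq h hh3 x hx h1 ht))

/-- An element of a quaternion group central in it. -/
theorem R_centre {h : Vec} (hh3 : wt h = 3) {x : X} (hx : x ∈ T.R h) (hc : ∀ y ∈ T.R h, x * y = y * x) :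
    x ∈ T.Z := by
  classical
  by_contra hxZ
  rw [T.mem_Z, not_or] at hxZ
  have key : ∀ y : T.R h, (y : X) ∈ ({1, T.t, x⁻¹, x⁻¹ * T.t} : Finset X) := by
    rintro ⟨y, hy⟩
    simp only [Finset.mem_insert, Finset.mem_singleton]
    by_cases hy1 : y = 1
    · exact Or.inl hy1
    by_cases hyt : y = T.t
    · exact Or.inr (Or.inl hyt)
    have e : x * y * (x * y) = 1 := by
      calc x * y * (x * y) = x * (y * x) * y := by group
        _ = x * x * (y * y) := by rw [← hc y hy]; group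
        _ = 1 := by rw [T.R_sq h hh3 x hx hxZ.1 hxZ.2, T.R_sq h hh3 y hy hy1 hyt, T.t_sq]
    have hcases : x * y = 1 ∨ x * y = T.t := by
      by_contra! hne
      exact T.t_ne ((T.R_sq h hh3 _ (mul_mem hx hy) hne.1 hne.2).symm.trans e)
    rcases hcases with e1 | e1
    · exact Or.inr (Or.inr (Or.inl (by rw [← mul_one x⁻¹, ← e1, inv_mul_cancel_left])))
    · exact Or.inr (Or.inr (Or.inr (by rw [← e1, inv_mul_cancel_left])))
  have h4 := Nat.card_le_card_of_injective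
    (fun y : T.R h => (⟨y, key y⟩ : ↥({1, T.t, x⁻¹, x⁻¹ * T.t} : Finset X)))
    (fun y y' e => Subtype.ext (congrArg Subtype.val e :))
  rw [T.card_R h hh3, Nat.card_eq_fintype_card, Fintype.card_coe] at h4
  have : ({1, T.t, x⁻¹, x⁻¹ * T.t} : Finset X).card ≤ 4 := Finset.card_le_four
  omega

theorem R_Y (i : Fin 4) : T.R (hh i) ≤ T.Y :=
  le_iSup₂ (f := fun (h : Vec) (_ : wt h = 3) => T.R h) (hh i) (hh_wt i)

theorem Y_eq : T.Y = ⨆ i, T.R (hh i) := by
  refine le_antisymm (iSup₂_le fun h hh3 => ?_) (iSup_le T.R_Y)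
  refine le_trans (le_of_eq ?_) (le_iSup (fun i => T.R (hh i)) (idx h))
  rcases hh_idx h hh3 with e | e
  · rw [e]
  · rw [e, T.R_neg h hh3]

theorem Z_le_R (i : Fin 4) : T.Z ≤ T.R (hh i) := Subgroup.zpowers_le.2 (T.t_mem _ (hh_wt i))

theorem Z_le_Y : T.Z ≤ T.Y := (T.Z_le_R 0).trans (T.R_Y 0)

theorem card_image {K : Subgroup X} (hK : T.Z ≤ K) : Nat.card (K.map T.q) * 2 = Nat.card K := by
  have hker : (T.q.comp K.subtype).ker = T.Z.subgroupOf K := by
    ext x
    rw [MonoidHom.mem_ker, Subgroup.mem_subgroupOf]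
    exact T.q_one
  have hrange : (T.q.comp K.subtype).range = K.map T.q := by
    rw [MonoidHom.range_comp, Subgroup.range_subtype]
  rw [Subgroup.card_eq_card_quotient_mul_card_subgroup (T.q.comp K.subtype).ker,
    Nat.card_congr (QuotientGroup.quotientKerEquivRange (T.q.comp K.subtype)).toEquiv, hrange, hker,
    Nat.card_congr (Subgroup.subgroupOfEquivOfLe hK).toEquiv, T.card_Z]

theorem R_commutes {i j : Fin 4} (hij : i ≠ j) {x y : X} (hx : x ∈ T.R (hh i)) (hy : y ∈ T.R (hh j)) :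
    x * y = y * x :=
  T.R_comm _ _ (hh_wt i) (hh_wt j) (hh_apart i j hij).1 (hh_apart i j hij).2 x hx y hy

theorem qA_conj {k : X} (hk : T.q k ∈ normalizer ((T.q.comp T.e).range : Set (X ⧸ T.Z))) :
    k ∈ normalizer (T.e.range : Set X) := by
  have key : ∀ k : X, T.q k ∈ normalizer ((T.q.comp T.e).range : Set (X ⧸ T.Z)) → ∀ x ∈ T.e.range,
      k * x * k⁻¹ ∈ T.e.range := by
    rintro k hk x ⟨v, rfl⟩
    obtain ⟨w, hw⟩ := MonoidHom.mem_range.1
      ((Subgroup.mem_normalizer_iff.1 hk (T.q (T.e v))).1 (MonoidHom.mem_range.2 ⟨v, rfl⟩))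
    exact ⟨w, (T.conj_lift (v := v.toAdd) (w := w.toAdd) hw.symm).symm⟩
  rw [Subgroup.mem_normalizer_iff]
  refine fun x => ⟨key k hk x, fun h => ?_⟩
  have := key k⁻¹ (by rw [map_inv]; exact inv_mem hk) _ h
  rwa [inv_inv, show k⁻¹ * (k * x * k⁻¹) * k = x by group] at this

theorem qA_mem {k : X} (hk : k ∈ normalizer (T.e.range : Set X)) :
    T.q k ∈ normalizer ((T.q.comp T.e).range : Set (X ⧸ T.Z)) := by
  have key : ∀ k ∈ normalizer (T.e.range : Set X), ∀ x ∈ (T.q.comp T.e).range,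
      T.q k * x * (T.q k)⁻¹ ∈ (T.q.comp T.e).range := by
    rintro k hk x ⟨v, rfl⟩
    obtain ⟨w, hw⟩ := MonoidHom.mem_range.1
      ((Subgroup.mem_normalizer_iff.1 hk (T.e v)).1 (MonoidHom.mem_range.2 ⟨v, rfl⟩))
    exact ⟨w, by rw [MonoidHom.comp_apply, MonoidHom.comp_apply, hw, map_mul, map_mul, map_inv]⟩
  rw [Subgroup.mem_normalizer_iff]
  refine fun x => ⟨key k hk x, fun h => ?_⟩
  have := key k⁻¹ (inv_mem hk) _ h
  rwa [map_inv, inv_inv, show (T.q k)⁻¹ * (T.q k * x * (T.q k)⁻¹) * T.q k = x by group] at this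

/-- The configuration modulo `t`. -/
noncomputable def flat : Flat (X ⧸ T.Z) where
  e := T.q.comp T.e
  R i := (T.R (hh i)).map T.q
  e_inj := by
    rw [injective_iff_map_eq_one]
    intro v hv
    have h1 : T.a v.toAdd = 1 := (T.lift_eq (one_pow 3) (T.a_cube v.toAdd)
      (by rw [inv_one, one_mul]; exact T.q_one.1 hv)).symm
    exact T.e_inj (h1.trans (map_one T.e).symm)
  card_R i := by
    have h := T.card_image (T.Z_le_R i)
    rw [T.card_R _ (hh_wt i)] at h
    omega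
  R_sq i := by
    rintro _ ⟨x, hx, rfl⟩
    rw [← map_mul, T.q_one]
    exact T.R_sq_Z (hh_wt i) hx
  R_comm i j := by
    rintro _ ⟨x, hx, rfl⟩ _ ⟨y, hy, rfl⟩
    rcases eq_or_ne i j with rfl | hij
    · rw [← map_mul, ← map_mul, T.q_eq]
      have h1 := T.R_sq_Z (hh_wt i) (mul_mem hy hx)
      have h2 := T.R_sq_Z (hh_wt i) hx
      have h3 := T.R_sq_Z (hh_wt i) hy
      have e : (x * y)⁻¹ * (y * x) = (y * y)⁻¹ * (y * (x * x)⁻¹ * y⁻¹) * (y * x * (y * x)) := by group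
      rw [e, T.Z_central (inv_mem h2) y, mul_inv_cancel_right]
      exact mul_mem (mul_mem (inv_mem h3) (inv_mem h2)) h1
    · rw [← map_mul, ← map_mul, T.R_commutes hij hx hy]
  R_indep := by
    intro i
    rw [disjoint_iff, Subgroup.eq_bot_iff_forall]
    intro g hg
    obtain ⟨x, hx, rfl⟩ := (Subgroup.mem_inf.1 hg).1
    have h2 := (Subgroup.mem_inf.1 hg).2
    simp only [← Subgroup.map_iSup] at h2
    obtain ⟨y, hy, hyx⟩ := h2
    have hcent : (⨆ (j : Fin 4) (_ : j ≠ i), T.R (hh j)) ≤ centralizer (T.R (hh i) : Set X) :=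
      iSup₂_le fun j hj z hz => Subgroup.mem_centralizer_iff.2 fun w hw => T.R_commutes hj.symm hw hz
    obtain ⟨z, hz, rfl⟩ : ∃ z ∈ T.Z, x = y * z := ⟨_, T.q_eq.1 hyx, by group⟩
    refine T.q_one.2 (T.R_centre (hh_wt i) hx fun w hw => ?_)
    have c1 : Commute y w := ((Subgroup.mem_centralizer_iff.1 (hcent hy)) w hw).symm
    have c2 : Commute z w := (T.Z_central hz w).symm
    exact (c1.mul_left c2).eq
  R_norm i v := by
    rintro _ ⟨x, hx, rfl⟩
    exact ⟨_, T.R_norm _ v (hh_wt i) x hx, by simp only [MonoidHom.comp_apply, map_mul, map_inv]⟩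
  R_fix i v hd := by
    rintro _ ⟨x, hx, rfl⟩
    simp only [MonoidHom.comp_apply]
    rw [← map_mul, ← map_mul, T.R_fix _ v (hh_wt i) hd x hx]
  R_move i v hd := by
    rintro _ ⟨x, hx, rfl⟩ h
    simp only [MonoidHom.comp_apply] at h
    rcases T.R_move _ v (hh_wt i) hd x hx (T.comm_lift h.symm).symm with rfl | rfl
    · exact map_one _
    · exact T.q_one.2 (T.mem_Z.2 (Or.inr rfl))
  cent v hv := by
    intro g hg
    obtain ⟨g, rfl⟩ := QuotientGroup.mk'_surjective T.Z g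
    obtain ⟨y, k, rfl, hy, hyv, hk⟩ := T.cent v hv g (T.comm_lift hg)
    refine ⟨T.q y, T.q k, map_mul T.q y k, ?_, ?_, T.qA_mem hk⟩
    · rw [← Subgroup.map_iSup]
      refine Subgroup.mem_map_of_mem _ ?_
      rw [← T.Y_eq]
      exact hy
    · simp only [MonoidHom.comp_apply]
      rw [← map_mul, ← map_mul, hyv]
  centA g hg := by
    obtain ⟨g, rfl⟩ := QuotientGroup.mk'_surjective T.Z g
    obtain ⟨v, rfl | rfl⟩ := T.centA g fun v => T.comm_lift (hg v)
    · exact ⟨_, rfl⟩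
    · refine ⟨Multiplicative.ofAdd v, ?_⟩
      show T.q (T.e (Multiplicative.ofAdd v)) = T.q (_ * T.t)
      rw [map_mul, T.q_one.2 (T.mem_Z.2 (Or.inr rfl)), mul_one]
  auto k hk := by
    obtain ⟨k, rfl⟩ := QuotientGroup.mk'_surjective T.Z k
    obtain ⟨ε, hε, hR⟩ := T.auto k (T.qA_conj hk)
    refine ⟨ε, fun v => ?_, fun i => ?_⟩
    · show T.q k * T.q (T.e _) * (T.q k)⁻¹ = T.q (T.e _)
      rw [← map_inv, ← map_mul, ← map_mul, hε]
    · rintro _ ⟨x, hx, rfl⟩
      have hm : k * x * k⁻¹ ∈ T.R (mono 1 ε (hh i)) := by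
        rw [← hR _ (hh_wt i)]
        exact ⟨x, hx, rfl⟩
      refine ⟨k * x * k⁻¹, ?_, by simp only [map_mul, map_inv]; rfl⟩
      show k * x * k⁻¹ ∈ T.R (hh (act ε i))
      rcases hh_idx _ (mono_wt ε i) with e | e <;> rw [act, e]
      · exact hm
      · rwa [T.R_neg _ (mono_wt ε i)]
  sign ε := by
    obtain ⟨k, hk, hv⟩ := T.sign ε
    refine ⟨T.q k, T.qA_mem hk, fun v => ?_⟩
    show T.q k * T.q (T.e _) * (T.q k)⁻¹ = T.q (T.e _)
    rw [← map_inv, ← map_mul, ← map_mul, hv]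

theorem flat_V : T.flat.V = T.Y.map T.q := by
  rw [T.Y_eq, Subgroup.map_iSup]
  rfl

theorem Y_comap : T.Y = T.flat.V.comap T.q := by
  rw [T.flat_V, Subgroup.comap_map_eq_self]
  intro x hx
  exact T.Z_le_Y (T.q_one.1 hx)

theorem card_Y : Nat.card T.Y = 512 := by
  rw [← T.card_image T.Z_le_Y, ← T.flat_V, T.flat.card_V]

theorem com_Y : ∀ a ∈ T.Y, ∀ b ∈ T.Y, a * b * a⁻¹ * b⁻¹ ∈ Subgroup.zpowers T.t := by
  intro a ha b hb
  have ha' : T.q a ∈ T.flat.V := by rw [T.flat_V]; exact Subgroup.mem_map_of_mem _ ha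
  have hb' : T.q b ∈ T.flat.V := by rw [T.flat_V]; exact Subgroup.mem_map_of_mem _ hb
  refine T.q_one.1 ?_
  rw [map_mul, map_mul, map_mul, map_inv, map_inv, T.flat.V_comm ha' hb', mul_inv_cancel_right, mul_inv_cancel]

theorem normal_Y : T.Y.Normal := by
  rw [T.Y_comap]
  exact T.flat.V_normal.comap _

theorem cent_Y : centralizer (T.Y : Set X) = Subgroup.zpowers T.t := by
  classical
  refine le_antisymm (fun g hg => ?_) fun z hz => Subgroup.mem_centralizer_iff.2 fun y _ => T.Z_central hz y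
  have hgV : T.q g ∈ T.flat.V := by
    rw [← T.flat.centV]
    refine Subgroup.mem_centralizer_iff.2 fun w hw => ?_
    rw [T.flat_V] at hw
    obtain ⟨y, hy, rfl⟩ := hw
    rw [← map_mul, ← map_mul, (Subgroup.mem_centralizer_iff.1 hg) y hy]
  obtain ⟨f, hf⟩ := T.flat.mem_V.1 hgV
  have hlift : ∀ i, ∃ x ∈ T.R (hh i), T.q x = f i := fun i => (f i).2
  choose x hx hxf using hlift
  have hfsplit : f = Pi.mulSingle 0 (f 0) * Pi.mulSingle 1 (f 1) * Pi.mulSingle 2 (f 2) * Pi.mulSingle 3 (f 3) := by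
    funext i
    fin_cases i <;> simp
  have hg' : T.q g = T.q (x 0 * x 1 * x 2 * x 3) := by
    rw [← hf, hfsplit]
    simp only [map_mul, T.flat.pr_single, hxf]
  set z := (x 0 * x 1 * x 2 * x 3)⁻¹ * g
  have hz : z ∈ T.Z := T.q_eq.1 hg'.symm
  have ge : g = x 0 * x 1 * x 2 * x 3 * z := by simp only [z]; group
  have hxZ : ∀ i, x i ∈ T.Z := by
    intro i
    refine T.R_centre (hh_wt i) (hx i) fun w hw => ?_
    have cg : Commute g w := ((Subgroup.mem_centralizer_iff.1 hg) w (T.R_Y i hw)).symm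
    have cz : Commute z w := (T.Z_central hz w).symm
    have c : ∀ j, j ≠ i → Commute (x j) w := fun j hj => T.R_commutes hj (hx j) hw
    have e : Commute (x 0 * x 1 * x 2 * x 3) w := by
      have := cg.mul_left cz.inv_left
      rwa [ge, mul_inv_cancel_right] at this
    show Commute (x i) w
    fin_cases i
    · have := e.mul_left (((c 1 (by decide)).mul_left (c 2 (by decide))).mul_left (c 3 (by decide))).inv_left
      rwa [show x 0 * x 1 * x 2 * x 3 * (x 1 * x 2 * x 3)⁻¹ = x 0 by group] at this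
    · have := ((c 0 (by decide)).inv_left.mul_left e).mul_left ((c 2 (by decide)).mul_left (c 3 (by decide))).inv_left
      rwa [show (x 0)⁻¹ * (x 0 * x 1 * x 2 * x 3) * (x 2 * x 3)⁻¹ = x 1 by group] at this
    · have := (((c 0 (by decide)).mul_left (c 1 (by decide))).inv_left.mul_left e).mul_left (c 3 (by decide)).inv_left
      rwa [show (x 0 * x 1)⁻¹ * (x 0 * x 1 * x 2 * x 3) * (x 3)⁻¹ = x 2 by group] at this
    · have := (((c 0 (by decide)).mul_left (c 1 (by decide))).mul_left (c 2 (by decide))).inv_left.mul_left e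
      rwa [show (x 0 * x 1 * x 2)⁻¹ * (x 0 * x 1 * x 2 * x 3) = x 3 by group] at this
  rw [ge]
  exact mul_mem (mul_mem (mul_mem (mul_mem (hxZ 0) (hxZ 1)) (hxZ 2)) (hxZ 3)) hz

theorem top : T.Y ⊔ normalizer (T.A : Set X) = ⊤ := by
  refine eq_top_iff.2 fun g _ => ?_
  have hg : T.q g ∈ T.flat.M := by rw [T.flat.M_top]; exact Subgroup.mem_top _
  obtain ⟨y, hy, k, hk, e⟩ := T.flat.mem_M.1 hg
  obtain ⟨k, rfl⟩ := QuotientGroup.mk'_surjective T.Z k
  rw [T.flat_V] at hy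
  obtain ⟨y, hy', rfl⟩ := hy
  obtain ⟨z, hz, rfl⟩ : ∃ z ∈ T.Z, g = y * k * z :=
    ⟨(y * k)⁻¹ * g, T.q_eq.1 (by rw [map_mul]; exact e.symm), by group⟩
  rw [mul_assoc, T.Z_central hz k, ← mul_assoc]
  exact mul_mem (mul_mem (Subgroup.mem_sup_left hy') (Subgroup.mem_sup_left (T.Z_le_Y hz)))
    (Subgroup.mem_sup_right (T.qA_conj hk))

end Conf

end Cfsg.Agent.Spor.OmegaEightThree.X
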