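import Cfsg.Agent.Lib.Spor.OmegaEightThree.X.Transfer
import Cfsg.Agent.Lib.Spor.OmegaEightThree.X.Compl

/-!
In the kernel `L` of the transfer the centralisers of the nontrivial elements of `V` lie in `M`.
-/

set_option autoImplicit false
set_option linter.unusedSectionVars false
set_option maxHeartbeats 800000

namespace Cfsg.Agent.Spor.OmegaEightThree.X

open Subgroup (centralizer normalizer)

namespace Flat

variable {X : Type*} [Group X] [Finite X] (T : Flat X)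

/-- The kernel of the transfer. -/
noncomputable def L : Subgroup X := T.Phi.ker

theorem mem_L {g : X} : g ∈ T.L ↔ T.Phi g = 1 := Iff.rfl

theorem V_le_L : T.V ≤ T.L := fun _ hy => T.Phi_V hy

theorem a_L (v : Vec) : T.a v ∈ T.L := T.Phi_A v

theorem L_conj (g : X) {x : X} (hx : x ∈ T.L) : g * x * g⁻¹ ∈ T.L :=
  (MonoidHom.normal_ker T.Phi).conj_mem x hx g

theorem L_M {g : X} (hL : g ∈ T.L) (hM : g ∈ T.M) : ∃ y ∈ T.V, ∃ v, g = y * T.a v := by
  obtain ⟨y, hy, v, ε, rfl⟩ := T.dec_M hM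
  rw [T.mem_L, map_mul, map_mul, T.Phi_V hy, T.Phi_A, one_mul, one_mul] at hL
  refine ⟨y, hy, v, ?_⟩
  rw [T.Phi_sg_inj ε hL, map_one, mul_one]

theorem V_two : IsPGroup 2 T.V := fun y =>
  ⟨1, Subtype.ext (by rw [pow_one, pow_two]; exact T.V_sq y.2)⟩

/-- `V` is a Sylow `2`-subgroup of `L`. -/
theorem V_max {S : Subgroup X} (hS : IsPGroup 2 S) (hSL : S ≤ T.L) (hVS : T.V ≤ S) : S = T.V := by
  haveI : Fact (Nat.Prime 2) := ⟨Nat.prime_two⟩
  obtain ⟨P, hP⟩ := T.sylow_T2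
  obtain ⟨Q, hQ⟩ := hS.exists_le_sylow
  obtain ⟨h, hh⟩ := MulAction.exists_smul_eq X Q P
  refine (Subgroup.eq_of_le_of_card_ge hVS ?_).symm
  rw [← Subgroup.card_map_of_injective (K := S) (f := (MulAut.conj h).toMonoidHom) (MulAut.conj h).injective]
  refine Subgroup.card_le_of_le ?_
  rintro _ ⟨x, hx, rfl⟩
  have hT : h * x * h⁻¹ ∈ T.T2 := by
    rw [← hP, ← hh, Sylow.smul_def, Sylow.pointwise_smul_def]
    exact ⟨x, hQ hx, rfl⟩
  obtain ⟨y, hy, ε, he⟩ := T.mem_T2.1 hT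
  have hL := T.L_conj h (hSL hx)
  rw [he, T.mem_L, map_mul, T.Phi_V hy, one_mul] at hL
  show h * x * h⁻¹ ∈ T.V
  rw [he, T.Phi_sg_inj ε hL, map_one, mul_one]
  exact hy

/-- The centraliser in `A` of `u`. -/
noncomputable def B (u : X) : Subgroup X := T.A ⊓ centralizer ({u} : Set X)

/-- The centraliser in `L` of `u`. -/
noncomputable def KL (u : X) : Subgroup X := T.L ⊓ centralizer ({u} : Set X)

theorem B_le_KL (u : X) : T.B u ≤ T.KL u := by
  intro x hx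
  obtain ⟨v, rfl⟩ := T.mem_A.1 hx.1
  exact ⟨T.a_L v, hx.2⟩

theorem KL_shape {u g : X} (hu : u ∈ T.V) (hg : g ∈ T.KL u) (hM : g ∈ T.M) :
    ∃ y ∈ T.V, ∃ v, g = y * T.a v ∧ T.a v ∈ T.B u := by
  obtain ⟨y, hy, v, rfl⟩ := T.L_M hg.1 hM
  refine ⟨y, hy, v, rfl, Subgroup.mem_inf.2 ⟨T.a_mem v, Subgroup.mem_centralizer_singleton_iff.2 ?_⟩⟩
  have h1 : Commute (y * T.a v) u := Subgroup.mem_centralizer_singleton_iff.1 hg.2
  have h2 : Commute y u := T.V_comm hy hu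
  have := h2.inv_left.mul_left h1
  rw [inv_mul_cancel_left] at this
  exact this.eq

theorem B_three (u : X) : IsPGroup 3 (T.B u) := by
  rintro ⟨x, hx⟩
  obtain ⟨v, rfl⟩ := T.mem_A.1 hx.1
  exact ⟨1, Subtype.ext (by rw [pow_one]; exact T.a_cube v)⟩

theorem B_compl {u : X} (hu : u ∈ T.V) (hB : T.B u ≠ ⊥) :
    ∃ D : Subgroup X, D ≤ T.KL u ∧ (∀ g ∈ T.KL u, ∀ d ∈ D, g * d * g⁻¹ ∈ D) ∧ ¬ 3 ∣ Nat.card D ∧
      (∀ g ∈ T.KL u, ∃ d ∈ D, ∃ b ∈ T.B u, g = d * b) ∧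
      (∀ g ∈ T.KL u, ∀ n : ℕ, g ^ n = 1 → n.Coprime 3 → g ∈ D) := by
  haveI : Fact (Nat.Prime 3) := ⟨Nat.prime_three⟩
  obtain ⟨b0, hb0, hb01⟩ : ∃ b ∈ T.B u, b ≠ 1 := by
    by_contra! hall
    exact hB ((Subgroup.eq_bot_iff_forall _).2 hall)
  obtain ⟨v0, rfl⟩ := T.mem_A.1 hb0.1
  have hv0 : v0 ≠ 0 := fun e => hb01 (by rw [e, T.a_zero])
  refine exists_compl (T.KL u) (T.B u) (T.B_le_KL u) (T.B_three u) ?_ ?_
  · intro S hS hBS hSK g hg
    obtain ⟨y, hy, v, rfl, hv⟩ := T.KL_shape hu (hSK hg) (T.three_le_M hS hv0 (hBS hb0) hg)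
    have hyS : y ∈ S := by
      have := mul_mem hg (inv_mem (hBS hv))
      rwa [mul_inv_cancel_right] at this
    obtain ⟨k, hk⟩ := hS ⟨y, hyS⟩
    have hk' : y ^ (3 ^ k) = 1 := congrArg Subtype.val hk
    have hy1 : y = 1 := orderOf_eq_one_iff.1 (Nat.eq_one_of_dvd_coprimes
      (Nat.Coprime.pow_right k (by norm_num : Nat.Coprime 2 3))
      (orderOf_dvd_of_pow_eq_one (by rw [pow_two]; exact T.V_sq hy)) (orderOf_dvd_of_pow_eq_one hk'))
    rw [hy1, one_mul]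
    exact hv
  · intro g hg hn b hb
    have hgM : g ∈ T.M := T.strong hv0 (T.A_le_M (hn _ hb0).1)
    obtain ⟨y, hy, w, rfl, hw⟩ := T.KL_shape hu hg hgM
    obtain ⟨v, rfl⟩ := T.mem_A.1 hb.1
    obtain ⟨v', hv'⟩ := T.mem_A.1 (hn _ hb).1
    have hc : y * T.a v * y⁻¹ = T.a v' := by
      rw [hv', show y * T.a w * T.a v * (y * T.a w)⁻¹ = y * (T.a w * T.a v * (T.a w)⁻¹) * y⁻¹ by group,
        T.a_comm w v, mul_inv_cancel_right]
    have h2 : Commute y (T.a v) := (T.V_conj_A hy hc).2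
    exact (h2.mul_left (T.a_comm w v)).eq

/-- A support-one element. -/
theorem plane_KL {i : Fin 4} {u : X} (hu : u ∈ T.R i) (hu1 : u ≠ 1) : T.KL u ≤ T.M := by
  haveI : Fact (Nat.Prime 3) := ⟨Nat.prime_three⟩
  have huV := T.R_le_V i hu
  have hk : ∀ w, T.a (kemb i w) ∈ T.B u := fun w =>
    Subgroup.mem_inf.2 ⟨T.a_mem _, Subgroup.mem_centralizer_singleton_iff.2 (T.R_fix i _ (kemb_dot i w) u hu)⟩
  have hcard : 9 ≤ Nat.card (T.B u) := by
    have h9 : Nat.card (Fin 2 → ZMod 3) = 9 := by rw [Nat.card_fun, Nat.card_fin, Nat.card_zmod]; rfl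
    rw [← h9]
    refine Nat.card_le_card_of_injective (fun w => (⟨_, hk w⟩ : T.B u)) ?_
    intro w w' e
    have h1 := T.a_inj (congrArg Subtype.val e :)
    have hneg : kemb i (-w') = -kemb i w' := by
      have h := kemb_add i w' (-w')
      rw [add_neg_cancel, (kemb_zero i 0).2 rfl] at h
      exact (neg_eq_of_add_eq_zero_right h.symm).symm
    have h2 : kemb i (w + -w') = 0 := by rw [kemb_add, hneg, h1, add_neg_cancel]
    exact eq_of_sub_eq_zero (by rw [sub_eq_add_neg]; exact (kemb_zero i _).1 h2)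
  obtain ⟨D, hDK, hnorm, hD3, hdec, -⟩ := T.B_compl huV (fun e => by
    rw [e, Subgroup.card_bot] at hcard; omega)
  have hDM : D ≤ T.M := le_of_fixed Nat.prime_three (T.B u) D T.M
    (fun x hx y hy => by
      obtain ⟨v, rfl⟩ := T.mem_A.1 hx.1
      obtain ⟨w, rfl⟩ := T.mem_A.1 hy.1
      exact T.a_comm v w)
    (fun x hx => by obtain ⟨v, rfl⟩ := T.mem_A.1 hx.1; exact T.a_cube v)
    (by omega)
    (fun x hx => by
      rw [Subgroup.mem_normalizer_iff]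
      refine fun d => ⟨hnorm x (T.B_le_KL u hx) d, fun h => ?_⟩
      have := hnorm _ (inv_mem (T.B_le_KL u hx)) _ h
      rwa [inv_inv, show x⁻¹ * (x * d * x⁻¹) * x = d by group] at this)
    (by
      obtain ⟨k, hk⟩ := IsPGroup.iff_card.1 (T.B_three u)
      rw [hk]
      exact Nat.Coprime.pow_left _ (Nat.prime_three.coprime_iff_not_dvd.2 hD3))
    (fun b hb hb1 => by
      obtain ⟨v, rfl⟩ := T.mem_A.1 hb.1
      exact inf_le_right.trans (T.cent_le_M fun e => hb1 (by rw [e, T.a_zero])))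
  intro g hg
  obtain ⟨d, hd, b, hb, rfl⟩ := hdec g hg
  exact mul_mem (hDM hd) (T.A_le_M hb.1)

/-- The centralisers in `L` of the nontrivial elements of `V`. -/
theorem V_KL {u : X} (hu : u ∈ T.V) : ∃ D : Subgroup X, D ≤ T.V ∧
    ∀ g ∈ T.KL u, ∃ d ∈ D, ∃ b ∈ T.A, g = d * b := by
  classical
  haveI : Fact (Nat.Prime 2) := ⟨Nat.prime_two⟩
  have hVK : T.V ≤ T.KL u := fun y hy =>
    ⟨T.V_le_L hy, Subgroup.mem_centralizer_singleton_iff.2 (T.V_comm hy hu)⟩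
  obtain ⟨D, hDK, hVD, hDB, hdec⟩ : ∃ D : Subgroup X, D ≤ T.KL u ∧ T.V ≤ D ∧
      (∀ b ∈ T.B u, b ∈ D → b = 1) ∧ ∀ g ∈ T.KL u, ∃ d ∈ D, ∃ b ∈ T.A, g = d * b := by
    by_cases hB : T.B u = ⊥
    · refine ⟨T.KL u, le_rfl, hVK, fun b hb _ => ?_, fun g hg => ⟨g, hg, 1, one_mem _, (mul_one g).symm⟩⟩
      rwa [hB, Subgroup.mem_bot] at hb
    · obtain ⟨D, hDK, -, hD3, hdec, hco⟩ := T.B_compl hu hB
      refine ⟨D, hDK, fun y hy => hco y (hVK hy) 2 (by rw [pow_two]; exact T.V_sq hy) (by norm_num),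
        fun b hb hbD => ?_, fun g hg => ?_⟩
      · obtain ⟨v, rfl⟩ := T.mem_A.1 hb.1
        refine orderOf_eq_one_iff.1 (Nat.eq_one_of_dvd_coprimes (Nat.prime_three.coprime_iff_not_dvd.2 hD3)
          (orderOf_dvd_of_pow_eq_one (T.a_cube v)) (Subgroup.orderOf_dvd_natCard D hbD))
      · obtain ⟨d, hd, b, hb, rfl⟩ := hdec g hg
        exact ⟨d, hd, b, hb.1, rfl⟩
  have hDM : ∀ g ∈ D, g ∈ T.M → g ∈ T.V := by
    intro g hg hgM
    obtain ⟨y, hy, v, rfl, hv⟩ := T.KL_shape hu (hDK hg) hgM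
    have hvD : T.a v ∈ D := by
      have := mul_mem (inv_mem (hVD hy)) hg
      rwa [inv_mul_cancel_left] at this
    rw [hDB _ hv hvD, mul_one]
    exact hy
  obtain ⟨O, hOD, hnorm, hO2, hdecO, -⟩ := exists_compl D T.V hVD T.V_two
    (fun S hS hVS hSD => (T.V_max hS (hSD.trans (hDK.trans inf_le_left)) hVS).le)
    (fun g hg hn b hb => by
      refine T.V_comm (hDM g hg ?_) hb
      rw [← T.normV]
      refine Subgroup.mem_normalizer_iff.2 fun y => ⟨hn y, fun hy => ?_⟩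
      have hfin : T.V.map (MulAut.conj g).toMonoidHom = T.V := Subgroup.eq_of_le_of_card_ge
        (by rintro _ ⟨z, hz, rfl⟩; exact hn z hz)
        (by rw [Subgroup.card_map_of_injective (MulEquiv.injective _)])
      rw [← hfin] at hy
      obtain ⟨z, hz, e⟩ := hy
      change g * z * g⁻¹ = g * y * g⁻¹ at e
      rw [← mul_left_cancel (mul_right_cancel e)]
      exact hz)
  have hOM : O ≤ T.M := le_of_fixed Nat.prime_two (T.R 0) O T.M
    (fun x hx y hy => T.R_comm 0 0 x hx y hy)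
    (fun x hx => by rw [pow_two]; exact T.R_sq 0 x hx)
    (by rw [T.card_R]; norm_num)
    (fun x hx => by
      rw [Subgroup.mem_normalizer_iff]
      refine fun d => ⟨hnorm x (hVD (T.R_le_V 0 hx)) d, fun h => ?_⟩
      have := hnorm _ (inv_mem (hVD (T.R_le_V 0 hx))) _ h
      rwa [inv_inv, show x⁻¹ * (x * d * x⁻¹) * x = d by group] at this)
    (by
      rw [T.card_R, show (4 : ℕ) = 2 ^ 2 by norm_num]
      exact Nat.Coprime.pow_left _ (Nat.prime_two.coprime_iff_not_dvd.2 hO2))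
    (fun b hb hb1 g hg => T.plane_KL hb hb1 ⟨(hDK (hOD hg.1)).1, hg.2⟩)
  have hDV : D ≤ T.V := by
    intro g hg
    obtain ⟨o, ho, y, hy, rfl⟩ := hdecO g hg
    exact mul_mem (hDM o (hOD ho) (hOM ho)) hy
  exact ⟨D, hDV, hdec⟩

theorem cent_V_le_M {u : X} (hu : u ∈ T.V) : T.KL u ≤ T.M := by
  obtain ⟨D, hD, hdec⟩ := T.V_KL hu
  intro g hg
  obtain ⟨d, hd, b, hb, rfl⟩ := hdec g hg
  exact mul_mem (T.V_le_M (hD hd)) (T.A_le_M hb)

end Flat

end Cfsg.Agent.Spor.OmegaEightThree.X
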