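import Cfsg.Agent.Lib.Spor.OmegaEightThree.X.CentV

/-!
`N(V) = M`: the orbit of a point of a plane bounds the index by `21`, and it is `1` modulo `27`.
-/

set_option autoImplicit false
set_option linter.unusedSectionVars false

namespace Cfsg.Agent.Spor.OmegaEightThree.X

open Subgroup (centralizer normalizer)

/-- A finite set with a semiregular action. -/
theorem free_dvd {M α : Type*} [Group M] [Finite M] [MulAction M α] [Finite α]
    (h : ∀ (g : M) (y : α), g • y = y → g = 1) : Nat.card M ∣ Nat.card α := by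
  letI := Fintype.ofFinite (Quotient (MulAction.orbitRel M α))
  rw [Nat.card_congr (MulAction.selfEquivSigmaOrbitsQuotientStabilizer M α), Nat.card_sigma]
  refine Finset.dvd_sum fun ω _ => ?_
  have hs : MulAction.stabilizer M ω.out = ⊥ :=
    (Subgroup.eq_bot_iff_forall _).2 fun g hg => h g _ (MulAction.mem_stabilizer_iff.1 hg)
  rw [← Subgroup.index_eq_card, hs, Subgroup.index_bot]

namespace Flat

variable {X : Type*} [Group X] [Finite X] (T : Flat X)

theorem R_V {i : Fin 4} {x : X} (hx : x ∈ T.R i) : x ∈ T.V := T.R_le_V i hx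

/-- `A` is transitive on the nonidentity elements of each plane. -/
theorem plane_orbit {i : Fin 4} {u w : X} (hu : u ∈ T.R i) (hu1 : u ≠ 1) (hw : w ∈ T.R i) (hw1 : w ≠ 1) :
    ∃ v, T.a v * u * (T.a v)⁻¹ = w := by
  obtain ⟨v, hv⟩ := exists_move i
  let o : Option (ZMod 3) → T.R i := fun o => o.elim 1 fun c =>
    ⟨T.a (c • v) * u * (T.a (c • v))⁻¹, T.R_norm i _ u hu⟩
  have hne : ∀ c : ZMod 3, T.a (c • v) * u * (T.a (c • v))⁻¹ ≠ 1 := fun c e => by
    rw [mul_inv_eq_one] at e
    exact hu1 (mul_eq_left.1 e)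
  have hdot : ∀ (j : Fin 4) (c d : ZMod 3) (v : Vec), dot (hh j) v ≠ 0 → dot (hh j) (c • v - d • v) = 0 → c = d := by
    intro j c d v hv h
    have e : dot (hh j) (c • v - d • v) = (c - d) * dot (hh j) v := by
      simp only [dot, Fin.sum_univ_three, Pi.sub_apply, Pi.smul_apply, smul_eq_mul]
      ring
    rw [e] at h
    rcases mul_eq_zero.1 h with h | h
    · exact sub_eq_zero.1 h
    · exact absurd h hv
  have hinj : Function.Injective o := by
    intro x y hxy
    rcases x with _ | c <;> rcases y with _ | d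
    · rfl
    · exact absurd (congrArg Subtype.val hxy).symm (hne d)
    · exact absurd (congrArg Subtype.val hxy) (hne c)
    · have e : T.a (c • v) * u * (T.a (c • v))⁻¹ = T.a (d • v) * u * (T.a (d • v))⁻¹ := congrArg Subtype.val hxy
      refine congrArg some (hdot i c d v hv ?_)
      by_contra hd
      refine hu1 (T.R_move i _ hd u hu ?_)
      show T.a (c • v - d • v) * u = u * T.a (c • v - d • v)
      rw [sub_eq_neg_add, T.a_add, T.a_neg]
      calc (T.a (d • v))⁻¹ * T.a (c • v) * u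
          = (T.a (d • v))⁻¹ * (T.a (c • v) * u * (T.a (c • v))⁻¹) * T.a (c • v) := by group
        _ = u * ((T.a (d • v))⁻¹ * T.a (c • v)) := by rw [e]; group
  have hbij := (Nat.bijective_iff_injective_and_card o).2 ⟨hinj, by
    rw [T.card_R, Nat.card_eq_fintype_card]; rfl⟩
  obtain ⟨x, hx⟩ := hbij.2 ⟨w, hw⟩
  rcases x with _ | c
  · exact absurd (congrArg Subtype.val hx).symm hw1
  · exact ⟨c • v, congrArg Subtype.val hx⟩

/-- `N(V) = M`. -/
theorem normV : normalizer (T.V : Set X) = T.M := by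
  classical
  refine le_antisymm ?_ T.M_norm_V
  set NV := normalizer (T.V : Set X) with hNV
  set M' := T.M.subgroupOf NV with hM'
  obtain ⟨u, hu, hu1⟩ := T.exists_ne_one 0
  -- the twelve points
  have horb : ∀ (j : Fin 4) (w : T.R j), (w : X) ≠ 1 → ∃ m ∈ T.M, m * u * m⁻¹ = w := by
    intro j w hw
    obtain ⟨ε, hε⟩ := act_trans 0 j
    have h1 := T.sg_R ε 0 hu
    rw [hε] at h1
    obtain ⟨v, hv⟩ := T.plane_orbit h1 (fun e => hu1 (by
      rw [mul_inv_eq_one] at e
      exact mul_eq_left.1 e)) w.2 hw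
    refine ⟨T.a v * T.sg ε, T.N_le_M (T.a_sg_mem v ε), ?_⟩
    rw [← hv]; group
  let P := Σ j : Fin 4, {w : T.R j // w ≠ 1}
  have hP : Nat.card P = 12 := by
    rw [Nat.card_sigma]
    have : ∀ j : Fin 4, Nat.card {w : T.R j // w ≠ 1} = 3 := fun j => by
      haveI := Fintype.ofFinite (T.R j)
      rw [Nat.card_eq_fintype_card, Fintype.card_subtype_compl, Fintype.card_subtype_eq,
        ← Nat.card_eq_fintype_card, T.card_R]
    simp [this]
  let Φ : (NV ⧸ M') × P → {x : T.V // x ≠ 1} := fun p =>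
    ⟨⟨(p.1.out : X) * (p.2.2.1 : X) * (p.1.out : X)⁻¹,
      (Subgroup.mem_normalizer_iff.1 p.1.out.2 _).1 (T.R_V p.2.2.1.2)⟩, fun e => p.2.2.2 (Subtype.ext (by
        have e' := congrArg Subtype.val e
        simp only [OneMemClass.coe_one, mul_inv_eq_one] at e'
        exact mul_eq_left.1 e'))⟩
  have hΦ : Function.Injective Φ := by
    rintro ⟨c, j, w, hw⟩ ⟨c', j', w', hw'⟩ h
    have e : (c.out : X) * (w : X) * (c.out : X)⁻¹ = (c'.out : X) * (w' : X) * (c'.out : X)⁻¹ :=
      congrArg (fun p : {x : T.V // x ≠ 1} => ((p : T.V) : X)) h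
    obtain ⟨m, hm, hmu⟩ := horb j w fun e => hw (Subtype.ext e)
    obtain ⟨m', hm', hmu'⟩ := horb j' w' fun e => hw' (Subtype.ext e)
    have hin : m'⁻¹ * (c'.out : X)⁻¹ * (c.out : X) * m ∈ T.M := by
      have hn : m'⁻¹ * (c'.out : X)⁻¹ * (c.out : X) * m ∈ NV :=
        NV.mul_mem (NV.mul_mem (NV.mul_mem (NV.inv_mem (T.M_norm_V hm')) (NV.inv_mem c'.out.2)) c.out.2)
          (T.M_norm_V hm)
      refine T.centu_M hu hu1 (Subgroup.mem_inf.2
        ⟨hn, Subgroup.mem_centralizer_singleton_iff.2 (mul_inv_eq_iff_eq_mul.1 ?_)⟩)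
      calc _ = m'⁻¹ * (c'.out : X)⁻¹ * ((c.out : X) * (m * u * m⁻¹) * (c.out : X)⁻¹) * (c'.out : X) * m' := by
            group
        _ = u := by rw [hmu, e, ← hmu']; group
    have hcc : c' = c := by
      rw [← c'.out_eq', ← c.out_eq']
      refine (QuotientGroup.eq).2 (Subgroup.mem_subgroupOf.2 ?_)
      have := mul_mem (mul_mem hm' hin) (inv_mem hm)
      show (c'.out : X)⁻¹ * (c.out : X) ∈ T.M
      rwa [show m' * (m'⁻¹ * (c'.out : X)⁻¹ * (c.out : X) * m) * m⁻¹ = (c'.out : X)⁻¹ * (c.out : X) by group]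
        at this
    subst hcc
    have ew : (w : X) = w' := mul_left_cancel (mul_right_cancel e)
    have hjj : j = j' := by
      by_contra hne
      exact hw (Subtype.ext (T.R_disj hne w.2 (ew ▸ w'.2)))
    subst hjj
    have : w = w' := Subtype.ext ew
    subst this
    rfl
  have hle := Nat.card_le_card_of_injective Φ hΦ
  have h255 : Nat.card {x : T.V // x ≠ 1} = 255 := by
    haveI := Fintype.ofFinite T.V
    rw [Nat.card_eq_fintype_card, Fintype.card_subtype_compl, Fintype.card_subtype_eq,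
      ← Nat.card_eq_fintype_card, T.card_V]
  rw [Nat.card_prod, hP, h255] at hle
  -- semiregularity
  let α := {c : NV ⧸ M' // c ≠ ((1 : NV) : NV ⧸ M')}
  have hfix : ∀ v : Vec, v ≠ 0 → ∀ c : NV ⧸ M',
      (⟨T.a v, T.A_norm_V (T.a_mem v)⟩ : NV) • c = c → c = ((1 : NV) : NV ⧸ M') := by
    intro v hv c hc
    induction c using QuotientGroup.induction_on with
    | _ g =>
      have h1 : ((⟨T.a v, T.A_norm_V (T.a_mem v)⟩ : NV) * g)⁻¹ * g ∈ M' := (QuotientGroup.eq).1 hc
      rw [hM', Subgroup.mem_subgroupOf] at h1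
      have h2 : (g : X)⁻¹ * T.a v * ((g : X)⁻¹)⁻¹ ∈ T.M := by
        have := inv_mem h1
        push_cast at this
        rwa [show ((T.a v * (g : X))⁻¹ * (g : X))⁻¹ = (g : X)⁻¹ * T.a v * ((g : X)⁻¹)⁻¹ by group] at this
      have h3 := inv_mem (T.strong hv h2)
      rw [inv_inv] at h3
      refine ((QuotientGroup.eq).2 ?_).symm
      rw [inv_one, one_mul, hM', Subgroup.mem_subgroupOf]
      exact h3
  letI : MulAction T.A α :=
    { smul := fun x c => ⟨(⟨(x : X), T.A_norm_V x.2⟩ : NV) • c.1, fun e => c.2 (by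
        have hm : (⟨(x : X), T.A_norm_V x.2⟩ : NV)⁻¹ ∈ M' := inv_mem (by
          rw [hM', Subgroup.mem_subgroupOf]; exact T.A_le_M x.2)
        rw [← inv_smul_smul (⟨(x : X), T.A_norm_V x.2⟩ : NV) c.1, e]
        refine ((QuotientGroup.eq).2 ?_).symm
        simpa using hm)⟩
      one_smul := fun c => Subtype.ext (one_smul NV c.1)
      mul_smul := fun x y c => Subtype.ext (mul_smul (⟨(x : X), T.A_norm_V x.2⟩ : NV) ⟨(y : X), T.A_norm_V y.2⟩ c.1) }
  have hdvd : Nat.card T.A ∣ Nat.card α := free_dvd fun x c hxc => by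
    obtain ⟨v, hv⟩ := T.mem_A.1 x.2
    by_contra hx
    have hv0 : v ≠ 0 := fun e => hx (Subtype.ext (by rw [← hv, e, T.a_zero]; rfl))
    refine c.2 (hfix v hv0 c.1 ?_)
    have := congrArg Subtype.val hxc
    rwa [show (⟨T.a v, T.A_norm_V (T.a_mem v)⟩ : NV) = ⟨(x : X), T.A_norm_V x.2⟩ from Subtype.ext hv]
  have hα : Nat.card α = Nat.card (NV ⧸ M') - 1 := by
    haveI := Fintype.ofFinite (NV ⧸ M')
    rw [Nat.card_eq_fintype_card, Fintype.card_subtype_compl, Fintype.card_subtype_eq,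
      ← Nat.card_eq_fintype_card]
  rw [T.card_A, hα] at hdvd
  have hone : Nat.card (NV ⧸ M') = 1 := by
    have hpos : 0 < Nat.card (NV ⧸ M') := Nat.card_pos
    obtain ⟨k, hk⟩ := hdvd
    omega
  intro g hg
  have : (⟨g, hg⟩ : NV) ∈ M' := by
    have h := (Nat.card_eq_one_iff_unique.1 hone).1
    have e : ((⟨g, hg⟩ : NV) : NV ⧸ M') = ((1 : NV) : NV ⧸ M') := Subsingleton.elim _ _
    have := (QuotientGroup.eq).1 e.symm
    rwa [inv_one, one_mul] at this
  exact this

end Flat

end Cfsg.Agent.Spor.OmegaEightThree.X
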