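import Cfsg.Agent.Lib.Spor.OmegaEightThree.X.Kernel

/-!
`V` is normal: an element of support two and one of support one are not conjugate in `L`, so an
involution commutes with both.
-/

set_option autoImplicit false
set_option linter.unusedSectionVars false
set_option maxHeartbeats 800000

namespace Cfsg.Agent.Spor.OmegaEightThree.X

open Subgroup (centralizer normalizer)

theorem pair_exists : ∀ j : Fin 4, ∃ k : Fin 4, j ≠ k := by decide

namespace Flat

variable {X : Type*} [Group X] [Finite X] (T : Flat X)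

/-- Fusion in `V` inside `L` respects the planes. -/
theorem fusion_V {u w g : X} {i : Fin 4} (hu : u ∈ T.R i) (hw : w ∈ T.V) (hg : g ∈ T.L)
    (h : g * u * g⁻¹ = w) : w ∈ T.R i := by
  classical
  haveI : Fact (Nat.Prime 2) := ⟨Nat.prime_two⟩
  obtain ⟨P, hP⟩ := (T.V_two.comap_of_injective T.L.subtype T.L.subtype_injective).exists_le_sylow
  have hPV : (P : Subgroup T.L).map T.L.subtype = T.V :=
    T.V_max (P.2.map _) (by rintro _ ⟨y, -, rfl⟩; exact y.2)
      (fun y hy => ⟨⟨y, T.V_le_L hy⟩, hP hy, rfl⟩)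
  have hmem : ∀ {x : T.L}, x ∈ (P : Subgroup T.L) ↔ (x : X) ∈ T.V := by
    intro x
    rw [← hPV]
    refine ⟨fun hx => ⟨x, hx, rfl⟩, ?_⟩
    rintro ⟨y, hy, e⟩
    rwa [← Subtype.ext (e : (y : X) = x)]
  haveI : IsMulCommutative (P : Subgroup T.L) := ⟨⟨fun x y =>
    Subtype.ext (Subtype.ext (T.V_comm (hmem.1 x.2) (hmem.1 y.2)))⟩⟩
  have huV := T.R_le_V i hu
  obtain ⟨n, hn, e⟩ := P.conj_eq_normalizer_conj_of_mem (⟨u, T.V_le_L huV⟩ : T.L) ⟨g, hg⟩⁻¹
    (hmem.2 huV) (hmem.2 (by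
      show (g⁻¹)⁻¹ * u * g⁻¹ ∈ T.V
      rw [inv_inv, h]; exact hw))
  have e' : w = (n : X)⁻¹ * u * n := by
    have := congrArg Subtype.val e
    simp only [Subgroup.coe_mul, Subgroup.coe_inv, inv_inv] at this
    rw [← h]; exact this
  have hkey : ∀ x : T.L, x ∈ normalizer ((P : Subgroup T.L) : Set T.L) → ∀ z ∈ T.V, (x : X) * z * (x : X)⁻¹ ∈ T.V := by
    intro x hx z hz
    exact hmem.1 ((Subgroup.mem_normalizer_iff.1 hx ⟨z, T.V_le_L hz⟩).1 (hmem.2 hz))
  have hnM : (n : X)⁻¹ ∈ T.M := by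
    rw [← T.normV]
    refine Subgroup.mem_normalizer_iff.2 fun z => ⟨fun hz => hkey n⁻¹ (inv_mem hn) z hz, fun hz => ?_⟩
    have := hkey n hn _ hz
    rwa [show (n : X) * ((n : X)⁻¹ * z * ((n : X)⁻¹)⁻¹) * (n : X)⁻¹ = z by group] at this
  obtain ⟨y, hy, v, hk⟩ := T.L_M (inv_mem n.2) hnM
  have hm := T.R_norm i v u hu
  change T.a v * u * (T.a v)⁻¹ ∈ T.R i at hm
  have hc := T.V_comm hy (T.R_le_V i hm)
  rw [e', show (n : X)⁻¹ * u * n = (n : X)⁻¹ * u * ((n : X)⁻¹)⁻¹ by group, hk,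
    show y * T.a v * u * (y * T.a v)⁻¹ = y * (T.a v * u * (T.a v)⁻¹) * y⁻¹ by group, hc, mul_inv_cancel_right]
  exact hm

/-- A product of two nontrivial elements of different planes lies in no plane. -/
theorem pair_notMem {j k : Fin 4} (hjk : j ≠ k) {x y : X} (hx : x ∈ T.R j) (hy : y ∈ T.R k) (hx1 : x ≠ 1)
    (hy1 : y ≠ 1) (i : Fin 4) : x * y ∉ T.R i := by
  intro hm
  by_cases hij : i = j
  · subst hij
    have := mul_mem (inv_mem hx) hm
    rw [inv_mul_cancel_left] at this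
    exact hy1 (T.R_disj hjk this hy)
  · classical
    have e : T.pr (Pi.mulSingle j ⟨x, hx⟩ * Pi.mulSingle k ⟨y, hy⟩) = T.pr (Pi.mulSingle i ⟨x * y, hm⟩) := by
      rw [map_mul, T.pr_single, T.pr_single, T.pr_single]
    have h := congrFun (T.pr_inj e) j
    rw [Pi.mul_apply, Pi.mulSingle_eq_same, Pi.mulSingle_eq_of_ne hjk, mul_one,
      Pi.mulSingle_eq_of_ne (Ne.symm hij)] at h
    exact hx1 (congrArg Subtype.val h)

/-- The involutions of `L ∩ M` lie in `V`. -/
theorem inv_L_M {g : X} (hL : g ∈ T.L) (hM : g ∈ T.M) (h2 : g * g = 1) : g ∈ T.V := by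
  obtain ⟨y, hy, v, rfl⟩ := T.L_M hL hM
  have hyv := T.V_conj_mem (T.A_le_M (T.a_mem v)) hy
  have e : y * (T.a v * y * (T.a v)⁻¹) * T.a (v + v) = 1 := by rw [← h2, T.a_add]; group
  have hV : T.a (v + v) ∈ T.V := by
    rw [eq_inv_of_mul_eq_one_right e]
    exact inv_mem (mul_mem hy hyv)
  rw [double_eq v (T.a_eq_one (T.V_inf_A hV (T.a_mem _))), T.a_zero, mul_one]
  exact hy

/-- The conjugates in `L` of an element of support two lie in `V`. -/
theorem pair_conj_V {j k : Fin 4} (hjk : j ≠ k) {x y : X} (hx : x ∈ T.R j) (hy : y ∈ T.R k) (hx1 : x ≠ 1)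
    (hy1 : y ≠ 1) {g : X} (hg : g ∈ T.L) : g * (x * y) * g⁻¹ ∈ T.V := by
  have hd : x * y ∈ T.V := mul_mem (T.R_le_V j hx) (T.R_le_V k hy)
  obtain ⟨u, hu, hu1⟩ := T.exists_ne_one 0
  have huV := T.R_le_V 0 hu
  set d := g * (x * y) * g⁻¹ with hddef
  have hd2 : d * d = 1 := by
    rw [hddef, show g * (x * y) * g⁻¹ * (g * (x * y) * g⁻¹) = g * (x * y * (x * y)) * g⁻¹ by group,
      T.V_sq hd, mul_one, mul_inv_cancel]
  have hu2 : u * u = 1 := T.R_sq 0 u hu
  have hdL : d ∈ T.L := T.L_conj g (T.V_le_L hd)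
  have huL := T.V_le_L huV
  rcases Nat.even_or_odd (orderOf (u * d)) with ⟨m, hm⟩ | ⟨m, hm⟩
  · set z := (u * d) ^ m with hzdef
    have hpos : 0 < orderOf (u * d) := orderOf_pos _
    have hz1 : z ≠ 1 := pow_ne_one_of_lt_orderOf (by omega) (by omega)
    have hz2 : z * z = 1 := by rw [hzdef, ← pow_add, ← hm, pow_orderOf_eq_one]
    have hzi : z⁻¹ = z := inv_eq_of_mul_eq_one_right hz2
    have hui : u⁻¹ = u := inv_eq_of_mul_eq_one_right hu2
    have hdi : d⁻¹ = d := inv_eq_of_mul_eq_one_right hd2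
    have hzu : z * u = u * z := by
      have e : (u * (u * d) * u⁻¹) ^ m = ((u * d)⁻¹) ^ m := by
        congr 1
        rw [mul_inv_rev, hui, hdi, ← mul_assoc, hu2, one_mul]
      rw [conj_pow, inv_pow, ← hzdef, hzi] at e
      exact (mul_inv_eq_iff_eq_mul.1 e).symm
    have hzd : z * d = d * z := by
      have h1 : Commute z (u * d) := (Commute.refl (u * d)).pow_left m
      have h2 : Commute z u := hzu
      have := h2.inv_right.mul_right h1
      rw [inv_mul_cancel_left] at this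
      exact this.eq
    have hzL : z ∈ T.L := pow_mem (mul_mem huL hdL) m
    have hzM := T.cent_V_le_M huV ⟨hzL, Subgroup.mem_centralizer_singleton_iff.2 hzu⟩
    have hzV := T.inv_L_M hzL hzM hz2
    have hdM := T.cent_V_le_M hzV ⟨hdL, Subgroup.mem_centralizer_singleton_iff.2 hzd.symm⟩
    exact T.inv_L_M hdL hdM hd2
  · exfalso
    have hc := odd_conj hu2 hd2 (k := m) (by rw [← hm, pow_orderOf_eq_one])
    set r := (u * d) ^ m
    have hrL : r ∈ T.L := pow_mem (mul_mem huL hdL) m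
    refine T.pair_notMem hjk hx hy hx1 hy1 0 (T.fusion_V (g := g⁻¹ * r) hu hd (mul_mem (inv_mem hg) hrL) ?_)
    calc g⁻¹ * r * u * (g⁻¹ * r)⁻¹ = g⁻¹ * (r * u * r⁻¹) * g := by group
      _ = x * y := by rw [hc, hddef]; group

/-- `V` is normal. -/
theorem V_normal : T.V.Normal := by
  classical
  have hLV : ∀ g ∈ T.L, ∀ z ∈ T.V, g * z * g⁻¹ ∈ T.V := by
    intro g hg
    suffices hsuf : T.V ≤ T.V.comap (MulAut.conj g).toMonoidHom from fun z hz => hsuf hz
    refine iSup_le fun j => fun w hw => ?_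
    show g * w * g⁻¹ ∈ T.V
    rcases eq_or_ne w 1 with rfl | hw1
    · rw [mul_one, mul_inv_cancel]; exact one_mem _
    obtain ⟨k, hjk⟩ := pair_exists j
    obtain ⟨y, hy, hy1⟩ := T.exists_ne_one k
    obtain ⟨v, hv⟩ := exists_move j
    have hx : T.a v * w * (T.a v)⁻¹ ∈ T.R j := T.R_norm j v w hw
    set x := T.a v * w * (T.a v)⁻¹ with hxdef
    have hx1 : x ≠ 1 := fun e => hw1 (by
      rw [hxdef, mul_inv_eq_one] at e
      exact mul_eq_left.1 e)
    have hxw : x ≠ w := fun e => hw1 (T.R_move j v hv w hw (mul_inv_eq_iff_eq_mul.1 e))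
    have hx' : w * x ∈ T.R j := mul_mem hw hx
    have hx'1 : w * x ≠ 1 := fun e => hxw (mul_left_cancel (e.trans (T.R_sq j w hw).symm))
    have h1 := T.pair_conj_V hjk hx' hy hx'1 hy1 hg
    have h2 := T.pair_conj_V hjk hx hy hx1 hy1 hg
    have := mul_mem h1 h2
    have hyx := T.R_comm k j y hy x hx
    rwa [show g * (w * x * y) * g⁻¹ * (g * (x * y) * g⁻¹) = g * (w * x * (y * x) * y) * g⁻¹ by group,
      hyx, show w * x * (x * y) * y = w * (x * x) * (y * y) by group, T.R_sq j x hx, T.R_sq k y hy,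
      mul_one, mul_one] at this
  refine ⟨fun z hz g => ?_⟩
  set W := T.V.map (MulAut.conj g).toMonoidHom with hW
  have hWL : W ≤ T.L := by
    rintro _ ⟨x, hx, rfl⟩
    exact T.L_conj g (T.V_le_L hx)
  have hWN : W ≤ normalizer (T.V : Set X) := by
    intro x hx
    rw [Subgroup.mem_normalizer_iff]
    refine fun y => ⟨hLV x (hWL hx) y, fun h => ?_⟩
    have := hLV _ (inv_mem (hWL hx)) _ h
    rwa [inv_inv, show x⁻¹ * (x * y * x⁻¹) * x = y by group] at this
  have h := T.V_max ((T.V_two.map _).to_sup_of_normal_right' T.V_two hWN) (sup_le hWL T.V_le_L) le_sup_right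
  rw [← h]
  exact Subgroup.mem_sup_left ⟨z, hz, rfl⟩

/-- `M` is everything. -/
theorem M_top : T.M = ⊤ := by
  rw [← T.normV]
  haveI := T.V_normal
  exact Subgroup.normalizer_eq_top _

end Flat

end Cfsg.Agent.Spor.OmegaEightThree.X
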