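import Cfsg.Agent.Lib.Spor.OmegaEightThree.X.Aut
import Cfsg.Agent.Lib.Spor.SymNine.Plane

/-!
The centraliser of an element of weight one lies in `N(A)`: modulo that element `A` is a self-centralising
plane with an automiser of exponent two.
-/

set_option autoImplicit false
set_option linter.unusedSectionVars false
set_option maxHeartbeats 800000

namespace Cfsg.Agent.Spor.OmegaEightThree.X

open Subgroup (centralizer normalizer)

/-- A unit vector. -/
def ev (i : Fin 3) : Vec := Pi.single i 1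

/-- The vectors with vanishing coordinate `i`. -/
def emb (i : Fin 3) (w : Fin 2 → ZMod 3) : Vec := Fin.insertNth i 0 w

theorem emb_add : ∀ (i : Fin 3) (v w : Fin 2 → ZMod 3), emb i (v + w) = emb i v + emb i w := by decide +kernel

theorem emb_split : ∀ (i : Fin 3) (v : Vec), ∃ w : Fin 2 → ZMod 3, v = emb i w + v i • ev i := by decide +kernel

theorem emb_ev : ∀ (i : Fin 3) (w : Fin 2 → ZMod 3) (c : ZMod 3), emb i w = c • ev i → w = 0 := by decide +kernel

theorem emb_two : ∀ (i : Fin 3) (w : Fin 2 → ZMod 3), w ≠ 0 → 2 ≤ wt (emb i w + ev i) := by decide +kernel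

theorem emb_fusion : ∀ (i : Fin 3) (w : Fin 2 → ZMod 3) (ε : Sgn) (c : ZMod 3),
    mono 1 ε (emb i w) = emb i w + c • ev i → c = 0 := by decide +kernel

theorem emb_mono : ∀ (i : Fin 3) (w : Fin 2 → ZMod 3) (ε : Sgn), ∃ w', mono 1 ε (emb i w) = emb i w' := by
  decide +kernel

theorem dot_ev : ∀ (j : Fin 4) (i : Fin 3), dot (hh j) (ev i) ≠ 0 := by decide +kernel

theorem wt_cases : ∀ v : Vec, v ≠ 0 → 2 ≤ wt v ∨ ∃ i, v = ev i ∨ v = -ev i := by decide +kernel

namespace Flat

variable {X : Type*} [Group X] [Finite X] (T : Flat X)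

theorem a_nsmul (n : ℕ) (v : Vec) : T.a (n • v) = T.a v ^ n := by
  induction n with
  | zero => rw [zero_nsmul, pow_zero, T.a_zero]
  | succ n ih => rw [succ_nsmul, T.a_add, ih, pow_succ]

/-- The centraliser of a unit vector normalises `A`. -/
theorem cent_single (i : Fin 3) : centralizer ({T.a (ev i)} : Set X) ≤ T.N := by
  classical
  set u := T.a (ev i) with hu
  set C := centralizer ({u} : Set X) with hC
  let Z : Subgroup C := (Subgroup.zpowers u).subgroupOf C
  have hZc : ∀ z ∈ Z, ∀ c : C, c * z = z * c := by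
    intro z hz c
    obtain ⟨n, hn⟩ := Subgroup.mem_zpowers_iff.1 (Subgroup.mem_subgroupOf.1 hz)
    have : Commute (c : X) u := Subgroup.mem_centralizer_singleton_iff.1 c.2
    refine Subtype.ext ?_
    show (c : X) * z = z * c
    rw [← hn]
    exact this.zpow_right n
  haveI : Z.Normal := ⟨fun z hz c => by rw [hZc z hz c, mul_inv_cancel_right]; exact hz⟩
  let q := QuotientGroup.mk' Z
  have hAC : ∀ v, T.a v ∈ C := fun v =>
    Subgroup.mem_centralizer_singleton_iff.2 (T.a_comm v _)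
  have hzpow : ∀ {z : X}, z ∈ Subgroup.zpowers u → ∃ c : ZMod 3, z = T.a (c • ev i) := by
    intro z hz
    obtain ⟨n, rfl⟩ := Subgroup.mem_zpowers_iff.1 hz
    refine ⟨(n : ZMod 3), ?_⟩
    rw [hu, Flat.a, ← map_zpow]
    refine congrArg T.e (Multiplicative.toAdd.injective ?_)
    rw [toAdd_zpow]
    exact (Int.cast_smul_eq_zsmul (ZMod 3) n (ev i)).symm
  let f : Multiplicative (Fin 2 → ZMod 3) →* C ⧸ Z :=
    MonoidHom.mk' (fun w => q ⟨T.a (emb i w.toAdd), hAC _⟩) fun w w' => by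
      rw [← map_mul]
      exact congrArg q (Subtype.ext (by
        show T.a (emb i (w * w').toAdd) = T.a (emb i w.toAdd) * T.a (emb i w'.toAdd)
        rw [toAdd_mul, emb_add, T.a_add]))
  have hf : Function.Injective f := by
    rw [injective_iff_map_eq_one]
    intro w hw
    obtain ⟨c, hc⟩ := hzpow (Subgroup.mem_subgroupOf.1 ((QuotientGroup.eq_one_iff _).1 hw))
    exact Multiplicative.toAdd.injective (emb_ev i _ c (T.a_inj hc))
  set E := f.range with hE
  have hcard : Nat.card E = 9 := by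
    rw [hE, ← Nat.card_congr (MonoidHom.ofInjective hf).toEquiv, Nat.card_congr Multiplicative.toAdd,
      Nat.card_fun, Nat.card_fin, Nat.card_zmod]
    rfl
  have hqA : ∀ c : C, (c : X) ∈ T.A → q c ∈ E := by
    intro c hc
    obtain ⟨v, hv⟩ := T.mem_A.1 hc
    obtain ⟨w, hw⟩ := emb_split i v
    refine ⟨Multiplicative.ofAdd w, (QuotientGroup.eq).2 (Subgroup.mem_subgroupOf.2 ?_)⟩
    show (T.a (emb i w))⁻¹ * (c : X) ∈ Subgroup.zpowers u
    rw [← hv]
    conv => arg 2; rw [hw, T.a_add, inv_mul_cancel_left]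
    rw [show v i • ev i = ((v i).val : ℕ) • ev i by rw [← Nat.cast_smul_eq_nsmul (ZMod 3), ZMod.natCast_zmod_val]]
    rw [T.a_nsmul]
    exact pow_mem (Subgroup.mem_zpowers u) _
  have hmem : ∀ c : C, q c ∈ E → (c : X) ∈ T.A := by
    rintro c ⟨w, hw⟩
    have hh := Subgroup.mem_subgroupOf.1 ((QuotientGroup.eq).1 hw)
    obtain ⟨k, hk⟩ := hzpow hh
    have : (c : X) = T.a (emb i w.toAdd) * T.a (k • ev i) := by
      rw [← hk]; show (c : X) = _ * ((T.a (emb i w.toAdd))⁻¹ * c); group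
    rw [this]
    exact mul_mem (T.a_mem _) (T.a_mem _)
  -- centralisers of the points
  have hpoint : ∀ c : C, ∀ w : Multiplicative (Fin 2 → ZMod 3), q c * f w = f w * q c →
      (c : X) * T.a (emb i w.toAdd) = T.a (emb i w.toAdd) * c := by
    intro c w hcw
    have h1 : q (c * ⟨T.a (emb i w.toAdd), hAC _⟩ * c⁻¹ * ⟨T.a (emb i w.toAdd), hAC _⟩⁻¹) = 1 := by
      simp only [map_mul, map_inv]
      show q c * f w * (q c)⁻¹ * (f w)⁻¹ = 1
      rw [hcw, mul_inv_cancel_right, mul_inv_cancel]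
    obtain ⟨k, hk⟩ := hzpow (Subgroup.mem_subgroupOf.1 ((QuotientGroup.eq_one_iff _).1 h1))
    have hk' : (c : X) * T.a (emb i w.toAdd) * (c : X)⁻¹ = T.a (emb i w.toAdd + k • ev i) := by
      rw [add_comm, T.a_add, ← hk]
      show _ = (c : X) * T.a (emb i w.toAdd) * (c : X)⁻¹ * (T.a (emb i w.toAdd))⁻¹ * _
      rw [inv_mul_cancel_right]
    obtain ⟨ε, hε⟩ := T.fusion hk'
    rw [emb_fusion i _ ε k hε, zero_smul, add_zero] at hk'
    exact mul_inv_eq_iff_eq_mul.1 hk'
  have hN : ∀ c : C, ∀ w : Multiplicative (Fin 2 → ZMod 3), w ≠ 1 → q c * f w = f w * q c → (c : X) ∈ T.N := by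
    intro c w hw hcw
    have hcu : (c : X) * T.a (ev i) = T.a (ev i) * c := Subgroup.mem_centralizer_singleton_iff.1 c.2
    have hcv := hpoint c w hcw
    have hsum : (c : X) * T.a (emb i w.toAdd + ev i) = T.a (emb i w.toAdd + ev i) * c := by
      rw [T.a_add, ← mul_assoc, hcv, mul_assoc, hcu, mul_assoc]
    obtain ⟨y, hy, k, hk, hg, -, hyu, -, -⟩ :=
      T.cent_two (emb_two i _ fun e => hw (Multiplicative.toAdd.injective e)) hsum hcu
    obtain ⟨F, rfl⟩ := T.mem_V.1 hy
    have hF : F = 1 := funext fun j => (T.fix_iff _ F).1 hyu.symm j (dot_ev j i)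
    rw [hg, hF, map_one, one_mul]
    exact hk
  have hconjE : ∀ c : C, (c : X) ∈ T.N → q c ∈ normalizer (E : Set (C ⧸ Z)) := by
    intro c hc
    have key : ∀ c : C, (c : X) ∈ T.N → ∀ e ∈ E, q c * e * (q c)⁻¹ ∈ E := by
      rintro c hc e ⟨w, rfl⟩
      obtain ⟨w', hw'⟩ := emb_mono i w.toAdd (T.th ⟨c, hc⟩)
      refine ⟨Multiplicative.ofAdd w', ?_⟩
      show q ⟨T.a (emb i w'), hAC _⟩ = q c * q ⟨T.a (emb i w.toAdd), hAC _⟩ * (q c)⁻¹
      rw [← map_mul, ← map_inv, ← map_mul]
      refine congrArg q (Subtype.ext ?_)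
      show T.a (emb i w') = (c : X) * T.a (emb i w.toAdd) * (c : X)⁻¹
      rw [← hw', ← T.th_conj ⟨c, hc⟩]
    rw [Subgroup.mem_normalizer_iff]
    refine fun e => ⟨key c hc e, fun h => ?_⟩
    have := key c⁻¹ (inv_mem hc) _ h
    rwa [map_inv, inv_inv, show (q c)⁻¹ * (q c * e * (q c)⁻¹) * q c = e by group] at this
  have hnorm : ∀ c : C, q c ∈ normalizer (E : Set (C ⧸ Z)) → (c : X) ∈ T.N := by
    intro c hc
    have key : ∀ c : C, q c ∈ normalizer (E : Set (C ⧸ Z)) → ∀ x ∈ T.A, (c : X) * x * (c : X)⁻¹ ∈ T.A := by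
      intro c hc x hx
      obtain ⟨v, rfl⟩ := T.mem_A.1 hx
      refine hmem (c * ⟨T.a v, hAC v⟩ * c⁻¹) ?_
      rw [map_mul, map_mul, map_inv]
      exact (Subgroup.mem_normalizer_iff.1 hc _).1 (hqA _ hx)
    show (c : X) ∈ normalizer (T.A : Set X)
    rw [Subgroup.mem_normalizer_iff]
    refine fun x => ⟨key c hc x, fun h => ?_⟩
    have := key c⁻¹ (by rw [map_inv]; exact inv_mem hc) _ h
    rwa [Subgroup.coe_inv, inv_inv, show (c : X)⁻¹ * ((c : X) * x * (c : X)⁻¹) * c = x by group] at this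
  have hEcomm : IsMulCommutative E := ⟨⟨fun a b => Subtype.ext (by
    obtain ⟨x, hx⟩ := a.2
    obtain ⟨y, hy⟩ := b.2
    show (a : C ⧸ Z) * b = b * a
    rw [← hx, ← hy, ← map_mul, ← map_mul, mul_comm])⟩⟩
  have hcentE : centralizer (E : Set (C ⧸ Z)) = E := by
    refine le_antisymm (fun g hg => ?_) (Subgroup.le_centralizer E)
    obtain ⟨c, rfl⟩ := QuotientGroup.mk'_surjective Z g
    refine hqA c (T.centA _ fun v => ?_)
    show (c : X) * T.a v = T.a v * c
    obtain ⟨w, hw⟩ := emb_split i v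
    have h1 := hpoint c (Multiplicative.ofAdd w) ((Subgroup.mem_centralizer_iff.1 hg _ ⟨_, rfl⟩).symm)
    obtain ⟨k, hk⟩ : ∃ k : ℕ, T.a (v i • ev i) = u ^ k := ⟨(v i).val, by
      rw [show v i • ev i = ((v i).val : ℕ) • ev i by rw [← Nat.cast_smul_eq_nsmul (ZMod 3), ZMod.natCast_zmod_val],
        T.a_nsmul]⟩
    rw [hw, T.a_add, hk]
    exact (Commute.mul_right (show Commute (c : X) _ from h1)
      (Commute.pow_right (show Commute (c : X) u from Subgroup.mem_centralizer_singleton_iff.1 c.2) k)).eq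
  have htop := SymNine.plane_normal E hcard hEcomm
    (by
      rintro e ⟨w, rfl⟩
      rw [← map_pow, show w ^ 3 = 1 from Multiplicative.toAdd.injective (by
        rw [toAdd_pow, toAdd_one]
        funext j
        have : ∀ x : ZMod 3, 3 • x = 0 := by decide
        exact this _), map_one])
    hcentE
    (by
      rintro e ⟨w, rfl⟩ he g hg
      obtain ⟨c, rfl⟩ := QuotientGroup.mk'_surjective Z g
      exact hconjE c (hN c w (fun e => he (by rw [e, map_one])) (Subgroup.mem_centralizer_singleton_iff.1 hg)))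
    (by
      intro g hg
      obtain ⟨c, rfl⟩ := QuotientGroup.mk'_surjective Z g
      rw [← map_mul]
      exact hqA _ (T.N_sq (hnorm c hg)))
  intro g hg
  exact hnorm ⟨g, hg⟩ (htop ▸ Subgroup.mem_top _)

end Flat

end Cfsg.Agent.Spor.OmegaEightThree.X
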