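import Cfsg.Agent.Lib.Spor.OmegaEightThree.X.FixedPts

/-!
`V` extended by the sign changes is a Sylow `2`-subgroup: `V` is its only abelian subgroup of order `256`.
-/

set_option autoImplicit false
set_option linter.unusedSectionVars false

namespace Cfsg.Agent.Spor.OmegaEightThree.X

open Subgroup (centralizer normalizer)
open scoped Pointwise

theorem card_Sgn : Nat.card Sgn = 8 := by rw [Nat.card_eq_fintype_card]; rfl

theorem sgn_mul_eq : ∀ a b : Sgn, a * b = 1 → a = b := by decide +kernel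

/-- A `2`-element and a `3`-element. -/
theorem two_three {G : Type*} [Group G] {x : G} {P : Subgroup G} (hP : IsPGroup 2 P) (hx : x ∈ P)
    (h3 : x ^ 3 = 1) : x = 1 := by
  obtain ⟨k, hk⟩ := hP ⟨x, hx⟩
  have hk' : x ^ (2 ^ k) = 1 := congrArg Subtype.val hk
  exact orderOf_eq_one_iff.1 (Nat.eq_one_of_dvd_coprimes (Nat.Coprime.pow_left k (by norm_num : Nat.Coprime 2 3))
    (orderOf_dvd_of_pow_eq_one hk') (orderOf_dvd_of_pow_eq_one h3))

namespace Flat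

variable {X : Type*} [Group X] [Finite X] (T : Flat X)

/-- `V` extended by the sign changes. -/
noncomputable def T2 : Subgroup X := T.V ⊔ T.sg.range

theorem mem_T2 {g : X} : g ∈ T.T2 ↔ ∃ y ∈ T.V, ∃ ε, g = y * T.sg ε := by
  have hle : T.sg.range ≤ normalizer (T.V : Set X) := by
    rintro _ ⟨ε, rfl⟩
    exact T.M_norm_V (T.sg_le_M ε)
  have hset : (T.T2 : Set X) = (T.V : Set X) * (T.sg.range : Set X) :=
    Subgroup.coe_mul_of_right_le_normalizer_left _ _ hle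
  rw [← SetLike.mem_coe, hset, Set.mem_mul]
  constructor
  · rintro ⟨y, hy, -, ⟨ε, rfl⟩, rfl⟩
    exact ⟨y, hy, ε, rfl⟩
  · rintro ⟨y, hy, ε, rfl⟩
    exact ⟨y, hy, _, ⟨ε, rfl⟩, rfl⟩

theorem T2_le_M : T.T2 ≤ T.M := fun g hg => by
  obtain ⟨y, hy, ε, rfl⟩ := T.mem_T2.1 hg
  exact mul_mem (T.V_le_M hy) (T.sg_le_M ε)

theorem V_le_T2 : T.V ≤ T.T2 := le_sup_left

theorem sg_mem_T2 (ε : Sgn) : T.sg ε ∈ T.T2 := Subgroup.mem_sup_right ⟨ε, rfl⟩

theorem eps_T2 {g : X} (hg : g ∈ T.T2) :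
    ∃ y ∈ T.V, g = y * T.sg (T.epsHom ⟨g, T.T2_le_M hg⟩) := by
  obtain ⟨y, hy, ε, rfl⟩ := T.mem_T2.1 hg
  refine ⟨y, hy, ?_⟩
  rw [T.epsHom_apply, T.eps_eq (g := ⟨_, T.T2_le_M hg⟩) hy (v := 0) (ε := ε)
    (by rw [T.a_zero, one_mul])]

theorem sg_norm_V (ε : Sgn) {y : X} (hy : y ∈ T.V) : T.sg ε * y * T.sg ε ∈ T.V := by
  have h := T.V_conj_mem (T.sg_le_M ε) hy
  rwa [T.sg_inv] at h

theorem T2_two : IsPGroup 2 T.T2 := by
  rintro ⟨g, hg⟩
  obtain ⟨y, hy, ε, rfl⟩ := T.mem_T2.1 hg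
  refine ⟨2, Subtype.ext ?_⟩
  show (y * T.sg ε) ^ (2 ^ 2) = 1
  have e : y * T.sg ε * (y * T.sg ε) = y * (T.sg ε * y * T.sg ε) := by group
  rw [show (2 : ℕ) ^ 2 = 2 * 2 by norm_num, pow_mul, pow_two, pow_two, e]
  exact T.V_sq (mul_mem hy (T.sg_norm_V ε hy))

/-- The sign on a subgroup of `T2`. -/
noncomputable def epsOn {U : Subgroup X} (hU : U ≤ T.T2) : U →* Sgn :=
  T.epsHom.comp (Subgroup.inclusion (hU.trans T.T2_le_M))

theorem card_epsOn {U : Subgroup X} (hU : U ≤ T.T2) :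
    Nat.card U = Nat.card (T.epsOn hU).range * Nat.card ((T.epsOn hU).ker.map U.subtype) := by
  rw [Subgroup.card_eq_card_quotient_mul_card_subgroup (T.epsOn hU).ker,
    Nat.card_congr (QuotientGroup.quotientKerEquivRange (T.epsOn hU)).toEquiv,
    Subgroup.card_map_of_injective U.subtype_injective]

theorem ker_epsOn {U : Subgroup X} (hU : U ≤ T.T2) {g : X} (hg : g ∈ (T.epsOn hU).ker.map U.subtype) :
    g ∈ U ∧ g ∈ T.V := by
  obtain ⟨u, hu, rfl⟩ := hg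
  refine ⟨u.2, ?_⟩
  obtain ⟨y, hy, e⟩ := T.eps_T2 (hU u.2)
  rw [show T.epsHom ⟨_, T.T2_le_M (hU u.2)⟩ = 1 from hu, map_one, mul_one] at e
  show (u : X) ∈ T.V
  rw [e]
  exact hy

/-- In an abelian subgroup of `T2` the part in `V` is fixed by the signs that occur. -/
theorem ker_fixed {U : Subgroup X} (hU : U ≤ T.T2) (hab : ∀ x ∈ U, ∀ y ∈ U, x * y = y * x) {ε : Sgn}
    (hε : ε ∈ (T.epsOn hU).range) : (T.epsOn hU).ker.map U.subtype ≤ T.CV ε := by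
  intro g hg
  obtain ⟨hgU, hgV⟩ := T.ker_epsOn hU hg
  obtain ⟨u, rfl⟩ := hε
  obtain ⟨y, hy, e⟩ := T.eps_T2 (hU u.2)
  change (u : X) = y * T.sg (T.epsOn hU u) at e
  refine T.mem_CV.2 ⟨hgV, ?_⟩
  have h1 : Commute (u : X) g := hab _ u.2 g hgU
  have h2 : Commute y g := T.V_comm hy hgV
  rw [e] at h1
  have := h2.inv_left.mul_left h1
  rw [inv_mul_cancel_left] at this
  exact this.symm.eq

/-- `V` is the only abelian subgroup of order `256` of `T2`. -/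
theorem T2_uniq {U : Subgroup X} (hU : U ≤ T.T2) (hab : ∀ x ∈ U, ∀ y ∈ U, x * y = y * x)
    (hc : Nat.card U = 256) : U = T.V := by
  by_cases hall : ∀ u : U, T.epsOn hU u = 1
  · refine Subgroup.eq_of_le_of_card_ge (fun g hg => ?_) (by rw [T.card_V, hc])
    exact (T.ker_epsOn hU ⟨⟨g, hg⟩, hall _, rfl⟩).2
  · push Not at hall
    obtain ⟨u, hu⟩ := hall
    have hk := (Subgroup.card_le_of_le (T.ker_fixed hU hab ⟨u, rfl⟩)).trans (T.card_CV_le hu)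
    have hr : Nat.card (T.epsOn hU).range ≤ 8 := card_Sgn ▸ Subgroup.card_le_card_group _
    have := T.card_epsOn hU
    have := Nat.mul_le_mul hr hk
    omega

theorem M_mem_two {P : Subgroup X} (hP : IsPGroup 2 P) (hTP : T.T2 ≤ P) {g : X} (hg : g ∈ P)
    (hgM : g ∈ T.M) : g ∈ T.T2 := by
  obtain ⟨y, hy, v, ε, rfl⟩ := T.dec_M hgM
  have ha : T.a v ∈ P := by
    have := mul_mem (mul_mem (inv_mem (hTP (T.V_le_T2 hy))) hg) (inv_mem (hTP (T.sg_mem_T2 ε)))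
    rwa [show y⁻¹ * (y * (T.a v * T.sg ε)) * (T.sg ε)⁻¹ = T.a v by group] at this
  rw [two_three hP ha (T.a_cube v), one_mul]
  exact mul_mem (T.V_le_T2 hy) (T.sg_mem_T2 ε)

theorem sylow_T2 : ∃ P : Sylow 2 X, (P : Subgroup X) = T.T2 := by
  haveI : Fact (Nat.Prime 2) := ⟨Nat.prime_two⟩
  obtain ⟨P, hTP⟩ := T.T2_two.exists_le_sylow
  refine ⟨P, ?_⟩
  by_contra hne
  haveI : Group.IsNilpotent P := P.2.isNilpotent
  have hlt : T.T2.subgroupOf P < ⊤ := lt_top_iff_ne_top.2 fun h =>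
    hne (le_antisymm (Subgroup.subgroupOf_eq_top.1 h) hTP)
  obtain ⟨g, hg, hgT⟩ := SetLike.exists_of_lt ((Group.normalizerCondition_of_isNilpotent (G := P)) _ hlt)
  rw [Subgroup.mem_normalizer_iff] at hg
  have hgn : ∀ x ∈ T.T2, (g : X) * x * (g : X)⁻¹ ∈ T.T2 := fun x hx => (hg ⟨x, hTP hx⟩).1 hx
  have hconj : ∀ k : X, (∀ x ∈ T.T2, k * x * k⁻¹ ∈ T.T2) → ∀ y ∈ T.V, k * y * k⁻¹ ∈ T.V := by
    intro k hk y hy
    have h := T.T2_uniq (U := T.V.map (MulAut.conj k).toMonoidHom)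
      (by rintro _ ⟨z, hz, rfl⟩; exact hk z (T.V_le_T2 hz))
      (by
        rintro _ ⟨z, hz, rfl⟩ _ ⟨w, hw, rfl⟩
        rw [← map_mul, ← map_mul, T.V_comm hz hw])
      (by rw [Subgroup.card_map_of_injective (MulEquiv.injective _), T.card_V])
    rw [← h]
    exact ⟨y, hy, rfl⟩
  have hgN : (g : X) ∈ normalizer (T.V : Set X) := by
    rw [Subgroup.mem_normalizer_iff]
    refine fun y => ⟨hconj g hgn y, fun hy => ?_⟩
    have hgn' : ∀ x ∈ T.T2, (g : X)⁻¹ * x * ((g : X)⁻¹)⁻¹ ∈ T.T2 := by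
      intro x hx
      have h := (hg ((g⁻¹ : P) * ⟨x, hTP hx⟩ * (g⁻¹)⁻¹)).2
      refine h ?_
      simp only [inv_inv, Subgroup.mem_subgroupOf]
      push_cast
      rwa [show (g : X) * ((g : X)⁻¹ * x * g) * (g : X)⁻¹ = x by group]
    have := hconj _ hgn' _ hy
    rwa [inv_inv, show (g : X)⁻¹ * ((g : X) * y * (g : X)⁻¹) * g = y by group] at this
  rw [T.normV] at hgN
  exact hgT (T.M_mem_two P.2 hTP g.2 hgN)

end Flat

end Cfsg.Agent.Spor.OmegaEightThree.X
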