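import Cfsg.Agent.Lib.Spor.OmegaEightThree.X.Classes

/-!
The transfer to the sign changes is injective on them.
-/

set_option autoImplicit false
set_option linter.unusedSectionVars false

namespace Cfsg.Agent.Spor.OmegaEightThree.X

open Subgroup (centralizer normalizer)

theorem flip_inj : ∀ i j : Fin 3, flipSgn i = flipSgn j → i = j := by decide +kernel

theorem flip_ne_neg : ∀ i j : Fin 3, flipSgn i ≠ flipSgn j * -1 := by decide +kernel

/-- The factor of `ε` at the coordinate `i`. -/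
def part (ε : Sgn) (i : Fin 3) (a : Sgn) : Sgn := if ε i = 1 then 1 else a

theorem part_prod : ∀ ε : Sgn, part ε 0 (flipSgn 0) * part ε 1 (flipSgn 1) * part ε 2 (flipSgn 2) = ε := by
  decide +kernel

theorem part_indep' : ∀ ε : Sgn, ∀ a ∈ [flipSgn 0, -1], ∀ b ∈ [flipSgn 1, -1], ∀ c ∈ [flipSgn 2, -1],
    (a = -1 ∧ b = -1) ∨ (a = -1 ∧ c = -1) ∨ (b = -1 ∧ c = -1) ∨
      part ε 0 a * part ε 1 b * part ε 2 c ≠ 1 ∨ ε = 1 := by
  decide +kernel

theorem part_indep (ε a b c : Sgn) (ha : a = flipSgn 0 ∨ a = -1) (hb : b = flipSgn 1 ∨ b = -1)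
    (hc : c = flipSgn 2 ∨ c = -1) (h1 : ¬ (a = -1 ∧ b = -1)) (h2 : ¬ (a = -1 ∧ c = -1))
    (h3 : ¬ (b = -1 ∧ c = -1)) (h : part ε 0 a * part ε 1 b * part ε 2 c = 1) : ε = 1 := by
  rcases part_indep' ε a (by simpa using ha) b (by simpa using hb) c (by simpa using hc) with e | e | e | e | e
  exacts [absurd e h1, absurd e h2, absurd e h3, absurd h e, e]

theorem sgn_double : ∀ a : Sgn, a * a = a → a = 1 := by decide +kernel

/-- A product of terms from `{1, a, b}`. -/
theorem prod_two {ι M : Type*} [CommGroup M] (s : Finset ι) (t : ι → M) {a b : M}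
    (ha : a * a = 1) (hb : b * b = 1) (p : ι → Prop) [DecidablePred p]
    (ht : ∀ q ∈ s, if p q then (t q = a ∨ t q = b) else t q = 1) :
    (Odd (s.filter p).card → ((s.prod t = a) ∨ (s.prod t = b ∧ ∃ q ∈ s, p q ∧ t q = b))) ∧
    (¬ Odd (s.filter p).card → (s.prod t = 1 ∨ (s.prod t = a * b ∧ ∃ q ∈ s, p q ∧ t q = b))) := by
  classical
  induction s using Finset.induction_on with
  | empty => simp
  | @insert q s hq ih =>
    have h1 := ih fun r hr => ht r (Finset.mem_insert_of_mem hr)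
    have h2 := ht q (Finset.mem_insert_self q s)
    rw [Finset.prod_insert hq, Finset.filter_insert]
    have hex : (∃ r ∈ s, p r ∧ t r = b) → ∃ r ∈ insert q s, p r ∧ t r = b :=
      fun ⟨r, hr, h⟩ => ⟨r, Finset.mem_insert_of_mem hr, h⟩
    by_cases hp : p q
    · rw [if_pos hp] at h2 ⊢
      rw [Finset.card_insert_of_notMem (fun h => hq (Finset.mem_filter.1 h).1), Nat.odd_add_one]
      have hqb : t q = b → ∃ r ∈ insert q s, p r ∧ t r = b := fun e => ⟨q, Finset.mem_insert_self q s, hp, e⟩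
      refine ⟨fun ho => ?_, fun ho => ?_⟩
      · rcases h2 with e | e <;> rcases h1.2 ho with e1 | ⟨e1, e2⟩ <;> rw [e, e1]
        · exact Or.inl (mul_one a)
        · exact Or.inr ⟨by rw [← mul_assoc, ha, one_mul], hex e2⟩
        · exact Or.inr ⟨mul_one b, hqb e⟩
        · exact Or.inl (by rw [mul_comm a b, ← mul_assoc, hb, one_mul])
      · rcases h2 with e | e <;> rcases h1.1 (not_not.1 ho) with e1 | ⟨e1, e2⟩ <;> rw [e, e1]
        · exact Or.inl ha
        · exact Or.inr ⟨rfl, hex e2⟩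
        · exact Or.inr ⟨mul_comm b a, hqb e⟩
        · exact Or.inl hb
    · rw [if_neg hp] at h2 ⊢
      rw [h2, one_mul]
      exact ⟨fun ho => (h1.1 ho).imp_right fun ⟨e1, e2⟩ => ⟨e1, hex e2⟩,
        fun ho => (h1.2 ho).imp_right fun ⟨e1, e2⟩ => ⟨e1, hex e2⟩⟩

namespace Flat

variable {X : Type*} [Group X] [Finite X] (T : Flat X)

/-- An involution of `T2` outside `V` is conjugate to its sign change. -/
theorem inv_conj {y : X} (hy : y ∈ T.V) {ε : Sgn} (hε : ε ≠ 1) (h2 : y * T.sg ε * (y * T.sg ε) = 1) :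
    ∃ w : X, w * (y * T.sg ε) * w⁻¹ = T.sg ε := by
  have hfix : y ∈ T.CV ε := by
    refine T.mem_CV.2 ⟨hy, ?_⟩
    have hinv : y * T.sg ε = (y * T.sg ε)⁻¹ := eq_inv_of_mul_eq_one_left h2
    rw [mul_inv_rev, T.sg_inv, (inv_eq_of_mul_eq_one_right (T.V_sq hy) : y⁻¹ = y)] at hinv
    exact hinv
  obtain ⟨w, hw, rfl⟩ := (T.CV_eq hε).2 y hfix
  refine ⟨w, ?_⟩
  have hwi : w⁻¹ = w := inv_eq_of_mul_eq_one_right (T.V_sq hw)
  calc w * (w * (T.sg ε * w * (T.sg ε)⁻¹) * T.sg ε) * w⁻¹ = w * w * T.sg ε * (w * w⁻¹) := by group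
    _ = T.sg ε := by rw [T.V_sq hw, one_mul, mul_inv_cancel, mul_one]

/-- The transfer to the sign changes. -/
noncomputable def Phi : X →* Sgn :=
  letI := T.T2.fintypeQuotientOfFiniteIndex
  MonoidHom.transfer (T.epsOn (le_refl T.T2))

theorem T2_index_odd : Odd T.T2.index := by
  haveI : Fact (Nat.Prime 2) := ⟨Nat.prime_two⟩
  obtain ⟨P, hP⟩ := T.sylow_T2
  rw [← hP, Nat.odd_iff, ← Nat.two_dvd_ne_zero]
  exact P.not_dvd_index

theorem Phi_flip (i : Fin 3) : T.Phi (T.sg (flipSgn i)) = flipSgn i ∨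
    (T.Phi (T.sg (flipSgn i)) = -1 ∧ ∃ g : X, g * T.sg (flipSgn i) * g⁻¹ = T.sg (-1)) := by
  classical
  set z := T.sg (flipSgn i) with hz
  letI := T.T2.fintypeQuotientOfFiniteIndex
  haveI := Fintype.ofFinite (X ⧸ T.T2)
  haveI := Fintype.ofFinite (Quotient (MulAction.orbitRel (Subgroup.zpowers z) (X ⧸ T.T2)))
  rw [Phi, MonoidHom.transfer_eq_prod_quotient_orbitRel_zpowers_quot]
  set p : Quotient (MulAction.orbitRel (Subgroup.zpowers z) (X ⧸ T.T2)) → Prop :=
    fun q => Function.minimalPeriod (z • ·) q.out = 1 with hp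
  have hper : ∀ q : Quotient (MulAction.orbitRel (Subgroup.zpowers z) (X ⧸ T.T2)),
      Function.minimalPeriod (z • ·) q.out = 1 ∨ Function.minimalPeriod (z • ·) q.out = 2 := by
    intro q
    have hm2 : Function.minimalPeriod (z • ·) q.out ∣ 2 := by
      refine Function.IsPeriodicPt.minimalPeriod_dvd ?_
      show (z • ·)^[2] q.out = q.out
      rw [Function.iterate_succ_apply, Function.iterate_one, ← mul_smul, show z * z = 1 from T.sg_sq _, one_smul]
    exact (Nat.dvd_prime Nat.prime_two).1 hm2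
  have hconj : ∀ x : X, ∀ h : x⁻¹ * z * x ∈ T.T2,
      T.epsOn (le_refl T.T2) ⟨_, h⟩ = flipSgn i ∨
        (T.epsOn (le_refl T.T2) ⟨_, h⟩ = -1 ∧ ∃ g : X, g * z * g⁻¹ = T.sg (-1)) := by
    intro x h
    obtain ⟨y, hy, e⟩ := T.eps_T2 h
    change _ = y * T.sg (T.epsOn (le_refl T.T2) ⟨_, h⟩) at e
    generalize T.epsOn (le_refl T.T2) ⟨_, h⟩ = ε at e ⊢
    have hε1 : ε ≠ 1 := by
      rintro rfl
      rw [map_one, mul_one] at e
      refine T.flip_not_V (i := i) x⁻¹ ?_
      rw [inv_inv, ← hz, e]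
      exact hy
    obtain ⟨w, hw⟩ := T.inv_conj hy hε1 (by
      rw [← e, show x⁻¹ * z * x * (x⁻¹ * z * x) = x⁻¹ * (z * z) * x by group, hz, T.sg_sq, mul_one,
        inv_mul_cancel])
    rw [← e, show w * (x⁻¹ * z * x) * w⁻¹ = w * x⁻¹ * z * (w * x⁻¹)⁻¹ by group] at hw
    by_cases h1 : ε = flipSgn i
    · exact Or.inl h1
    by_cases h2 : ε = -1
    · exact Or.inr ⟨h2, _, h2 ▸ hw⟩
    · exact absurd hw (T.flip_not_conj hε1 h1 h2 _)
  have hterm := prod_two (Finset.univ : Finset (Quotient (MulAction.orbitRel (Subgroup.zpowers z) (X ⧸ T.T2))))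
    (fun q => T.epsOn (le_refl T.T2) ⟨q.out.out⁻¹ * z ^ Function.minimalPeriod (z • ·) q.out * q.out.out,
      QuotientGroup.out_conj_pow_minimalPeriod_mem T.T2 z q.out⟩)
    (a := flipSgn i) (b := -1) (sgn_sq _) (sgn_sq _) p (by
      intro q _
      have hmem := QuotientGroup.out_conj_pow_minimalPeriod_mem T.T2 z q.out
      rcases hper q with h | h
      · rw [if_pos h]
        simp only [h, pow_one] at hmem ⊢
        exact (hconj _ hmem).imp_right And.left
      · rw [if_neg (show ¬ Function.minimalPeriod (z • ·) q.out = 1 by rw [h]; norm_num)]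
        refine (congrArg _ (Subtype.ext ?_)).trans (map_one _)
        show q.out.out⁻¹ * z ^ Function.minimalPeriod (z • ·) q.out * q.out.out = 1
        rw [h, pow_two, show z * z = 1 from T.sg_sq _, mul_one, inv_mul_cancel])
  have hodd : Odd (Finset.univ.filter p).card := by
    have hidx := T.T2_index_odd
    rw [T.T2.index_eq_sum_minimalPeriod z, ← Finset.sum_filter_add_sum_filter_not Finset.univ p,
      Finset.sum_congr rfl (fun q hq => (Finset.mem_filter.1 hq).2 : ∀ q ∈ Finset.univ.filter p,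
        Function.minimalPeriod (z • ·) q.out = 1),
      Finset.sum_congr rfl (fun q hq => (hper q).resolve_left (Finset.mem_filter.1 hq).2 :
        ∀ q ∈ Finset.univ.filter (fun q => ¬ p q), Function.minimalPeriod (z • ·) q.out = 2)] at hidx
    simp only [Finset.sum_const, smul_eq_mul, mul_one] at hidx
    exact (Nat.odd_add.1 hidx).2 ⟨_, mul_two _⟩
  rcases hterm.1 hodd with h | ⟨h, q, -, hq, hb⟩
  · exact Or.inl h
  · refine Or.inr ⟨h, ?_⟩
    have hmem := QuotientGroup.out_conj_pow_minimalPeriod_mem T.T2 z q.out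
    change Function.minimalPeriod (z • ·) q.out = 1 at hq
    simp only [hq, pow_one] at hmem hb
    rcases hconj _ hmem with e | ⟨-, hg⟩
    · rw [e] at hb
      exact absurd hb (flip_ne i).2
    · exact hg

theorem Phi_V {y : X} (hy : y ∈ T.V) : T.Phi y = 1 := by
  suffices T.V ≤ T.Phi.ker from this hy
  refine iSup_le fun i => fun x hx => ?_
  show T.Phi x = 1
  rcases eq_or_ne x 1 with rfl | hx1
  · exact map_one _
  obtain ⟨v, hv⟩ := exists_move i
  set x' := T.a v * x * (T.a v)⁻¹ with hx'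
  have hx'm : x' ∈ T.R i := T.R_norm i v x hx
  have hne : x * x' ≠ 1 := by
    intro e
    have h1 : x' = x := mul_left_cancel (e.trans (T.R_sq i x hx).symm)
    exact hx1 (T.R_move i v hv x hx (mul_inv_eq_iff_eq_mul.1 h1))
  have hconst : ∀ w ∈ T.R i, w ≠ 1 → T.Phi w = T.Phi x := by
    intro w hw hw1
    obtain ⟨u, hu⟩ := T.plane_orbit hx hx1 hw hw1
    rw [← hu, map_mul, map_mul, map_inv, mul_comm (T.Phi (T.a u)), mul_inv_cancel_right]
  have h2 := hconst _ (mul_mem hx hx'm) hne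
  rw [map_mul, hconst x' hx'm (fun e => hx1 (by
    rw [hx', mul_inv_eq_one] at e
    exact mul_eq_left.1 e))] at h2
  exact sgn_double _ h2

theorem Phi_A (v : Vec) : T.Phi (T.a v) = 1 := by
  have h := congrArg T.Phi (T.a_cube v)
  rw [map_pow, map_one, pow_succ, pow_two] at h
  exact sgn_cube _ h

theorem Phi_sg_inj (ε : Sgn) (h : T.Phi (T.sg ε) = 1) : ε = 1 := by
  have htwo : ∀ i j, i ≠ j → ¬ (T.Phi (T.sg (flipSgn i)) = -1 ∧ T.Phi (T.sg (flipSgn j)) = -1) := by
    rintro i j hij ⟨hi, hj⟩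
    rcases T.Phi_flip i with e | ⟨-, g, hg⟩
    · exact (flip_ne i).2 (e.symm.trans hi)
    rcases T.Phi_flip j with e | ⟨-, g', hg'⟩
    · exact (flip_ne j).2 (e.symm.trans hj)
    refine T.flip_not_conj (flip_ne j).1 (fun e => hij (flip_inj i j e.symm)) (flip_ne j).2 (g'⁻¹ * g) ?_
    calc g'⁻¹ * g * T.sg (flipSgn i) * (g'⁻¹ * g)⁻¹ = g'⁻¹ * (g * T.sg (flipSgn i) * g⁻¹) * g' := by group
      _ = T.sg (flipSgn j) := by rw [hg, ← hg']; group
  have hc : ∀ i, T.Phi (T.sg (flipSgn i)) = flipSgn i ∨ T.Phi (T.sg (flipSgn i)) = -1 := fun i =>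
    (T.Phi_flip i).imp_right And.left
  refine part_indep ε _ _ _ (hc 0) (hc 1) (hc 2) (htwo 0 1 (by decide)) (htwo 0 2 (by decide))
    (htwo 1 2 (by decide)) ?_
  have hp : ∀ j, part ε j (T.Phi (T.sg (flipSgn j))) = T.Phi (T.sg (part ε j (flipSgn j))) := by
    intro j
    unfold part
    split_ifs
    · rw [map_one, map_one]
    · rfl
  rw [hp, hp, hp, ← map_mul, ← map_mul, ← map_mul, ← map_mul, part_prod, h]

end Flat

end Cfsg.Agent.Spor.OmegaEightThree.X
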